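import Mathlib

set_option autoImplicit false

namespace Cfsg.Agent.Lib.Helper15

open scoped commutatorElement

/-- If `E` is normalized by `closure s` and contains the commutators of elements of `s`, it contains
the derived subgroup of `closure s`. -/
theorem commutator_closure_le {G : Type*} [Group G] (s : Set G) (E : Subgroup G)
    (hE : ∀ h ∈ Subgroup.closure s, ∀ e ∈ E, h * e * h⁻¹ ∈ E)
    (hs : ∀ x ∈ s, ∀ y ∈ s, ⁅x, y⁆ ∈ E) :
    ⁅Subgroup.closure s, Subgroup.closure s⁆ ≤ E := by
  have step1 : ∀ y : G, (∀ x ∈ s, ⁅x, y⁆ ∈ E) → ∀ g ∈ Subgroup.closure s, ⁅g, y⁆ ∈ E := by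
    intro y hy g hg
    induction hg using Subgroup.closure_induction with
    | mem x hx => exact hy x hx
    | one => simp
    | mul g₁ g₂ hg₁ hg₂ ih₁ ih₂ =>
      have : ⁅g₁ * g₂, y⁆ = g₁ * ⁅g₂, y⁆ * g₁⁻¹ * ⁅g₁, y⁆ := by
        simp only [commutatorElement_def]; group
      rw [this]
      exact E.mul_mem (hE g₁ hg₁ _ ih₂) ih₁
    | inv g hg ih =>
      have : ⁅g⁻¹, y⁆ = g⁻¹ * ⁅g, y⁆⁻¹ * g⁻¹⁻¹ := by
        simp only [commutatorElement_def]; group
      rw [this]
      exact hE g⁻¹ ((Subgroup.closure s).inv_mem hg) _ (E.inv_mem ih)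
  rw [Subgroup.commutator_le]
  intro g hg k hk
  have h2 : ∀ x ∈ s, ⁅x, g⁆ ∈ E := by
    intro x hx
    have := step1 x (fun z hz => hs z hz x hx) g hg
    rw [← commutatorElement_inv]
    exact E.inv_mem this
  have := step1 g h2 k hk
  rw [← commutatorElement_inv]
  exact E.inv_mem this

/-- A nontrivial finite `p`-group has a proper subgroup containing all `p`-th powers. -/
theorem exists_ne_top_pow_mem {P : Type*} [Group P] [Finite P] [Nontrivial P] {p : ℕ}
    [Fact p.Prime] (hP : IsPGroup p P) : ∃ M : Subgroup P, M ≠ ⊤ ∧ ∀ x : P, x ^ p ∈ M := by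
  haveI : Group.IsNilpotent P := hP.isNilpotent
  have hlt : commutator P < ⊤ := Group.IsSolvable.commutator_lt_top_of_nontrivial P
  haveI : Nontrivial (Abelianization P) := by
    unfold Abelianization
    exact QuotientGroup.nontrivial_iff.mpr hlt.ne
  have hA : IsPGroup p (Abelianization P) := hP.to_quotient _
  have hdvd : p ∣ Nat.card (Abelianization P) := by
    rcases hA.card_eq_or_dvd with h | h
    · exact absurd (Nat.card_eq_one_iff_unique.mp h).1 (not_subsingleton _)
    · exact h
  obtain ⟨a, ha⟩ := exists_prime_orderOf_dvd_card' p hdvd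
  have hf : ¬ Function.Injective (powMonoidHom p : Abelianization P →* Abelianization P) := by
    intro h
    have h1 : (powMonoidHom p : Abelianization P →* Abelianization P) a = 1 := by
      simp only [powMonoidHom_apply]
      rw [← ha]; exact pow_orderOf_eq_one a
    have h2 : a = 1 := h (by rw [h1, map_one])
    rw [h2, orderOf_one] at ha
    exact (Fact.out : p.Prime).one_lt.ne ha
  have hf' : ¬ Function.Surjective (powMonoidHom p : Abelianization P →* Abelianization P) :=
    fun h => hf (Finite.injective_iff_surjective.mpr h)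
  have hsurj : Function.Surjective (Abelianization.of (G := P)) := QuotientGroup.mk_surjective
  refine ⟨(powMonoidHom p : Abelianization P →* Abelianization P).range.comap Abelianization.of,
    ?_, ?_⟩
  · intro htop
    apply hf'
    rw [← MonoidHom.range_eq_top]
    have := congrArg (Subgroup.map (Abelianization.of (G := P))) htop
    rw [Subgroup.map_comap_eq_self_of_surjective hsurj,
      ← MonoidHom.range_eq_map, MonoidHom.range_eq_top.mpr hsurj] at this
    exact this
  · intro x
    rw [Subgroup.mem_comap, map_pow]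
    exact ⟨Abelianization.of x, rfl⟩

/-- Subgroup version: a nontrivial finite `p`-subgroup `D` has a proper subgroup containing all
`p`-th powers of elements of `D`. -/
theorem exists_lt_pow_mem {G : Type*} [Group G] [Finite G] {p : ℕ} [Fact p.Prime]
    (D : Subgroup G) (hD : IsPGroup p D) (hne : D ≠ ⊥) :
    ∃ M : Subgroup G, M < D ∧ ∀ x ∈ D, x ^ p ∈ M := by
  haveI : Nontrivial D := (Subgroup.nontrivial_iff_ne_bot D).mpr hne
  obtain ⟨M, hM, hpow⟩ := exists_ne_top_pow_mem hD
  refine ⟨M.map D.subtype, ?_, ?_⟩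
  · refine lt_of_le_of_ne (Subgroup.map_subtype_le M) ?_
    intro h
    apply hM
    apply Subgroup.map_injective D.subtype_injective
    rw [h, ← MonoidHom.range_eq_map, Subgroup.range_subtype]
  · intro x hx
    exact ⟨⟨x, hx⟩ ^ p, hpow ⟨x, hx⟩, by simp⟩

end Cfsg.Agent.Lib.Helper15
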