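import Mathlib

/-!
# Quadratic pairs: the chain lemma (helper15)

`G = ⟨a, b⟩`, `ρ` a representation of `G` on a finite dimensional `F`-space (`char F = p`) with
`(ρ a - 1)² = (ρ b - 1)² = 0` and such that `X ^ n - 1` splits over `F` for some `n > 0` with
`(a * b) ^ n = 1`.  If `G / ker ρ` is not a `p`-group there is a homomorphism
`φ : G → SL₂(F)` with `ker ρ ≤ ker φ` and `G / ker φ` not a `p`-group.
-/

set_option autoImplicit false

namespace Cfsg.Agent.Lib.Helper15.QuadChain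

open Module Polynomial

universe u v w

section PQuot

variable {G : Type*} [Group G]

/-- every element of `G` has a `p`-power lying in `N` (for normal `N`: `G ⧸ N` is a `p`-group). -/
def PQuot (p : ℕ) (N : Subgroup G) : Prop := ∀ g : G, ∃ k : ℕ, g ^ p ^ k ∈ N

theorem PQuot.mono {p : ℕ} {N N' : Subgroup G} (h : N ≤ N') (hN : PQuot p N) : PQuot p N' :=
  fun g => let ⟨k, hk⟩ := hN g; ⟨k, h hk⟩

theorem pquot_ker_iff_range {M : Type*} [Group M] (p : ℕ) (φ : G →* M) :
    PQuot p φ.ker ↔ IsPGroup p φ.range := by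
  constructor
  · rintro h ⟨_, g, rfl⟩
    obtain ⟨k, hk⟩ := h g
    refine ⟨k, Subtype.ext ?_⟩
    simpa [MonoidHom.mem_ker] using hk
  · intro h g
    obtain ⟨k, hk⟩ := h ⟨φ g, g, rfl⟩
    refine ⟨k, ?_⟩
    have := congrArg Subtype.val hk
    simpa [MonoidHom.mem_ker] using this

theorem pquot_iff_quotient (p : ℕ) (N : Subgroup G) [N.Normal] :
    PQuot p N ↔ IsPGroup p (G ⧸ N) := by
  constructor
  · intro h x
    induction x using QuotientGroup.induction_on with
    | H g =>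
      obtain ⟨k, hk⟩ := h g
      refine ⟨k, ?_⟩
      rw [← QuotientGroup.mk_pow]
      exact (QuotientGroup.eq_one_iff _).2 hk
  · intro h g
    obtain ⟨k, hk⟩ := h (g : G ⧸ N)
    refine ⟨k, ?_⟩
    rw [← QuotientGroup.mk_pow] at hk
    exact (QuotientGroup.eq_one_iff _).1 hk

theorem pquot_top (p : ℕ) : PQuot p (⊤ : Subgroup G) := fun _ => ⟨0, Subgroup.mem_top _⟩

end PQuot

section Ring

variable {A : Type*} [Ring A]

theorem one_add_pow_of_sq_zero (n : A) (h : n * n = 0) (k : ℕ) : (1 + n) ^ k = 1 + k • n := by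
  induction k with
  | zero => simp
  | succ k ih =>
    rw [pow_succ, ih, mul_add, mul_one, add_mul, one_mul, smul_mul_assoc, h, smul_zero, add_zero,
      succ_nsmul]
    abel

theorem pow_eq_one_of_sq_zero {F : Type*} [Field F] [Algebra F A] (p : ℕ) [CharP F p] (x : A)
    (h : (x - 1) * (x - 1) = 0) : x ^ p = 1 := by
  have h1 := one_add_pow_of_sq_zero (x - 1) h p
  rw [add_sub_cancel] at h1
  rw [h1, ← Nat.cast_smul_eq_nsmul F, CharP.cast_eq_zero, zero_smul, add_zero]

end Ring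

section Rep

variable {F : Type u} [Field F] {G : Type w} [Group G] {W : Type v} [AddCommGroup W] [Module F W]

theorem rho_inv_of_quad (ρ : Representation F G W) (g : G) (h : (ρ g - 1) * (ρ g - 1) = 0) :
    ρ g⁻¹ = 2 - ρ g := by
  have h1 : ρ g * (2 - ρ g) = 1 := by
    have : ρ g * (2 - ρ g) = 1 - (ρ g - 1) * (ρ g - 1) := by noncomm_ring
    rw [this, h, sub_zero]
  calc ρ g⁻¹ = ρ g⁻¹ * (ρ g * (2 - ρ g)) := by rw [h1, mul_one]
    _ = (ρ g⁻¹ * ρ g) * (2 - ρ g) := by rw [mul_assoc]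
    _ = 2 - ρ g := by rw [← map_mul, inv_mul_cancel, map_one, one_mul]

theorem invariant_of_gens (ρ : Representation F G W) (a b : G)
    (hgen : Subgroup.closure {a, b} = ⊤)
    (ha : (ρ a - 1) * (ρ a - 1) = 0) (hb : (ρ b - 1) * (ρ b - 1) = 0) (U : Submodule F W)
    (hUa : ∀ u ∈ U, ρ a u ∈ U) (hUb : ∀ u ∈ U, ρ b u ∈ U) : ∀ g, U ≤ U.comap (ρ g) := by
  let S : Subgroup G :=
    { carrier := {g | (∀ u ∈ U, ρ g u ∈ U) ∧ (∀ u ∈ U, ρ g⁻¹ u ∈ U)}
      one_mem' := by simp
      mul_mem' := by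
        rintro x y ⟨hx1, hx2⟩ ⟨hy1, hy2⟩
        refine ⟨fun u hu => ?_, fun u hu => ?_⟩
        · rw [map_mul]; exact hx1 _ (hy1 u hu)
        · rw [mul_inv_rev, map_mul]; exact hy2 _ (hx2 u hu)
      inv_mem' := by
        rintro x ⟨hx1, hx2⟩
        exact ⟨hx2, by simpa using hx1⟩ }
  have key : ∀ x : G, (ρ x - 1) * (ρ x - 1) = 0 → (∀ u ∈ U, ρ x u ∈ U) → x ∈ S := by
    intro x hx hUx
    refine ⟨hUx, fun u hu => ?_⟩
    rw [rho_inv_of_quad ρ x hx]
    have : (2 - ρ x) u = (2 : F) • u - ρ x u := by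
      simp [two_smul, ← one_add_one_eq_two, add_smul]
    rw [this]
    exact U.sub_mem (U.smul_mem _ hu) (hUx u hu)
  have hS : S = ⊤ := by
    rw [eq_top_iff, ← hgen, Subgroup.closure_le]
    rintro x (rfl | rfl)
    · exact key _ ha hUa
    · exact key _ hb hUb
  intro g u hu
  have : g ∈ S := hS ▸ Subgroup.mem_top g
  exact this.1 u hu

theorem span_pair_invariant (ρ : Representation F G W) (a b : G)
    (ha : (ρ a - 1) * (ρ a - 1) = 0) (hb : (ρ b - 1) * (ρ b - 1) = 0)
    (v : W) (μ : F) (hμ : μ ≠ 0) (hv : ρ (a * b) v = μ • v) :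
    (∀ u ∈ Submodule.span F {v, ρ b v}, ρ a u ∈ Submodule.span F {v, ρ b v}) ∧
      (∀ u ∈ Submodule.span F {v, ρ b v}, ρ b u ∈ Submodule.span F {v, ρ b v}) := by
  set U := Submodule.span F {v, ρ b v} with hU
  have hvU : v ∈ U := Submodule.subset_span (by simp)
  have hbvU : ρ b v ∈ U := Submodule.subset_span (by simp)
  have hab : ρ a (ρ b v) = μ • v := by rw [← hv, map_mul]; rfl
  have hbb : ρ b (ρ b v) = (2 : F) • ρ b v - v := by
    have := congrArg (fun f : W →ₗ[F] W => f v) hb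
    simp only [Module.End.mul_apply, LinearMap.sub_apply, Module.End.one_apply,
      LinearMap.zero_apply, map_sub] at this
    rw [two_smul]
    have h2 : ρ b (ρ b v) - ρ b v - (ρ b v - v) = 0 := this
    have h3 : ρ b (ρ b v) = ρ b (ρ b v) - ρ b v - (ρ b v - v) + (ρ b v + ρ b v - v) := by abel
    rw [h3, h2, zero_add]
  have hav : ρ a v = (2 : F) • v - μ⁻¹ • ρ b v := by
    have h1 : ρ a⁻¹ (μ • v) = ρ b v := by
      rw [← hv, ← Module.End.mul_apply, ← map_mul, inv_mul_cancel_left]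
    rw [rho_inv_of_quad ρ a ha] at h1
    have h2 : (2 - ρ a) (μ • v) = μ • ((2 : F) • v - ρ a v) := by
      simp [two_smul, ← one_add_one_eq_two, add_smul, smul_sub]
    rw [h2] at h1
    rw [← h1, smul_smul, inv_mul_cancel₀ hμ, one_smul]
    abel
  constructor
  · intro u hu
    have : U.map (ρ a) ≤ U := by
      rw [hU, Submodule.map_span, Submodule.span_le]
      rintro _ ⟨x, (rfl | rfl), rfl⟩
      · rw [hav]; exact U.sub_mem (U.smul_mem _ hvU) (U.smul_mem _ hbvU)
      · rw [hab]; exact U.smul_mem _ hvU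
    exact this ⟨u, hu, rfl⟩
  · intro u hu
    have : U.map (ρ b) ≤ U := by
      rw [hU, Submodule.map_span, Submodule.span_le]
      rintro _ ⟨x, (rfl | rfl), rfl⟩
      · exact hbvU
      · rw [hbb]; exact U.sub_mem (U.smul_mem _ hbvU) hvU
    exact this ⟨u, hu, rfl⟩

theorem pquot_of_sub_quot (p : ℕ) [Fact p.Prime] [CharP F p] (ρ : Representation F G W)
    (U : Submodule F W) (hU : ∀ g, U ≤ U.comap (ρ g))
    (h1 : PQuot p (ρ.subrepresentation U hU).ker) (h2 : PQuot p (ρ.quotient U hU).ker) :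
    PQuot p ρ.ker := by
  intro g
  obtain ⟨i, hi⟩ := h1 g
  obtain ⟨j, hj⟩ := h2 g
  set h := g ^ p ^ (i + j) with hh
  have hh1 : h ∈ (ρ.subrepresentation U hU).ker := by
    rw [hh, pow_add, pow_mul]; exact Subgroup.pow_mem _ hi _
  have hh2 : h ∈ (ρ.quotient U hU).ker := by
    rw [hh, pow_add, mul_comm, pow_mul]; exact Subgroup.pow_mem _ hj _
  rw [MonoidHom.mem_ker] at hh1 hh2
  have hx1 : ∀ u ∈ U, ρ h u = u := by
    intro u hu
    have := congrArg (fun f : U →ₗ[F] U => (f ⟨u, hu⟩ : W)) hh1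
    simpa using this
  have hx2 : ∀ w : W, ρ h w - w ∈ U := by
    intro w
    have := congrArg (fun f : (W ⧸ U) →ₗ[F] (W ⧸ U) => f (Submodule.Quotient.mk w)) hh2
    simp only [Representation.quotient_apply, Submodule.mapQ_apply, Module.End.one_apply] at this
    exact (Submodule.Quotient.eq U).1 this
  have hsq : (ρ h - 1) * (ρ h - 1) = 0 := by
    ext w
    simp only [Module.End.mul_apply, LinearMap.sub_apply, Module.End.one_apply, LinearMap.zero_apply]
    have := hx1 _ (hx2 w)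
    rw [map_sub] at this ⊢
    rw [sub_eq_zero]
    exact this
  have hp := pow_eq_one_of_sq_zero (F := F) p (ρ h) hsq
  refine ⟨i + j + 1, ?_⟩
  rw [MonoidHom.mem_ker, pow_succ, pow_mul, ← hh, map_pow, hp]

theorem ker_le_sub (ρ : Representation F G W) (U : Submodule F W) (hU : ∀ g, U ≤ U.comap (ρ g)) :
    ρ.ker ≤ (ρ.subrepresentation U hU).ker := by
  intro g hg
  rw [MonoidHom.mem_ker] at hg ⊢
  ext u
  simp [hg]

theorem ker_le_quot (ρ : Representation F G W) (U : Submodule F W) (hU : ∀ g, U ≤ U.comap (ρ g)) :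
    ρ.ker ≤ (ρ.quotient U hU).ker := by
  intro g hg
  rw [MonoidHom.mem_ker] at hg ⊢
  ext u
  simp [hg]

theorem sub_quad (ρ : Representation F G W) (U : Submodule F W) (hU : ∀ g, U ≤ U.comap (ρ g))
    (g : G) (h : (ρ g - 1) * (ρ g - 1) = 0) :
    (ρ.subrepresentation U hU g - 1) * (ρ.subrepresentation U hU g - 1) = 0 := by
  ext u
  have := congrArg (fun f : W →ₗ[F] W => f u) h
  simpa using this

theorem quot_quad (ρ : Representation F G W) (U : Submodule F W) (hU : ∀ g, U ≤ U.comap (ρ g))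
    (g : G) (h : (ρ g - 1) * (ρ g - 1) = 0) :
    (ρ.quotient U hU g - 1) * (ρ.quotient U hU g - 1) = 0 := by
  ext u
  have := congrArg (fun f : W →ₗ[F] W => Submodule.Quotient.mk (p := U) (f u)) h
  simpa using this

theorem eq_one_of_quad_of_finrank_one (hfr : finrank F W = 1) (x : W →ₗ[F] W)
    (h : (x - 1) * (x - 1) = 0) : x = 1 := by
  obtain ⟨v, hv0, hv⟩ := finrank_eq_one_iff'.1 hfr
  obtain ⟨c, hc⟩ := hv ((x - 1) v)
  have h2 : (x - 1) ((x - 1) v) = 0 := by
    have := congrArg (fun f : W →ₗ[F] W => f v) h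
    simpa using this
  rw [← hc, map_smul, ← hc, smul_smul] at h2
  have hc0 : c = 0 := by
    rcases smul_eq_zero.1 h2 with h3 | h3
    · exact mul_self_eq_zero.1 h3
    · exact absurd h3 hv0
  rw [hc0, zero_smul] at hc
  have : x - 1 = 0 := by
    ext w
    obtain ⟨d, rfl⟩ := hv w
    rw [map_smul, ← hc, smul_zero, LinearMap.zero_apply]
  exact sub_eq_zero.1 this

theorem ker_eq_top_of_finrank_one (ρ : Representation F G W) (a b : G)
    (hgen : Subgroup.closure {a, b} = ⊤)
    (ha : (ρ a - 1) * (ρ a - 1) = 0) (hb : (ρ b - 1) * (ρ b - 1) = 0)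
    (hfr : finrank F W = 1) : ρ.ker = ⊤ := by
  rw [eq_top_iff, ← hgen, Subgroup.closure_le]
  rintro x (rfl | rfl)
  · exact eq_one_of_quad_of_finrank_one hfr _ ha
  · exact eq_one_of_quad_of_finrank_one hfr _ hb

theorem exists_hom_SL2 (p : ℕ) [Fact p.Prime] [CharP F p] (ρ : Representation F G W) (a b : G)
    (hgen : Subgroup.closure {a, b} = ⊤)
    (ha : (ρ a - 1) * (ρ a - 1) = 0) (hb : (ρ b - 1) * (ρ b - 1) = 0)
    (hfr : finrank F W = 2) :
    ∃ φ : G →* Matrix.SpecialLinearGroup (Fin 2) F, φ.ker = ρ.ker := by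
  classical
  haveI : Module.Finite F W := Module.finite_of_finrank_pos (by omega)
  let β : Basis (Fin 2) F W := finBasisOfFinrankEq F W hfr
  let Φ : (W →ₗ[F] W) ≃ₐ[F] Matrix (Fin 2) (Fin 2) F := LinearMap.toMatrixAlgEquiv β
  let M : G →* Matrix (Fin 2) (Fin 2) F := (Φ : (W →ₗ[F] W) →* Matrix (Fin 2) (Fin 2) F).comp ρ
  have hMapp : ∀ g, M g = Φ (ρ g) := fun g => rfl
  let D : G →* F := Matrix.detMonoidHom.comp M
  have hDapp : ∀ g, D g = (M g).det := fun g => rfl
  have key : ∀ x : G, (ρ x - 1) * (ρ x - 1) = 0 → x ∈ D.ker := by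
    intro x hx
    have h1 := pow_eq_one_of_sq_zero (F := F) p (ρ x) hx
    have h2 : D x ^ p = 1 := by
      rw [hDapp, hMapp, ← Matrix.det_pow, ← map_pow, h1, map_one, Matrix.det_one]
    have h3 : (D x - 1) ^ p = 0 := by rw [sub_pow_char, h2, one_pow, sub_self]
    rw [MonoidHom.mem_ker]
    exact sub_eq_zero.1 (pow_eq_zero_iff (Fact.out : p.Prime).ne_zero |>.1 h3)
  have hD : D.ker = ⊤ := by
    rw [eq_top_iff, ← hgen, Subgroup.closure_le]
    rintro x (rfl | rfl)
    · exact key _ ha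
    · exact key _ hb
  have hdet : ∀ g, (M g).det = 1 := by
    intro g
    have : g ∈ D.ker := hD ▸ Subgroup.mem_top g
    exact this
  refine ⟨{ toFun := fun g => ⟨M g, hdet g⟩
            map_one' := Subtype.ext (map_one M)
            map_mul' := fun x y => Subtype.ext (map_mul M x y) }, ?_⟩
  ext g
  simp only [MonoidHom.mem_ker]
  constructor
  · intro h
    have h1 : M g = 1 := congrArg Subtype.val h
    rw [hMapp] at h1
    exact Φ.injective (h1.trans (map_one Φ).symm)
  · intro h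
    apply Subtype.ext
    change M g = 1
    rw [hMapp, h, map_one]

end Rep

/-- **Chain lemma.** -/
theorem chain (p : ℕ) [Fact p.Prime] {F : Type u} [Field F] [CharP F p] {G : Type w} [Group G]
    (a b : G) (hgen : Subgroup.closure {a, b} = ⊤) (n : ℕ) (hn : 0 < n) (habn : (a * b) ^ n = 1)
    (hsplit : (X ^ n - 1 : F[X]).Splits) :
    ∀ (d : ℕ) (W : Type v) [AddCommGroup W] [Module F W] [FiniteDimensional F W]
      (ρ : Representation F G W), finrank F W = d →
      (ρ a - 1) * (ρ a - 1) = 0 → (ρ b - 1) * (ρ b - 1) = 0 → ¬ PQuot p ρ.ker →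
      ∃ φ : G →* Matrix.SpecialLinearGroup (Fin 2) F, ρ.ker ≤ φ.ker ∧ ¬ PQuot p φ.ker := by
  intro d
  induction d using Nat.strong_induction_on with
  | _ d ih =>
  intro W _ _ _ ρ hd ha hb hnp
  have hpos : 0 < finrank F W := by
    by_contra h0
    have h0' : finrank F W = 0 := by omega
    haveI : Subsingleton W := finrank_zero_iff.1 h0'
    apply hnp
    have : ρ.ker = ⊤ := by
      rw [eq_top_iff]; intro g _; rw [MonoidHom.mem_ker]; ext w; exact Subsingleton.elim _ _
    rw [this]; exact pquot_top p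
  haveI : Nontrivial W := finrank_pos_iff.1 hpos
  set T := ρ (a * b) with hT
  have hTn : T ^ n = 1 := by rw [hT, ← map_pow, habn, map_one]
  have hdvd : minpoly F T ∣ X ^ n - 1 := minpoly.dvd F T (by simp [hTn])
  have hne : (X ^ n - 1 : F[X]) ≠ 0 := by
    have := (monic_X_pow_sub_C (1 : F) hn.ne').ne_zero
    simpa using this
  have hsp : (minpoly F T).Splits := hsplit.of_dvd hne hdvd
  have hdeg : (minpoly F T).degree ≠ 0 :=
    (minpoly.degree_pos (Algebra.IsIntegral.isIntegral T)).ne'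
  obtain ⟨μ, hμ⟩ := hsp.exists_eval_eq_zero hdeg
  have hev : Module.End.HasEigenvalue T μ := Module.End.hasEigenvalue_of_isRoot hμ
  obtain ⟨v, hv⟩ := hev.exists_hasEigenvector
  have hv0 : v ≠ 0 := hv.2
  have hTv : T v = μ • v := hv.apply_eq_smul
  have hμ0 : μ ≠ 0 := by
    rintro rfl
    rw [zero_smul] at hTv
    have : (T ^ n) v = 0 := by
      obtain ⟨m, rfl⟩ := Nat.exists_eq_succ_of_ne_zero hn.ne'
      rw [pow_succ, Module.End.mul_apply, hTv, map_zero]
    rw [hTn] at this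
    exact hv0 this
  obtain ⟨hUa, hUb⟩ := span_pair_invariant ρ a b ha hb v μ hμ0 hTv
  set U := Submodule.span F {v, ρ b v} with hUdef
  have hU := invariant_of_gens ρ a b hgen ha hb U hUa hUb
  have hvU : v ∈ U := Submodule.subset_span (by simp)
  have hUpos : 0 < finrank F U :=
    finrank_pos_iff.2 ⟨⟨v, hvU⟩, 0, by simpa [Subtype.ext_iff] using hv0⟩
  have hUle : finrank F U ≤ 2 := by
    classical
    have h1 := finrank_span_finset_le_card (R := F) ({v, ρ b v} : Finset W)
    have h2 : ({v, ρ b v} : Finset W).card ≤ 2 := Finset.card_le_two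
    have h3 : Set.finrank F (({v, ρ b v} : Finset W) : Set W) = finrank F U := by
      have h4 : (({v, ρ b v} : Finset W) : Set W) = {v, ρ b v} := by ext x; simp
      rw [h4]
      rfl
    omega
  by_cases hQ : PQuot p (ρ.quotient U hU).ker
  · have hUn : ¬ PQuot p (ρ.subrepresentation U hU).ker :=
      fun h => hnp (pquot_of_sub_quot p ρ U hU h hQ)
    have hfr2 : finrank F U = 2 := by
      by_contra hne2
      have h1 : finrank F U = 1 := by omega
      apply hUn
      rw [ker_eq_top_of_finrank_one _ a b hgen (sub_quad ρ U hU a ha) (sub_quad ρ U hU b hb) h1]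
      exact pquot_top p
    obtain ⟨φ, hφ⟩ := exists_hom_SL2 p (ρ.subrepresentation U hU) a b hgen
      (sub_quad ρ U hU a ha) (sub_quad ρ U hU b hb) hfr2
    exact ⟨φ, hφ ▸ ker_le_sub ρ U hU, hφ ▸ hUn⟩
  · have hlt : finrank F (W ⧸ U) < d := by
      have := Submodule.finrank_quotient_add_finrank U
      omega
    obtain ⟨φ, hφ1, hφ2⟩ := ih _ hlt (W ⧸ U) (ρ.quotient U hU) rfl
      (quot_quad ρ U hU a ha) (quot_quad ρ U hU b hb) hQ
    exact ⟨φ, (ker_le_quot ρ U hU).trans hφ1, hφ2⟩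

end Cfsg.Agent.Lib.Helper15.QuadChain
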