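import Mathlib
import Cfsg.Agent.Lib.Helper15.QuadChain

/-!
# Quadratic pairs: the chain lemma, tracking a set of elements (helper15)

Same as `QuadChain.chain`, but instead of "`G / ker` is not a `p`-group" we track a set `S` of
elements: some element of `S` has no `p`-power in the kernel.
-/

set_option autoImplicit false

namespace Cfsg.Agent.Lib.Helper15.QuadChainOn

open Module Polynomial Cfsg.Agent.Lib.Helper15.QuadChain

universe u v w

section

variable {G : Type*} [Group G]

/-- every element of `S` has a `p`-power lying in `N`. -/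
def PQuotOn (p : ℕ) (S : Set G) (N : Subgroup G) : Prop := ∀ g ∈ S, ∃ k : ℕ, g ^ p ^ k ∈ N

theorem pquotOn_top (p : ℕ) (S : Set G) : PQuotOn p S (⊤ : Subgroup G) :=
  fun _ _ => ⟨0, Subgroup.mem_top _⟩

theorem pquotOn_univ (p : ℕ) (N : Subgroup G) : PQuotOn p Set.univ N ↔ PQuot p N :=
  ⟨fun h g => h g (Set.mem_univ g), fun h g _ => h g⟩

end

section Rep

variable {F : Type u} [Field F] {G : Type w} [Group G] {W : Type v} [AddCommGroup W] [Module F W]

theorem pquotOn_of_sub_quot (p : ℕ) [Fact p.Prime] [CharP F p] (S : Set G)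
    (ρ : Representation F G W)
    (U : Submodule F W) (hU : ∀ g, U ≤ U.comap (ρ g))
    (h1 : PQuotOn p S (ρ.subrepresentation U hU).ker) (h2 : PQuotOn p S (ρ.quotient U hU).ker) :
    PQuotOn p S ρ.ker := by
  intro g hgS
  obtain ⟨i, hi⟩ := h1 g hgS
  obtain ⟨j, hj⟩ := h2 g hgS
  set h := g ^ p ^ (i + j) with hh
  have hh1 : h ∈ (ρ.subrepresentation U hU).ker := by
    rw [hh, pow_add, pow_mul]; exact Subgroup.pow_mem _ hi _
  have hh2 : h ∈ (ρ.quotient U hU).ker := by
    rw [hh, pow_add, mul_comm, pow_mul]; exact Subgroup.pow_mem _ hj _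
  rw [MonoidHom.mem_ker] at hh1 hh2
  have hx1 : ∀ u ∈ U, ρ h u = u := by
    intro u hu
    have := congrArg (fun f : U →ₗ[F] U => (f ⟨u, hu⟩ : W)) hh1
    simpa using this
  have hx2 : ∀ w : W, ρ h w - w ∈ U := by
    intro w
    have := congrArg (fun f : (W ⧸ U) →ₗ[F] (W ⧸ U) => f (Submodule.Quotient.mk w)) hh2
    simp only [Representation.quotient_apply, Submodule.mapQ_apply, Module.End.one_apply] at this
    exact (Submodule.Quotient.eq U).1 this
  have hsq : (ρ h - 1) * (ρ h - 1) = 0 := by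
    ext w
    simp only [Module.End.mul_apply, LinearMap.sub_apply, Module.End.one_apply, LinearMap.zero_apply]
    have := hx1 _ (hx2 w)
    rw [map_sub] at this ⊢
    rw [sub_eq_zero]
    exact this
  have hp := pow_eq_one_of_sq_zero (F := F) p (ρ h) hsq
  refine ⟨i + j + 1, ?_⟩
  rw [MonoidHom.mem_ker, pow_succ, pow_mul, ← hh, map_pow, hp]

end Rep

/-- **Chain lemma, tracking a set.** -/
theorem chainOn (p : ℕ) [Fact p.Prime] {F : Type u} [Field F] [CharP F p] {G : Type w} [Group G]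
    (a b : G) (hgen : Subgroup.closure {a, b} = ⊤) (n : ℕ) (hn : 0 < n) (habn : (a * b) ^ n = 1)
    (hsplit : (X ^ n - 1 : F[X]).Splits) (S : Set G) :
    ∀ (d : ℕ) (W : Type v) [AddCommGroup W] [Module F W] [FiniteDimensional F W]
      (ρ : Representation F G W), finrank F W = d →
      (ρ a - 1) * (ρ a - 1) = 0 → (ρ b - 1) * (ρ b - 1) = 0 → ¬ PQuotOn p S ρ.ker →
      ∃ φ : G →* Matrix.SpecialLinearGroup (Fin 2) F, ρ.ker ≤ φ.ker ∧ ¬ PQuotOn p S φ.ker := by
  intro d
  induction d using Nat.strong_induction_on with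
  | _ d ih =>
  intro W _ _ _ ρ hd ha hb hnp
  have hpos : 0 < finrank F W := by
    by_contra h0
    have h0' : finrank F W = 0 := by omega
    haveI : Subsingleton W := finrank_zero_iff.1 h0'
    apply hnp
    have : ρ.ker = ⊤ := by
      rw [eq_top_iff]; intro g _; rw [MonoidHom.mem_ker]; ext w; exact Subsingleton.elim _ _
    rw [this]; exact pquotOn_top p S
  haveI : Nontrivial W := finrank_pos_iff.1 hpos
  set T := ρ (a * b) with hT
  have hTn : T ^ n = 1 := by rw [hT, ← map_pow, habn, map_one]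
  have hdvd : minpoly F T ∣ X ^ n - 1 := minpoly.dvd F T (by simp [hTn])
  have hne : (X ^ n - 1 : F[X]) ≠ 0 := by
    have := (monic_X_pow_sub_C (1 : F) hn.ne').ne_zero
    simpa using this
  have hsp : (minpoly F T).Splits := hsplit.of_dvd hne hdvd
  have hdeg : (minpoly F T).degree ≠ 0 :=
    (minpoly.degree_pos (Algebra.IsIntegral.isIntegral T)).ne'
  obtain ⟨μ, hμ⟩ := hsp.exists_eval_eq_zero hdeg
  have hev : Module.End.HasEigenvalue T μ := Module.End.hasEigenvalue_of_isRoot hμ
  obtain ⟨v, hv⟩ := hev.exists_hasEigenvector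
  have hv0 : v ≠ 0 := hv.2
  have hTv : T v = μ • v := hv.apply_eq_smul
  have hμ0 : μ ≠ 0 := by
    rintro rfl
    rw [zero_smul] at hTv
    have : (T ^ n) v = 0 := by
      obtain ⟨m, rfl⟩ := Nat.exists_eq_succ_of_ne_zero hn.ne'
      rw [pow_succ, Module.End.mul_apply, hTv, map_zero]
    rw [hTn] at this
    exact hv0 this
  obtain ⟨hUa, hUb⟩ := span_pair_invariant ρ a b ha hb v μ hμ0 hTv
  set U := Submodule.span F {v, ρ b v} with hUdef
  have hU := invariant_of_gens ρ a b hgen ha hb U hUa hUb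
  have hvU : v ∈ U := Submodule.subset_span (by simp)
  have hUpos : 0 < finrank F U :=
    finrank_pos_iff.2 ⟨⟨v, hvU⟩, 0, by simpa [Subtype.ext_iff] using hv0⟩
  have hUle : finrank F U ≤ 2 := by
    classical
    have h1 := finrank_span_finset_le_card (R := F) ({v, ρ b v} : Finset W)
    have h2 : ({v, ρ b v} : Finset W).card ≤ 2 := Finset.card_le_two
    have h3 : Set.finrank F (({v, ρ b v} : Finset W) : Set W) = finrank F U := by
      have h4 : (({v, ρ b v} : Finset W) : Set W) = {v, ρ b v} := by ext x; simp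
      rw [h4]
      rfl
    omega
  by_cases hQ : PQuotOn p S (ρ.quotient U hU).ker
  · have hUn : ¬ PQuotOn p S (ρ.subrepresentation U hU).ker :=
      fun h => hnp (pquotOn_of_sub_quot p S ρ U hU h hQ)
    have hfr2 : finrank F U = 2 := by
      by_contra hne2
      have h1 : finrank F U = 1 := by omega
      apply hUn
      rw [ker_eq_top_of_finrank_one _ a b hgen (sub_quad ρ U hU a ha) (sub_quad ρ U hU b hb) h1]
      exact pquotOn_top p S
    obtain ⟨φ, hφ⟩ := exists_hom_SL2 p (ρ.subrepresentation U hU) a b hgen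
      (sub_quad ρ U hU a ha) (sub_quad ρ U hU b hb) hfr2
    exact ⟨φ, hφ ▸ ker_le_sub ρ U hU, hφ ▸ hUn⟩
  · have hlt : finrank F (W ⧸ U) < d := by
      have := Submodule.finrank_quotient_add_finrank U
      omega
    obtain ⟨φ, hφ1, hφ2⟩ := ih _ hlt (W ⧸ U) (ρ.quotient U hU) rfl
      (quot_quad ρ U hU a ha) (quot_quad ρ U hU b hb) hQ
    exact ⟨φ, (ker_le_quot ρ U hU).trans hφ1, hφ2⟩

/-- Scalar extension to the algebraic closure followed by the chain lemma. -/
theorem exists_hom_closure (p : ℕ) [Fact p.Prime] {K : Type*} [Field K] [CharP K p]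
    {G : Type*} [Group G] [Finite G] (a b : G) (hgen : Subgroup.closure {a, b} = ⊤)
    {V : Type*} [AddCommGroup V] [Module K V] [FiniteDimensional K V] (ρ : Representation K G V)
    (ha : (ρ a - 1) * (ρ a - 1) = 0) (hb : (ρ b - 1) * (ρ b - 1) = 0) (S : Set G)
    (hnp : ¬ PQuotOn p S ρ.ker) :
    ∃ φ : G →* Matrix.SpecialLinearGroup (Fin 2) (AlgebraicClosure K),
      ρ.ker ≤ φ.ker ∧ ¬ PQuotOn p S φ.ker ∧ φ a ^ p = 1 ∧ φ b ^ p = 1 := by
  classical
  let F := AlgebraicClosure K
  let n := finrank K V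
  let β : Basis (Fin n) K V := finBasis K V
  let Φ : (V →ₗ[K] V) ≃ₐ[K] Matrix (Fin n) (Fin n) K := LinearMap.toMatrixAlgEquiv β
  let ι : Matrix (Fin n) (Fin n) K →+* Matrix (Fin n) (Fin n) F := (algebraMap K F).mapMatrix
  let Ψ : Matrix (Fin n) (Fin n) F ≃ₐ[F] Module.End F (Fin n → F) := Matrix.toLinAlgEquiv'
  let R : (V →ₗ[K] V) →+* Module.End F (Fin n → F) :=
    (Ψ : Matrix (Fin n) (Fin n) F →+* Module.End F (Fin n → F)).comp
      (ι.comp (Φ : (V →ₗ[K] V) →+* Matrix (Fin n) (Fin n) K))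
  have hRinj : Function.Injective R := by
    intro x y hxy
    have h1 : ι (Φ x) = ι (Φ y) := Ψ.injective hxy
    have h2 : Φ x = Φ y := by
      have hinj : Function.Injective ι := by
        intro A B hAB
        exact Matrix.map_injective (algebraMap K F).injective hAB
      exact hinj h1
    exact Φ.injective h2
  let ρF : Representation F G (Fin n → F) := (R : (V →ₗ[K] V) →* Module.End F (Fin n → F)).comp ρ
  have hρF : ∀ g, ρF g = R (ρ g) := fun g => rfl
  have hker : ρF.ker = ρ.ker := by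
    ext g
    rw [MonoidHom.mem_ker, MonoidHom.mem_ker, hρF]
    constructor
    · intro h
      exact hRinj (h.trans (map_one R).symm)
    · intro h
      rw [h, map_one]
  have hquad : ∀ g, (ρ g - 1) * (ρ g - 1) = 0 → (ρF g - 1) * (ρF g - 1) = 0 := by
    intro g hg
    rw [hρF, ← map_one R, ← map_sub, ← map_mul, hg, map_zero]
  have hn : 0 < orderOf (a * b) := orderOf_pos _
  have hsplit : (X ^ orderOf (a * b) - 1 : F[X]).Splits := IsAlgClosed.splits _
  have hnp' : ¬ PQuotOn p S ρF.ker := by rwa [hker]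
  obtain ⟨φ, hφ1, hφ2⟩ := chainOn p a b hgen _ hn (pow_orderOf_eq_one _) hsplit S _ (Fin n → F) ρF
    rfl (hquad a ha) (hquad b hb) hnp'
  have hpow : ∀ g, (ρ g - 1) * (ρ g - 1) = 0 → φ g ^ p = 1 := by
    intro g hg
    have h1 : ρ g ^ p = 1 := pow_eq_one_of_sq_zero (F := K) p (ρ g) hg
    have h2 : g ^ p ∈ ρF.ker := by
      rw [hker, MonoidHom.mem_ker, map_pow, h1]
    have h3 := hφ1 h2
    rwa [MonoidHom.mem_ker, map_pow] at h3
  exact ⟨φ, hker ▸ hφ1, hφ2, hpow a ha, hpow b hb⟩

end Cfsg.Agent.Lib.Helper15.QuadChainOn
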