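import Mathlib

/-!
# Elementary facts on 2×2 matrices over a field (helper15)

* `comm_nonscalar`: the centralizer of a non-scalar 2×2 matrix `x` is `F + F x`.
* `conj_eq_self_of_odd`: if `x` is a non-scalar invertible matrix of finite order prime to the
  characteristic (odd), `g` has odd order and `g x g⁻¹` commutes with `x`, then `g x g⁻¹ = x`.
-/

set_option autoImplicit false

namespace Cfsg.Agent.Lib.Helper15.TwoByTwo

open Matrix

variable {F : Type*} [Field F]

theorem eq_smul_one_of (x : Matrix (Fin 2) (Fin 2) F) (h01 : x 0 1 = 0) (h10 : x 1 0 = 0)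
    (h : x 0 0 = x 1 1) : x = (x 0 0) • (1 : Matrix (Fin 2) (Fin 2) F) := by
  ext i j
  fin_cases i <;> fin_cases j <;> simp [h01, h10, h]

/-- The centralizer of a non-scalar 2×2 matrix. -/
theorem comm_nonscalar (x y : Matrix (Fin 2) (Fin 2) F) (hx : ∀ c : F, x ≠ c • 1)
    (hxy : x * y = y * x) : ∃ α β : F, y = α • 1 + β • x := by
  have e00 := congrFun (congrFun hxy 0) 0
  have e01 := congrFun (congrFun hxy 0) 1
  have e10 := congrFun (congrFun hxy 1) 0
  have e11 := congrFun (congrFun hxy 1) 1
  simp only [Matrix.mul_apply, Fin.sum_univ_two] at e00 e01 e10 e11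
  by_cases hb : x 0 1 = 0
  · by_cases hc : x 1 0 = 0
    · have had : x 0 0 ≠ x 1 1 := by
        intro h
        exact hx _ (eq_smul_one_of x hb hc h)
      have hsub : x 0 0 - x 1 1 ≠ 0 := sub_ne_zero.mpr had
      have hf : y 0 1 = 0 := by
        rw [hb] at e01
        have : y 0 1 * (x 0 0 - x 1 1) = 0 := by linear_combination e01
        rcases mul_eq_zero.mp this with h | h
        · exact h
        · exact absurd h hsub
      have hg : y 1 0 = 0 := by
        rw [hc] at e10
        have : y 1 0 * (x 0 0 - x 1 1) = 0 := by linear_combination -e10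
        rcases mul_eq_zero.mp this with h | h
        · exact h
        · exact absurd h hsub
      refine ⟨y 0 0 - (y 0 0 - y 1 1) / (x 0 0 - x 1 1) * x 0 0,
        (y 0 0 - y 1 1) / (x 0 0 - x 1 1), ?_⟩
      ext i j
      fin_cases i <;> fin_cases j
      · simp
      · simp [hb, hf]
      · simp [hc, hg]
      · simp
        field_simp
        ring
    · refine ⟨y 0 0 - y 1 0 / x 1 0 * x 0 0, y 1 0 / x 1 0, ?_⟩
      ext i j
      fin_cases i <;> fin_cases j
      · simp
      · simp
        field_simp
        linear_combination -e00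
      · simp
        field_simp
      · simp
        field_simp
        linear_combination -e10
  · refine ⟨y 0 0 - y 0 1 / x 0 1 * x 0 0, y 0 1 / x 0 1, ?_⟩
    ext i j
    fin_cases i <;> fin_cases j
    · simp
    · simp
      field_simp
    · simp
      field_simp
      linear_combination e00
    · simp
      field_simp
      linear_combination e01

theorem trace_smul_one_add (α β : F) (x : Matrix (Fin 2) (Fin 2) F) :
    (α • (1 : Matrix (Fin 2) (Fin 2) F) + β • x).trace = 2 * α + β * x.trace := by
  simp [Matrix.trace_fin_two]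
  ring

theorem det_smul_one_add (α β : F) (x : Matrix (Fin 2) (Fin 2) F) :
    (α • (1 : Matrix (Fin 2) (Fin 2) F) + β • x).det
      = α ^ 2 + α * β * x.trace + β ^ 2 * x.det := by
  simp [Matrix.det_fin_two, Matrix.trace_fin_two]
  ring

/-- Cayley–Hamilton for 2×2 matrices. -/
theorem cayley (x : Matrix (Fin 2) (Fin 2) F) :
    x * x = x.trace • x - x.det • (1 : Matrix (Fin 2) (Fin 2) F) := by
  ext i j
  fin_cases i <;> fin_cases j <;>
    simp [Matrix.mul_apply, Fin.sum_univ_two, Matrix.det_fin_two, Matrix.trace_fin_two] <;> ring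

theorem pow_succ_of_sq_zero (lam : F) (N : Matrix (Fin 2) (Fin 2) F) (hN : N * N = 0) (n : ℕ) :
    (lam • (1 : Matrix (Fin 2) (Fin 2) F) + N) ^ (n + 1)
      = lam ^ (n + 1) • (1 : Matrix (Fin 2) (Fin 2) F) + (((n + 1 : ℕ) : F) * lam ^ n) • N := by
  induction n with
  | zero => simp
  | succ n ih =>
    rw [pow_succ, ih]
    have h1 : (lam ^ (n + 1) • (1 : Matrix (Fin 2) (Fin 2) F) + (((n + 1 : ℕ) : F) * lam ^ n) • N)
        * (lam • (1 : Matrix (Fin 2) (Fin 2) F) + N)
        = (lam ^ (n + 1) * lam) • (1 : Matrix (Fin 2) (Fin 2) F)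
          + (lam ^ (n + 1) + ((n + 1 : ℕ) : F) * lam ^ n * lam) • N
          + (((n + 1 : ℕ) : F) * lam ^ n) • (N * N) := by
      simp only [add_mul, mul_add, smul_mul_assoc, mul_smul_comm, one_mul, mul_one]
      module
    rw [h1, hN, smul_zero, add_zero]
    have h2 : lam ^ (n + 1) + ((n + 1 : ℕ) : F) * lam ^ n * lam
        = ((n + 1 + 1 : ℕ) : F) * lam ^ (n + 1) := by
      push_cast
      ring
    rw [h2, ← pow_succ]

/-- A non-scalar matrix of finite order `r` with `r ≠ 0` in `F` has nonzero discriminant. -/
theorem disc_ne_zero (h2 : (2 : F) ≠ 0) (x : Matrix (Fin 2) (Fin 2) F) (hx : ∀ c : F, x ≠ c • 1)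
    (r : ℕ) (hr : (r : F) ≠ 0) (hxr : x ^ r = 1) : x.trace ^ 2 ≠ 4 * x.det := by
  intro hdisc
  obtain ⟨n, rfl⟩ : ∃ n, r = n + 1 := by
    cases r with
    | zero => simp at hr
    | succ n => exact ⟨n, rfl⟩
  obtain ⟨lam, hlam⟩ : ∃ lam : F, lam = x.trace / 2 := ⟨_, rfl⟩
  obtain ⟨N, hNdef⟩ : ∃ N : Matrix (Fin 2) (Fin 2) F, N = x - lam • 1 := ⟨_, rfl⟩
  have hxN : x = lam • 1 + N := by rw [hNdef]; abel
  have h4 : (4 : F) ≠ 0 := by
    have : (4 : F) = 2 * 2 := by norm_num
    rw [this]; exact mul_ne_zero h2 h2
  have hdet : x.det = lam ^ 2 := by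
    rw [hlam]; field_simp; linear_combination -hdisc
  have htr : x.trace = 2 * lam := by rw [hlam]; field_simp
  have hNN : N * N = 0 := by
    rw [hNdef]
    have : (x - lam • (1 : Matrix (Fin 2) (Fin 2) F)) * (x - lam • 1)
        = x * x - (2 * lam) • x + (lam ^ 2) • (1 : Matrix (Fin 2) (Fin 2) F) := by
      simp only [sub_mul, mul_sub, smul_mul_assoc, mul_smul_comm, one_mul, mul_one, smul_smul,
        smul_sub]
      rw [two_mul, add_smul, pow_two]
      abel
    rw [this, cayley, hdet, htr]
    abel
  have hpow := pow_succ_of_sq_zero lam N hNN n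
  rw [← hxN, hxr] at hpow
  -- multiply by N
  have h5 : N = lam ^ (n + 1) • N := by
    have := congrArg (fun z => z * N) hpow
    simp only [one_mul, add_mul, smul_mul_assoc, hNN, smul_zero, add_zero] at this
    exact this
  by_cases hN0 : N = 0
  · apply hx lam
    rw [hxN, hN0, add_zero]
  · obtain ⟨i, j, hij⟩ : ∃ i j, N i j ≠ 0 := by
      by_contra hcon
      push_neg at hcon
      apply hN0
      ext i j
      exact hcon i j
    have h6 : lam ^ (n + 1) = 1 := by
      have := congrFun (congrFun h5 i) j
      simp only [Matrix.smul_apply, smul_eq_mul] at this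
      have h7 : (lam ^ (n + 1) - 1) * N i j = 0 := by linear_combination -this
      rcases mul_eq_zero.mp h7 with h | h
      · exact sub_eq_zero.mp h
      · exact absurd h hij
    have hlam0 : lam ≠ 0 := by
      intro h
      rw [h, zero_pow (Nat.succ_ne_zero n)] at h6
      exact zero_ne_one h6
    rw [h6, one_smul] at hpow
    have h8 : (((n + 1 : ℕ) : F) * lam ^ n) • N = 0 := by
      have : (1 : Matrix (Fin 2) (Fin 2) F) + (((n + 1 : ℕ) : F) * lam ^ n) • N = 1 + 0 := by
        rw [add_zero]; exact hpow.symm
      exact add_left_cancel this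
    have h9 := congrFun (congrFun h8 i) j
    simp only [Matrix.smul_apply, smul_eq_mul, Matrix.zero_apply] at h9
    rcases mul_eq_zero.mp h9 with h | h
    · rcases mul_eq_zero.mp h with h' | h'
      · exact hr h'
      · exact (pow_ne_zero n hlam0) h'
    · exact hij h

/-- Key lemma: an odd-order element `g` conjugating a non-scalar semisimple-order element `x`
into its own centralizer centralizes `x`. -/
theorem conj_eq_self_of_odd (h2 : (2 : F) ≠ 0) (x g gi : Matrix (Fin 2) (Fin 2) F)
    (hg : g * gi = 1) (hg' : gi * g = 1) (hx : ∀ c : F, x ≠ c • 1) (r : ℕ) (hr : (r : F) ≠ 0)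
    (hxr : x ^ r = 1) (hcomm : x * (g * x * gi) = (g * x * gi) * x) (m : ℕ) (hm : Odd m)
    (hgm : g ^ m = 1) : g * x * gi = x := by
  obtain ⟨α, β, hy⟩ := comm_nonscalar x (g * x * gi) hx hcomm
  have htr : (g * x * gi).trace = x.trace := by
    rw [Matrix.trace_mul_comm, ← mul_assoc, hg', one_mul]
  have hdet : (g * x * gi).det = x.det := by
    rw [Matrix.det_mul, Matrix.det_mul]
    have h1 : g.det * gi.det = 1 := by rw [← Matrix.det_mul, hg, Matrix.det_one]
    calc g.det * x.det * gi.det = (g.det * gi.det) * x.det := by ring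
      _ = x.det := by rw [h1, one_mul]
  have e1 : x.trace = 2 * α + β * x.trace := by
    have := htr
    rw [hy, trace_smul_one_add] at this
    exact this.symm
  have e2 : x.det = α ^ 2 + α * β * x.trace + β ^ 2 * x.det := by
    have := hdet
    rw [hy, det_smul_one_add] at this
    exact this.symm
  have hdisc := disc_ne_zero h2 x hx r hr hxr
  have h3 : (1 - β ^ 2) * (x.trace ^ 2 - 4 * x.det) = 0 := by
    have h2α : 2 * α = x.trace * (1 - β) := by linear_combination -e1
    have : 4 * x.det = (2 * α) ^ 2 + 2 * (2 * α) * β * x.trace + 4 * β ^ 2 * x.det := by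
      linear_combination 4 * e2
    rw [h2α] at this
    linear_combination -this
  have hβ : β ^ 2 = 1 := by
    rcases mul_eq_zero.mp h3 with h | h
    · exact (sub_eq_zero.mp h).symm
    · exact absurd (sub_eq_zero.mp h) hdisc
  have hβ' : β = 1 ∨ β = -1 := by
    have : (β - 1) * (β + 1) = 0 := by linear_combination hβ
    rcases mul_eq_zero.mp this with h | h
    · left; exact sub_eq_zero.mp h
    · right; exact eq_neg_of_add_eq_zero_left h
  rcases hβ' with hb | hb
  · -- β = 1, α = 0
    have hα : α = 0 := by
      rw [hb] at e1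
      have : 2 * α = 0 := by linear_combination -e1
      rcases mul_eq_zero.mp this with h | h
      · exact absurd h h2
      · exact h
    rw [hy, hα, hb, zero_smul, zero_add, one_smul]
  · -- β = -1, α = trace
    exfalso
    have hα : α = x.trace := by
      rw [hb] at e1
      have : 2 * α = 2 * x.trace := by linear_combination -e1
      exact mul_left_cancel₀ h2 this
    have hy' : g * x * gi = x.trace • (1 : Matrix (Fin 2) (Fin 2) F) - x := by
      rw [hy, hα, hb, neg_one_smul]; abel
    -- g² commutes with x
    have h4 : g * (g * x * gi) * gi = x := by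
      rw [hy']
      simp only [mul_sub, sub_mul, mul_smul_comm, smul_mul_assoc, mul_one]
      rw [hg, hy']
      abel
    have h5 : (g * g) * x = x * (g * g) := by
      calc (g * g) * x = (g * (g * x * gi) * gi) * (g * g) := by
            have : (g * (g * x * gi) * gi) * (g * g) = g * g * x * (gi * (gi * g) * g) := by
              simp only [mul_assoc]
            rw [this, hg', mul_one, hg', mul_one]
        _ = x * (g * g) := by rw [h4]
    have h6 : ∀ k : ℕ, (g * g) ^ k * x = x * (g * g) ^ k := by
      intro k
      induction k with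
      | zero => simp
      | succ k ih =>
        rw [pow_succ, mul_assoc, h5, ← mul_assoc, ih, mul_assoc]
    obtain ⟨j, hj⟩ := hm
    have h7 : (g * g) ^ (j + 1) = g := by
      rw [← pow_two, ← pow_mul]
      have : 2 * (j + 1) = m + 1 := by omega
      rw [this, pow_succ, hgm, one_mul]
    have h8 : g * x = x * g := by
      have := h6 (j + 1)
      rwa [h7] at this
    have h9 : g * x * gi = x := by
      rw [h8, mul_assoc, hg, mul_one]
    rw [h9] at hy'
    have h10 : (2 : F) • x = x.trace • (1 : Matrix (Fin 2) (Fin 2) F) := by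
      rw [two_smul]
      nth_rewrite 1 [hy']
      abel
    have h11 := congrArg (fun z => (2 : F)⁻¹ • z) h10
    simp only [smul_smul] at h11
    rw [inv_mul_cancel₀ h2, one_smul] at h11
    exact hx _ h11

/-- Elements of `F + F z` commute. -/
theorem comm_of_span (z a b : Matrix (Fin 2) (Fin 2) F) (ha : ∃ α β : F, a = α • 1 + β • z)
    (hb : ∃ α β : F, b = α • 1 + β • z) : a * b = b * a := by
  obtain ⟨α, β, rfl⟩ := ha
  obtain ⟨α', β', rfl⟩ := hb
  simp only [add_mul, mul_add, smul_mul_assoc, mul_smul_comm, one_mul, mul_one]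
  module

/-- A matrix fixing two linearly independent vectors of `F²` is the identity. -/
theorem eq_one_of_fix_two (u : Matrix (Fin 2) (Fin 2) F) (v w : Fin 2 → F) (hv : v ≠ 0)
    (hw : w ∉ Submodule.span F {v}) (huv : u.mulVec v = v) (huw : u.mulVec w = w) : u = 1 := by
  have hD : v 0 * w 1 - v 1 * w 0 ≠ 0 := by
    intro hD
    apply hw
    rw [Submodule.mem_span_singleton]
    by_cases hv0 : v 0 = 0
    · have hv1 : v 1 ≠ 0 := by
        intro hv1
        apply hv
        funext i
        fin_cases i
        · exact hv0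
        · exact hv1
      have hw0 : w 0 = 0 := by
        rw [hv0] at hD
        have : v 1 * w 0 = 0 := by linear_combination -hD
        rcases mul_eq_zero.mp this with h | h
        · exact absurd h hv1
        · exact h
      refine ⟨w 1 / v 1, ?_⟩
      funext i
      fin_cases i
      · simp [hv0, hw0]
      · simp
        field_simp
    · refine ⟨w 0 / v 0, ?_⟩
      funext i
      fin_cases i
      · simp
        field_simp
      · simp
        field_simp
        linear_combination -hD
  have e0 := congrFun huv 0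
  have e1 := congrFun huv 1
  have f0 := congrFun huw 0
  have f1 := congrFun huw 1
  simp only [Matrix.mulVec, dotProduct, Fin.sum_univ_two] at e0 e1 f0 f1
  have h00 : u 0 0 = 1 := by
    have : (u 0 0 - 1) * (v 0 * w 1 - v 1 * w 0) = 0 := by
      linear_combination w 1 * e0 - v 1 * f0
    rcases mul_eq_zero.mp this with h | h
    · exact sub_eq_zero.mp h
    · exact absurd h hD
  have h01 : u 0 1 = 0 := by
    have : u 0 1 * (v 0 * w 1 - v 1 * w 0) = 0 := by
      linear_combination v 0 * f0 - w 0 * e0
    rcases mul_eq_zero.mp this with h | h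
    · exact h
    · exact absurd h hD
  have h10 : u 1 0 = 0 := by
    have : u 1 0 * (v 0 * w 1 - v 1 * w 0) = 0 := by
      linear_combination w 1 * e1 - v 1 * f1
    rcases mul_eq_zero.mp this with h | h
    · exact h
    · exact absurd h hD
  have h11 : u 1 1 = 1 := by
    have : (u 1 1 - 1) * (v 0 * w 1 - v 1 * w 0) = 0 := by
      linear_combination v 0 * f1 - w 0 * e1
    rcases mul_eq_zero.mp this with h | h
    · exact sub_eq_zero.mp h
    · exact absurd h hD
  ext i j
  fin_cases i <;> fin_cases j <;> simp [h00, h01, h10, h11]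

end Cfsg.Agent.Lib.Helper15.TwoByTwo
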