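import Mathlib

/-!
# `p`-groups acting on abelian groups of exponent `p` (helper15)

* `exists_fixed_ne_zero`: a finite `p`-group acting additively on a nonzero abelian group `V` with
  `p • v = 0` fixes a nonzero vector.
* `sum_mem_of_pgroup_action`: if a finite `p`-group `Q` acts without fixed points on a finite set `X`
  and `f : X → V` is `Q`-invariant modulo an additive subgroup `U` (with `p • v = 0` on `V`), then
  `∑ x, f x ∈ U`.
-/

set_option autoImplicit false

namespace Cfsg.Agent.Lib.Helper15

theorem exists_fixed_ne_zero_aux {p : ℕ} [hp : Fact p.Prime] {V : Type*} [AddCommGroup V]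
    [Module (ZMod p) V] {Q : Type*} [Group Q] [Finite Q] (hQ : IsPGroup p Q)
    (ρ : Q →* AddMonoid.End V) (v₀ : V) (hv₀ : v₀ ≠ 0) :
    ∃ v : V, v ≠ 0 ∧ ∀ y : Q, ρ y v = v := by
  classical
  obtain ⟨M, hMdef⟩ : ∃ M : Submodule (ZMod p) V,
      M = Submodule.span (ZMod p) (Set.range fun y : Q => ρ y v₀) := ⟨_, rfl⟩
  have hv₀M : v₀ ∈ M := by
    rw [hMdef]
    apply Submodule.subset_span
    exact ⟨1, by simp⟩
  have hinv : ∀ y : Q, ∀ m ∈ M, ρ y m ∈ M := by
    intro y m hm
    rw [hMdef] at hm ⊢
    induction hm using Submodule.span_induction with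
    | mem x hx =>
      obtain ⟨z, rfl⟩ := hx
      apply Submodule.subset_span
      refine ⟨y * z, ?_⟩
      simp [map_mul]
    | zero => simp
    | add a b _ _ ha hb => rw [map_add]; exact Submodule.add_mem _ ha hb
    | smul c a _ ha =>
      rw [ZMod.map_smul (ρ y) c a]
      exact Submodule.smul_mem _ c ha
  haveI hfin : Finite M := by
    haveI : Module.Finite (ZMod p) M := by
      rw [hMdef]
      exact Module.Finite.span_of_finite (ZMod p) (Set.finite_range _)
    exact Module.finite_of_finite (ZMod p)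
  letI : MulAction Q M :=
    { smul := fun y m => ⟨ρ y m.1, hinv y m.1 m.2⟩
      one_smul := fun m => Subtype.ext (by show ρ 1 m.1 = m.1; simp)
      mul_smul := fun y z m => Subtype.ext (by show ρ (y * z) m.1 = ρ y (ρ z m.1); simp [map_mul]) }
  have hsmul : ∀ (y : Q) (m : M), ((y • m : M) : V) = ρ y m.1 := fun _ _ => rfl
  -- `p ∣ |M|`
  have hpM : p ∣ Nat.card M := by
    have hpg : IsPGroup p (Multiplicative M) := by
      intro g
      refine ⟨1, ?_⟩
      rw [pow_one]
      have : (p : ℕ) • (Multiplicative.toAdd g) = 0 := by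
        have h1 : (p : ℕ) • (Multiplicative.toAdd g) = ((p : ℕ) : ZMod p) • (Multiplicative.toAdd g) := by
          rw [Nat.cast_smul_eq_nsmul]
        rw [h1, ZMod.natCast_self, zero_smul]
      exact congrArg Multiplicative.ofAdd this
    have hcard : Nat.card (Multiplicative M) = Nat.card M := Nat.card_congr Multiplicative.toAdd
    rcases hpg.card_eq_or_dvd with h1 | h1
    · exfalso
      rw [hcard] at h1
      have hsub : Subsingleton M := (Nat.card_eq_one_iff_unique.mp h1).1
      have : (⟨v₀, hv₀M⟩ : M) = 0 := Subsingleton.elim _ _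
      exact hv₀ (congrArg Subtype.val this)
    · rwa [hcard] at h1
  have h0 : (0 : M) ∈ MulAction.fixedPoints Q M := by
    intro y
    apply Subtype.ext
    rw [hsmul]
    simp
  obtain ⟨b, hb, hb0⟩ := hQ.exists_fixed_point_of_prime_dvd_card_of_fixed_point M hpM h0
  refine ⟨b.1, ?_, ?_⟩
  · intro h
    apply hb0
    exact (Subtype.ext h).symm
  · intro y
    have := hb y
    rw [← hsmul]
    exact congrArg Subtype.val this

/-- A finite `p`-group acting additively on an abelian group `V` of exponent `p` fixes a nonzero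
vector as soon as `V ≠ 0`. -/
theorem exists_fixed_ne_zero {p : ℕ} [hp : Fact p.Prime] {V : Type*} [AddCommGroup V]
    (hpV : ∀ v : V, p • v = 0) {Q : Type*} [Group Q] [Finite Q] (hQ : IsPGroup p Q)
    (ρ : Q →* AddMonoid.End V) (v₀ : V) (hv₀ : v₀ ≠ 0) :
    ∃ v : V, v ≠ 0 ∧ ∀ y : Q, ρ y v = v :=
  @exists_fixed_ne_zero_aux p hp V _ (AddCommGroup.zmodModule hpV) Q _ _ hQ ρ v₀ hv₀

/-- A fixed-point-free action of a finite `p`-group on a finite type has cardinality divisible by `p`
on every invariant fibre; hence invariant sums vanish modulo `p`. -/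
theorem sum_eq_zero_of_pgroup_action {p : ℕ} [hp : Fact p.Prime] {V : Type*} [AddCommGroup V]
    (hpV : ∀ v : V, p • v = 0) {Q : Type*} [Group Q] [Finite Q] (hQ : IsPGroup p Q)
    {X : Type*} [Fintype X] [MulAction Q X] (hfix : ∀ x : X, ∃ y : Q, y • x ≠ x)
    (g : X → V) (hg : ∀ (y : Q) (x : X), g (y • x) = g x) : ∑ x, g x = 0 := by
  classical
  have h1 : ∑ x, g x = ∑ b ∈ Finset.univ.image g, (Finset.univ.filter (fun x => g x = b)).card • b := by
    have := Finset.sum_comp (s := (Finset.univ : Finset X)) (f := fun v : V => v) (g := g)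
    simpa using this
  rw [h1]
  apply Finset.sum_eq_zero
  intro b _
  -- the fibre over `b` is `Q`-invariant without fixed points
  let S : SubMulAction Q X :=
    { carrier := {x | g x = b}
      smul_mem' := fun y x hx => by
        show g (y • x) = b
        rw [hg]; exact hx }
  have hdvd : p ∣ Nat.card S := by
    by_contra hnd
    obtain ⟨⟨x, hx⟩, hxfix⟩ := hQ.nonempty_fixed_point_of_prime_not_dvd_card S hnd
    obtain ⟨y, hy⟩ := hfix x
    apply hy
    have := hxfix y
    exact congrArg Subtype.val this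
  have hcard : (Finset.univ.filter (fun x => g x = b)).card = Nat.card S := by
    rw [Nat.card_eq_fintype_card, ← Fintype.card_subtype]
    rfl
  rw [hcard]
  obtain ⟨k, hk⟩ := hdvd
  rw [hk, mul_smul, hpV]

theorem sum_mem_of_pgroup_action {p : ℕ} [hp : Fact p.Prime] {V : Type*} [AddCommGroup V]
    (hpV : ∀ v : V, p • v = 0) (U : AddSubgroup V) {Q : Type*} [Group Q] [Finite Q]
    (hQ : IsPGroup p Q) {X : Type*} [Fintype X] [MulAction Q X]
    (hfix : ∀ x : X, ∃ y : Q, y • x ≠ x)
    (f : X → V) (hf : ∀ (y : Q) (x : X), f (y • x) - f x ∈ U) : ∑ x, f x ∈ U := by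
  have h1 : ∑ x, (QuotientAddGroup.mk (f x) : V ⧸ U) = 0 := by
    apply sum_eq_zero_of_pgroup_action (p := p) _ hQ hfix
    · intro y x
      rw [QuotientAddGroup.eq]
      have := U.neg_mem (hf y x)
      have h2 : -(f (y • x)) + f x = -(f (y • x) - f x) := by abel
      rw [h2]; exact this
    · intro v
      obtain ⟨v, rfl⟩ := QuotientAddGroup.mk_surjective v
      rw [← QuotientAddGroup.mk_nsmul, hpV, QuotientAddGroup.mk_zero]
  have h2 : (QuotientAddGroup.mk (∑ x, f x) : V ⧸ U) = 0 := by
    rw [← h1]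
    exact map_sum (QuotientAddGroup.mk' U) f Finset.univ
  exact (QuotientAddGroup.eq_zero_iff _).mp h2

end Cfsg.Agent.Lib.Helper15
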