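import Mathlib
import Cfsg.Agent.Lib.Helper15.TwoByTwo
import Cfsg.Agent.Lib.Helper15.QuadChain
import Cfsg.Agent.S1463

/-!
# Subgroups of `SL₂(F)`, `char F = p` odd, generated by two elements of order `p` (helper15)

If such a subgroup is not a `p`-group, its Sylow 2-subgroups are non-abelian.
-/

set_option autoImplicit false

namespace Cfsg.Agent.Lib.Helper15.QuadSL2

open Matrix Cfsg.Agent.Lib.Helper15.TwoByTwo Cfsg.Agent.Lib.Helper15.QuadChain

variable {F : Type*} [Field F]

local notation "SL2" => Matrix.SpecialLinearGroup (Fin 2) F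
local notation "M2" => Matrix (Fin 2) (Fin 2) F

theorem sq_zero_of_fix (g : M2) (hdet : g.det = 1) (e : Fin 2 → F) (he : e ≠ 0)
    (hge : g.mulVec e = e) : (g - 1) * (g - 1) = 0 := by
  have hc := cayley g
  rw [hdet, one_smul] at hc
  have h1 : (g * g).mulVec e = e := by rw [← Matrix.mulVec_mulVec, hge, hge]
  rw [hc, Matrix.sub_mulVec, Matrix.smul_mulVec, hge, Matrix.one_mulVec] at h1
  have h2 : (g.trace - 2) • e = 0 := by
    rw [sub_smul, two_smul]
    rw [sub_eq_iff_eq_add] at h1
    rw [h1]; abel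
  have h3 : g.trace = 2 := by
    rcases smul_eq_zero.1 h2 with h | h
    · exact sub_eq_zero.1 h
    · exact absurd h he
  have : (g - 1) * (g - 1) = g * g - (2 : F) • g + 1 := by
    rw [two_smul]; noncomm_ring
  rw [this, hc, h3]
  abel

theorem pow_eq_one_of_fix (p : ℕ) [CharP F p] (g : SL2) (e : Fin 2 → F) (he : e ≠ 0)
    (hge : (g : M2).mulVec e = e) : g ^ p = 1 := by
  apply Subtype.ext
  rw [Matrix.SpecialLinearGroup.coe_pow, Matrix.SpecialLinearGroup.coe_one]
  exact pow_eq_one_of_sq_zero (F := F) p _ (sq_zero_of_fix _ g.2 e he hge)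

theorem fix_of_eigen (p : ℕ) [Fact p.Prime] [CharP F p] (x : SL2) (hx : x ^ p = 1)
    (e : Fin 2 → F) (he : e ≠ 0) (hxe : (x : M2).mulVec e ∈ Submodule.span F {e}) :
    (x : M2).mulVec e = e := by
  obtain ⟨c, hc⟩ := Submodule.mem_span_singleton.1 hxe
  have hpow : ∀ k : ℕ, ((x : M2) ^ k).mulVec e = c ^ k • e := by
    intro k
    induction k with
    | zero => simp
    | succ k ih =>
      rw [pow_succ, ← Matrix.mulVec_mulVec, ← hc, Matrix.mulVec_smul, ih, smul_smul, pow_succ,
        mul_comm]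
  have h1 : ((x : M2) ^ p) = 1 := by
    rw [← Matrix.SpecialLinearGroup.coe_pow, hx, Matrix.SpecialLinearGroup.coe_one]
  have h2 := hpow p
  rw [h1, Matrix.one_mulVec] at h2
  have h3 : (c ^ p - 1) • e = 0 := by rw [sub_smul, ← h2, one_smul, sub_self]
  have h4 : c ^ p = 1 := by
    rcases smul_eq_zero.1 h3 with h | h
    · exact sub_eq_zero.1 h
    · exact absurd h he
  have h5 : (c - 1) ^ p = 0 := by rw [sub_pow_char, h4, one_pow, sub_self]
  have h6 : c = 1 := sub_eq_zero.1 (pow_eq_zero_iff (Fact.out : p.Prime).ne_zero |>.1 h5)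
  rw [← hc, h6, one_smul]

/-- a subgroup of `SL₂(F)` generated by two elements of order dividing `p` with a common
eigenvector is a `p`-group. -/
theorem isPGroup_of_common_eigen (p : ℕ) [Fact p.Prime] [CharP F p] (L : Subgroup SL2)
    (x y : L) (hgen : Subgroup.closure {x, y} = ⊤) (hx : x ^ p = 1) (hy : y ^ p = 1)
    (e : Fin 2 → F) (he : e ≠ 0)
    (hxe : ((x : SL2) : M2).mulVec e ∈ Submodule.span F {e})
    (hye : ((y : SL2) : M2).mulVec e ∈ Submodule.span F {e}) : IsPGroup p L := by
  have hx' : (x : SL2) ^ p = 1 := by rw [← Subgroup.coe_pow, hx, Subgroup.coe_one]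
  have hy' : (y : SL2) ^ p = 1 := by rw [← Subgroup.coe_pow, hy, Subgroup.coe_one]
  have fx := fix_of_eigen p _ hx' e he hxe
  have fy := fix_of_eigen p _ hy' e he hye
  let S : Subgroup L :=
    { carrier := {g | ((g : SL2) : M2).mulVec e = e}
      one_mem' := by
        change (((1 : L) : SL2) : M2).mulVec e = e
        rw [Subgroup.coe_one, Matrix.SpecialLinearGroup.coe_one, Matrix.one_mulVec]
      mul_mem' := by
        intro g h hg hh
        change (((g * h : L) : SL2) : M2).mulVec e = e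
        change ((g : SL2) : M2).mulVec e = e at hg
        change ((h : SL2) : M2).mulVec e = e at hh
        rw [Subgroup.coe_mul, Matrix.SpecialLinearGroup.coe_mul, ← Matrix.mulVec_mulVec, hh, hg]
      inv_mem' := by
        intro g hg
        change (((g⁻¹ : L) : SL2) : M2).mulVec e = e
        change ((g : SL2) : M2).mulVec e = e at hg
        have h1 : (((g⁻¹ : L) : SL2) : M2) * ((g : SL2) : M2) = 1 := by
          rw [← Matrix.SpecialLinearGroup.coe_mul, ← Subgroup.coe_mul, inv_mul_cancel]; rfl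
        calc (((g⁻¹ : L) : SL2) : M2).mulVec e
            = (((g⁻¹ : L) : SL2) : M2).mulVec (((g : SL2) : M2).mulVec e) := by rw [hg]
          _ = e := by rw [Matrix.mulVec_mulVec, h1, Matrix.one_mulVec] }
  have hS : S = ⊤ := by
    rw [eq_top_iff, ← hgen, Subgroup.closure_le]
    rintro g (rfl | rfl)
    · exact fx
    · exact fy
  intro g
  refine ⟨1, ?_⟩
  have hg : g ∈ S := hS ▸ Subgroup.mem_top g
  apply Subtype.ext
  rw [pow_one, Subgroup.coe_pow, Subgroup.coe_one]
  exact pow_eq_one_of_fix p _ e he hg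

/-- a non-`p`-subgroup of `SL₂(F)` generated by two elements of order dividing `p` has even
order (`p` odd). -/
theorem even_card (p : ℕ) [Fact p.Prime] [CharP F p] (hp2 : p ≠ 2) (L : Subgroup SL2) [Finite L]
    (x y : L) (hgen : Subgroup.closure {x, y} = ⊤) (hx : x ^ p = 1) (hy : y ^ p = 1)
    (hnp : ¬ IsPGroup p L) : Even (Nat.card L) := by
  by_contra hodd
  rw [Nat.not_even_iff_odd] at hodd
  set H : Subgroup (GL (Fin 2) F) := L.map Matrix.SpecialLinearGroup.toGL with hH
  have e : L ≃* H := L.equivMapOfInjective _ Matrix.SpecialLinearGroup.toGL_injective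
  haveI : Finite H := Finite.of_equiv _ e.toEquiv
  have hcard : Nat.card H = Nat.card L := (Nat.card_congr e.toEquiv).symm
  have hirr : ∀ v : Fin 2 → F, v ≠ 0 →
      ∃ g ∈ H, (g : Matrix (Fin 2) (Fin 2) F).mulVec v ∉ Submodule.span F {v} := by
    intro v hv
    by_contra hcon
    push_neg at hcon
    apply hnp
    refine isPGroup_of_common_eigen p L x y hgen hx hy v hv ?_ ?_
    · exact hcon (Matrix.SpecialLinearGroup.toGL (x : SL2)) ⟨x, x.2, rfl⟩
    · exact hcon (Matrix.SpecialLinearGroup.toGL (y : SL2)) ⟨y, y.2, rfl⟩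
  have hnd : ¬ p ∣ Nat.card L := by
    rw [← hcard]
    exact Cfsg.Agent.S1463.result p hp2 H (hcard ▸ hodd) hirr
  have key : ∀ z : L, z ^ p = 1 → z = 1 := by
    intro z hz
    have h1 : orderOf z ∣ p := orderOf_dvd_of_pow_eq_one hz
    have h2 : orderOf z ∣ Nat.card L := orderOf_dvd_natCard z
    rcases (Nat.dvd_prime (Fact.out : p.Prime)).1 h1 with h | h
    · exact orderOf_eq_one_iff.1 h
    · exact absurd (h ▸ h2) hnd
  apply hnp
  have hbot : (⊤ : Subgroup L) = ⊥ := by
    rw [← hgen, key x hx, key y hy]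
    simp
  intro g
  refine ⟨0, ?_⟩
  have : g ∈ (⊥ : Subgroup L) := hbot ▸ Subgroup.mem_top g
  rw [pow_zero, pow_one]
  exact Subgroup.mem_bot.1 this

/-- an involution of `SL₂(F)`, `char F ≠ 2`, is `-1`. -/
theorem involution_eq_neg_one (h2 : (2 : F) ≠ 0) (t : SL2) (ht : t * t = 1) (ht1 : t ≠ 1) :
    (t : M2) = -1 := by
  have hc := cayley (t : M2)
  have htt : (t : M2) * (t : M2) = 1 := by
    rw [← Matrix.SpecialLinearGroup.coe_mul, ht, Matrix.SpecialLinearGroup.coe_one]
  rw [htt, t.2, one_smul] at hc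
  have h3 : (t : M2).trace • (t : M2) = (2 : F) • (1 : M2) := by
    rw [two_smul, eq_sub_iff_add_eq.1 hc]
  have htr : (t : M2).trace ≠ 0 := by
    intro h0
    rw [h0, zero_smul] at h3
    have := congrFun (congrFun h3 0) 0
    simp at this
    exact h2 this.symm
  set c : F := 2 / (t : M2).trace with hcdef
  have h4 : (t : M2) = c • (1 : M2) := by
    have : (t : M2) = ((t : M2).trace)⁻¹ • ((t : M2).trace • (t : M2)) := by
      rw [smul_smul, inv_mul_cancel₀ htr, one_smul]
    rw [this, h3, smul_smul, hcdef, div_eq_mul_inv, mul_comm]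
  have h5 : c * c = 1 := by
    have := congrFun (congrFun htt 0) 0
    rw [h4] at this
    simpa using this
  have h6 : c = 1 ∨ c = -1 := mul_self_eq_one_iff.1 h5
  rcases h6 with h | h
  · exfalso
    apply ht1
    apply Subtype.ext
    rw [h4, h, one_smul, Matrix.SpecialLinearGroup.coe_one]
  · rw [h4, h, neg_smul, one_smul]

open scoped IsMulCommutative in
/-- **Theorem A.** -/
theorem sylow2_nonabelian (p : ℕ) [Fact p.Prime] [CharP F p] (hp2 : p ≠ 2) (L : Subgroup SL2)
    [Finite L] (x y : L) (hgen : Subgroup.closure {x, y} = ⊤) (hx : x ^ p = 1) (hy : y ^ p = 1)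
    (hnp : ¬ IsPGroup p L) (T : Sylow 2 L) : ¬ IsMulCommutative T := by
  intro hT
  have h2F : (2 : F) ≠ 0 := by
    intro h
    have h1 : ((2 : ℕ) : F) = 0 := by exact_mod_cast h
    have h3 := (CharP.cast_eq_zero_iff F p 2).1 h1
    exact hp2 ((Nat.prime_dvd_prime_iff_eq (Fact.out : p.Prime) Nat.prime_two).1 h3)
  have heven := even_card p hp2 L x y hgen hx hy hnp
  obtain ⟨t, ht⟩ := exists_prime_orderOf_dvd_card' 2 (even_iff_two_dvd.1 heven)
  have htt : t * t = 1 := by
    have := pow_orderOf_eq_one t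
    rw [ht, sq] at this
    exact this
  have ht1 : t ≠ 1 := by rintro rfl; simp at ht
  have hneg : ((t : SL2) : M2) = -1 := by
    apply involution_eq_neg_one h2F
    · rw [← Subgroup.coe_mul, htt, Subgroup.coe_one]
    · intro h; exact ht1 (Subtype.ext h)
  have hcentral : ∀ g : L, g * t = t * g := by
    intro g
    apply Subtype.ext; apply Subtype.ext
    rw [Subgroup.coe_mul, Subgroup.coe_mul, Matrix.SpecialLinearGroup.coe_mul,
      Matrix.SpecialLinearGroup.coe_mul, hneg]
    simp
  let V : L →* T := MonoidHom.transfer (MonoidHom.id T)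
  have hcomm : ∀ (k : ℕ) (g₀ : L), g₀ * t ^ k = t ^ k * g₀ := by
    intro k g₀
    induction k with
    | zero => simp
    | succ k ih => rw [pow_succ, ← mul_assoc, ih, mul_assoc, hcentral, ← mul_assoc]
  have hkey : ∀ (k : ℕ) (g₀ : L), g₀⁻¹ * t ^ k * g₀ ∈ (T : Subgroup L) →
      g₀⁻¹ * t ^ k * g₀ = t ^ k := by
    intro k g₀ _
    rw [mul_assoc, ← hcomm k g₀, inv_mul_cancel_left]
  have hVt : V t = ⟨t ^ (T : Subgroup L).index, MonoidHom.transfer_eq_pow_aux t hkey⟩ :=
    MonoidHom.transfer_eq_pow (MonoidHom.id T) t hkey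
  have hker : ∀ z : L, z ^ p = 1 → z ∈ V.ker := by
    intro z hz
    rw [MonoidHom.mem_ker]
    have h1 : (V z) ^ p = 1 := by rw [← map_pow, hz, map_one]
    obtain ⟨k, hk⟩ := T.2 (V z)
    have h3 : orderOf (V z) ∣ p := orderOf_dvd_of_pow_eq_one h1
    have h4 : orderOf (V z) ∣ 2 ^ k := orderOf_dvd_of_pow_eq_one hk
    have h5 : Nat.Coprime p (2 ^ k) := by
      apply Nat.Coprime.pow_right
      exact (Nat.coprime_primes (Fact.out : p.Prime) Nat.prime_two).2 hp2
    have h6 : orderOf (V z) = 1 := Nat.eq_one_of_dvd_coprimes h5 h3 h4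
    exact orderOf_eq_one_iff.1 h6
  have hVtop : V.ker = ⊤ := by
    rw [eq_top_iff, ← hgen, Subgroup.closure_le]
    rintro z (rfl | rfl)
    · exact hker _ hx
    · exact hker _ hy
  have hVt1 : V t = 1 := by
    have : t ∈ V.ker := hVtop ▸ Subgroup.mem_top t
    exact this
  rw [hVt1] at hVt
  have h7 : t ^ (T : Subgroup L).index = 1 := by
    have := congrArg Subtype.val hVt
    exact this.symm
  have h8 : 2 ∣ (T : Subgroup L).index := by
    have := orderOf_dvd_of_pow_eq_one h7
    rwa [ht] at this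
  exact T.not_dvd_index h8

/-- **Theorem B.** abstract form of Theorem A. -/
theorem sylow2_nonabelian_of_hom (p : ℕ) [Fact p.Prime] [CharP F p] (hp2 : p ≠ 2)
    {G : Type*} [Group G] [Finite G] (a b : G) (hgen : Subgroup.closure {a, b} = ⊤)
    (φ : G →* SL2) (ha : φ a ^ p = 1) (hb : φ b ^ p = 1) (hnp : ¬ PQuot p φ.ker)
    (T : Sylow 2 G) : ¬ IsMulCommutative T := by
  intro hT
  have hsurj : Function.Surjective φ.rangeRestrict := φ.rangeRestrict_surjective
  haveI : Finite φ.range := Finite.of_surjective _ hsurj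
  have hgen' : Subgroup.closure {φ.rangeRestrict a, φ.rangeRestrict b} = ⊤ := by
    have h1 := MonoidHom.map_closure φ.rangeRestrict {a, b}
    rw [hgen, Subgroup.map_top_of_surjective _ hsurj, Set.image_pair] at h1
    exact h1.symm
  have hx : φ.rangeRestrict a ^ p = 1 := Subtype.ext ha
  have hy : φ.rangeRestrict b ^ p = 1 := Subtype.ext hb
  have hnp' : ¬ IsPGroup p φ.range := fun h => hnp ((pquot_ker_iff_range p φ).2 h)
  have hT' : IsMulCommutative ((T.mapSurjective hsurj : Sylow 2 φ.range) : Subgroup φ.range) := by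
    rw [Sylow.coe_mapSurjective]
    infer_instance
  exact sylow2_nonabelian p hp2 φ.range _ _ hgen' hx hy hnp' (T.mapSurjective hsurj) hT'

end Cfsg.Agent.Lib.Helper15.QuadSL2
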