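import Mathlib
import Cfsg.Agent.Lib.Helper15.QuadChain
import Cfsg.Agent.Lib.Helper15.QuadSL2
import Cfsg.Agent.Lib.Lead.BaerSuzuki

/-!
# Quadratic pairs: core theorem (helper15)

`G = ⟨a, b⟩` finite, `ρ` a representation over a field of odd characteristic `p` with `ρ a`, `ρ b`
quadratic and `G / ker ρ` not a `p`-group: the Sylow 2-subgroups of `G` are non-abelian.
-/

set_option autoImplicit false

namespace Cfsg.Agent.Lib.Helper15.QuadCore

open Module Polynomial Cfsg.Agent.Lib.Helper15.QuadChain Cfsg.Agent.Lib.Helper15.QuadSL2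

theorem core_two_gen (p : ℕ) [Fact p.Prime] (hp2 : p ≠ 2) {K : Type*} [Field K] [CharP K p]
    {G : Type*} [Group G] [Finite G] (a b : G) (hgen : Subgroup.closure {a, b} = ⊤)
    {V : Type*} [AddCommGroup V] [Module K V] [FiniteDimensional K V] (ρ : Representation K G V)
    (ha : (ρ a - 1) * (ρ a - 1) = 0) (hb : (ρ b - 1) * (ρ b - 1) = 0) (hnp : ¬ PQuot p ρ.ker)
    (T : Sylow 2 G) : ¬ IsMulCommutative T := by
  classical
  let F := AlgebraicClosure K
  let n := finrank K V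
  let β : Basis (Fin n) K V := finBasis K V
  let Φ : (V →ₗ[K] V) ≃ₐ[K] Matrix (Fin n) (Fin n) K := LinearMap.toMatrixAlgEquiv β
  let ι : Matrix (Fin n) (Fin n) K →+* Matrix (Fin n) (Fin n) F := (algebraMap K F).mapMatrix
  let Ψ : Matrix (Fin n) (Fin n) F ≃ₐ[F] Module.End F (Fin n → F) := Matrix.toLinAlgEquiv'
  let R : (V →ₗ[K] V) →+* Module.End F (Fin n → F) :=
    (Ψ : Matrix (Fin n) (Fin n) F →+* Module.End F (Fin n → F)).comp
      (ι.comp (Φ : (V →ₗ[K] V) →+* Matrix (Fin n) (Fin n) K))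
  have hRinj : Function.Injective R := by
    intro x y hxy
    have h1 : ι (Φ x) = ι (Φ y) := Ψ.injective hxy
    have h2 : Φ x = Φ y := by
      have hinj : Function.Injective ι := by
        intro A B hAB
        exact Matrix.map_injective (algebraMap K F).injective hAB
      exact hinj h1
    exact Φ.injective h2
  let ρF : Representation F G (Fin n → F) := (R : (V →ₗ[K] V) →* Module.End F (Fin n → F)).comp ρ
  have hρF : ∀ g, ρF g = R (ρ g) := fun g => rfl
  have hker : ρF.ker = ρ.ker := by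
    ext g
    rw [MonoidHom.mem_ker, MonoidHom.mem_ker, hρF]
    constructor
    · intro h
      exact hRinj (h.trans (map_one R).symm)
    · intro h
      rw [h, map_one]
  have hquad : ∀ g, (ρ g - 1) * (ρ g - 1) = 0 → (ρF g - 1) * (ρF g - 1) = 0 := by
    intro g hg
    rw [hρF, ← map_one R, ← map_sub, ← map_mul, hg, map_zero]
  have hn : 0 < orderOf (a * b) := orderOf_pos _
  have hsplit : (X ^ orderOf (a * b) - 1 : F[X]).Splits := IsAlgClosed.splits _
  have hnp' : ¬ PQuot p ρF.ker := by rwa [hker]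
  obtain ⟨φ, hφ1, hφ2⟩ := chain p a b hgen _ hn (pow_orderOf_eq_one _) hsplit _ (Fin n → F) ρF rfl
    (hquad a ha) (hquad b hb) hnp'
  have hpow : ∀ g, (ρ g - 1) * (ρ g - 1) = 0 → φ g ^ p = 1 := by
    intro g hg
    have h1 : ρ g ^ p = 1 := pow_eq_one_of_sq_zero (F := K) p (ρ g) hg
    have h2 : g ^ p ∈ ρF.ker := by
      rw [hker, MonoidHom.mem_ker, map_pow, h1]
    have h3 := hφ1 h2
    rwa [MonoidHom.mem_ker, map_pow] at h3
  exact sylow2_nonabelian_of_hom p hp2 a b hgen φ (hpow a ha) (hpow b hb) hφ2 T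

theorem sylow2_comm_of_le {G : Type*} [Group G] [Finite G]
    (hab2 : ∀ T : Sylow 2 G, IsMulCommutative T) (L : Subgroup G) (T' : Sylow 2 L) :
    IsMulCommutative T' := by
  obtain ⟨T, hT⟩ := (T'.2.map L.subtype).exists_le_sylow
  have hc := hab2 T
  refine ⟨⟨fun x y => ?_⟩⟩
  have hx : ((x : L) : G) ∈ (T : Subgroup G) := hT ⟨x, x.2, rfl⟩
  have hy : ((y : L) : G) ∈ (T : Subgroup G) := hT ⟨y, y.2, rfl⟩
  have := setLike_mul_comm hx hy
  apply Subtype.ext; apply Subtype.ext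
  exact this

/-- two quadratic elements of a group with abelian Sylow 2-subgroups generate a `p`-group
modulo the kernel. -/
theorem pquot_closure_pair (p : ℕ) [Fact p.Prime] (hp2 : p ≠ 2) {K : Type*} [Field K] [CharP K p]
    {G : Type*} [Group G] [Finite G]
    {V : Type*} [AddCommGroup V] [Module K V] [FiniteDimensional K V] (ρ : Representation K G V)
    (hab2 : ∀ T : Sylow 2 G, IsMulCommutative T) (x y : G)
    (hx : (ρ x - 1) * (ρ x - 1) = 0) (hy : (ρ y - 1) * (ρ y - 1) = 0) :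
    ∀ g ∈ Subgroup.closure {x, y}, ∃ k : ℕ, g ^ p ^ k ∈ ρ.ker := by
  set L := Subgroup.closure {x, y} with hL
  have hxL : x ∈ L := Subgroup.subset_closure (by simp)
  have hyL : y ∈ L := Subgroup.subset_closure (by simp)
  let ρL : Representation K L V := ρ.comp L.subtype
  have hgen : Subgroup.closure {(⟨x, hxL⟩ : L), ⟨y, hyL⟩} = ⊤ := by
    apply Subgroup.map_injective L.subtype_injective
    rw [MonoidHom.map_closure, ← MonoidHom.range_eq_map, Subgroup.range_subtype]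
    have h1 : (L.subtype '' {(⟨x, hxL⟩ : L), ⟨y, hyL⟩} : Set G) = {x, y} := by
      ext z; simp [Set.image_pair]
    rw [h1]
  by_contra hcon
  push_neg at hcon
  obtain ⟨g, hgL, hg⟩ := hcon
  have hnp : ¬ PQuot p ρL.ker := by
    intro h
    obtain ⟨k, hk⟩ := h ⟨g, hgL⟩
    exact hg k hk
  obtain ⟨T'⟩ : Nonempty (Sylow 2 L) := inferInstance
  exact core_two_gen p hp2 (⟨x, hxL⟩ : L) ⟨y, hyL⟩ hgen ρL hx hy hnp T'
    (sylow2_comm_of_le hab2 L T')

theorem quad_conj {K : Type*} [Field K] {G : Type*} [Group G]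
    {V : Type*} [AddCommGroup V] [Module K V] (ρ : Representation K G V) (a g : G)
    (ha : (ρ a - 1) * (ρ a - 1) = 0) :
    (ρ (g * a * g⁻¹) - 1) * (ρ (g * a * g⁻¹) - 1) = 0 := by
  have h1 : ρ (g * a * g⁻¹) - 1 = ρ g * (ρ a - 1) * ρ g⁻¹ := by
    rw [map_mul, map_mul, mul_sub, sub_mul, mul_one, ← map_mul ρ g g⁻¹, mul_inv_cancel, map_one]
  have h2 : ρ g⁻¹ * ρ g = 1 := by rw [← map_mul, inv_mul_cancel, map_one]
  calc (ρ (g * a * g⁻¹) - 1) * (ρ (g * a * g⁻¹) - 1)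
      = ρ g * (ρ a - 1) * (ρ g⁻¹ * ρ g) * (ρ a - 1) * ρ g⁻¹ := by rw [h1]; noncomm_ring
    _ = ρ g * ((ρ a - 1) * (ρ a - 1)) * ρ g⁻¹ := by rw [h2]; noncomm_ring
    _ = 0 := by rw [ha]; simp

/-- **Core theorem (element form).** -/
theorem core_element (p : ℕ) [Fact p.Prime] (hp2 : p ≠ 2) {K : Type*} [Field K] [CharP K p]
    {G : Type*} [Group G] [Finite G]
    {V : Type*} [AddCommGroup V] [Module K V] [FiniteDimensional K V] (ρ : Representation K G V)
    (hab2 : ∀ T : Sylow 2 G, IsMulCommutative T) (a : G)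
    (ha : (ρ a - 1) * (ρ a - 1) = 0) :
    ∃ D : Subgroup G, D.Normal ∧ ρ.ker ≤ D ∧ a ∈ D ∧ ∀ d ∈ D, ∃ k : ℕ, d ^ p ^ k ∈ ρ.ker := by
  let π := QuotientGroup.mk' ρ.ker
  let S : Set (G ⧸ ρ.ker) := {z | ∃ g : G, z = π (g * a * g⁻¹)}
  have hS : ∀ g x, x ∈ S → g * x * g⁻¹ ∈ S := by
    rintro g _ ⟨h, rfl⟩
    obtain ⟨g', rfl⟩ := QuotientGroup.mk'_surjective ρ.ker g
    refine ⟨g' * h, ?_⟩
    rw [← map_inv, ← map_mul, ← map_mul]
    congr 1
    group
  have hpair : ∀ x ∈ S, ∀ y ∈ S, IsPGroup p (Subgroup.closure ({x, y} : Set (G ⧸ ρ.ker))) := by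
    rintro _ ⟨g, rfl⟩ _ ⟨h, rfl⟩
    have h1 := pquot_closure_pair p hp2 ρ hab2 _ _ (quad_conj ρ a g ha) (quad_conj ρ a h ha)
    have h2 : Subgroup.closure ({π (g * a * g⁻¹), π (h * a * h⁻¹)} : Set (G ⧸ ρ.ker)) =
        (Subgroup.closure {g * a * g⁻¹, h * a * h⁻¹}).map π := by
      rw [MonoidHom.map_closure, Set.image_pair]
    rw [h2]
    rintro ⟨_, z, hz, rfl⟩
    obtain ⟨k, hk⟩ := h1 z hz
    refine ⟨k, Subtype.ext ?_⟩
    rw [Subgroup.coe_pow, Subgroup.coe_one]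
    change π z ^ p ^ k = 1
    rw [← map_pow]
    exact (QuotientGroup.eq_one_iff _).2 hk
  obtain ⟨hn, hpg⟩ := Cfsg.Agent.Lib.Lead.baer_suzuki_closure S hS hpair
  refine ⟨(Subgroup.closure S).comap π, ?_, ?_, ?_, ?_⟩
  · exact hn.comap π
  · intro g hg
    rw [Subgroup.mem_comap]
    have : π g = 1 := (QuotientGroup.eq_one_iff _).2 hg
    rw [this]
    exact Subgroup.one_mem _
  · rw [Subgroup.mem_comap]
    apply Subgroup.subset_closure
    exact ⟨1, by simp⟩
  · intro d hd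
    rw [Subgroup.mem_comap] at hd
    obtain ⟨k, hk⟩ := hpg ⟨π d, hd⟩
    refine ⟨k, ?_⟩
    have h1 := congrArg Subtype.val hk
    rw [Subgroup.coe_pow, Subgroup.coe_one] at h1
    change π d ^ p ^ k = 1 at h1
    rw [← map_pow] at h1
    exact (QuotientGroup.eq_one_iff _).1 h1

end Cfsg.Agent.Lib.Helper15.QuadCore
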