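import Mathlib
import Cfsg.Agent.Lib.Helper15.QuadCore
import Cfsg.Agent.Lib.Helper11.ElemAbGL
import Cfsg.Agent.Lib.Helper3.QuotAct
import Cfsg.Agent.Lib.Helper3.BurnsideFrattini
import Cfsg.Agent.Lib.Helper14.FrattiniQuot

/-!
# Quadratic action and `p`-stability: `MulAut` and internal forms (helper15)
-/

set_option autoImplicit false

namespace Cfsg.Agent.Lib.Helper15.QuadInternal

open Cfsg.Agent.Lib.Helper15.QuadChain Cfsg.Agent.Lib.Helper15.QuadCore Cfsg.Agent.Lib.Helper11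

section MulAutForm

variable (p : ℕ) [Fact p.Prime] {A : Type*} [CommGroup A] [Finite A]
  {G : Type*} [Group G] [Finite G]

/-- the linear representation attached to an action on an elementary abelian `p`-group. -/
noncomputable def linRep [Module (ZMod p) (Additive A)] (θ : G →* MulAut A) :
    Representation (ZMod p) G (Additive A) :=
  (LinearEquiv.automorphismGroup.toLinearMapMonoidHom).comp ((mulAutToLinearEquiv A p).comp θ)

theorem linRep_apply [Module (ZMod p) (Additive A)] (θ : G →* MulAut A) (g : G) (v : Additive A) :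
    linRep p θ g v = Additive.ofMul (θ g v.toMul) := rfl

theorem linRep_ker [Module (ZMod p) (Additive A)] (θ : G →* MulAut A) :
    (linRep p θ).ker = θ.ker := by
  ext g
  rw [MonoidHom.mem_ker, MonoidHom.mem_ker]
  constructor
  · intro h
    ext v
    have := congrArg (fun f : Additive A →ₗ[ZMod p] Additive A => (f (Additive.ofMul v)).toMul) h
    simpa [linRep_apply] using this
  · intro h
    ext v
    rw [linRep_apply, h]
    rfl

theorem linRep_quad [Module (ZMod p) (Additive A)] (θ : G →* MulAut A) (a : G)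
    (ha : ∀ v : A, θ a (θ a v / v) = θ a v / v) :
    (linRep p θ a - 1) * (linRep p θ a - 1) = 0 := by
  refine LinearMap.ext fun v => ?_
  simp only [Module.End.mul_apply, LinearMap.sub_apply, Module.End.one_apply,
    LinearMap.zero_apply, map_sub]
  rw [sub_eq_zero]
  have h := ha v.toMul
  have h1 : linRep p θ a v - v = Additive.ofMul (θ a v.toMul / v.toMul) := rfl
  rw [← map_sub, h1, linRep_apply]
  exact congrArg Additive.ofMul h

theorem core_mulAut (hp2 : p ≠ 2) (hexp : ∀ a : A, a ^ p = 1) (θ : G →* MulAut A)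
    (hab2 : ∀ T : Sylow 2 G, IsMulCommutative T) (a : G)
    (ha : ∀ v : A, θ a (θ a v / v) = θ a v / v) :
    ∃ D : Subgroup G, D.Normal ∧ θ.ker ≤ D ∧ a ∈ D ∧ ∀ d ∈ D, ∃ k : ℕ, d ^ p ^ k ∈ θ.ker := by
  let _ : Module (ZMod p) (Additive A) := AddCommGroup.zmodModule (by
    intro x
    exact congrArg Additive.ofMul (hexp x.toMul))
  have hfin : Finite (Additive A) := inferInstanceAs (Finite A)
  have hfd : FiniteDimensional (ZMod p) (Additive A) := Module.Finite.of_finite
  have := @core_element p _ hp2 (ZMod p) _ _ G _ _ (Additive A) _ _ hfd (linRep p θ) hab2 a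
    (linRep_quad p θ a ha)
  rwa [linRep_ker] at this

theorem pair_mulAut (hp2 : p ≠ 2) (hexp : ∀ a : A, a ^ p = 1) (θ : G →* MulAut A)
    (hab2 : ∀ T : Sylow 2 G, IsMulCommutative T) (x y : G)
    (hx : ∀ v : A, θ x (θ x v / v) = θ x v / v) (hy : ∀ v : A, θ y (θ y v / v) = θ y v / v) :
    ∀ g ∈ Subgroup.closure {x, y}, ∃ k : ℕ, g ^ p ^ k ∈ θ.ker := by
  let _ : Module (ZMod p) (Additive A) := AddCommGroup.zmodModule (by
    intro x
    exact congrArg Additive.ofMul (hexp x.toMul))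
  have hfin : Finite (Additive A) := inferInstanceAs (Finite A)
  have hfd : FiniteDimensional (ZMod p) (Additive A) := Module.Finite.of_finite
  have := @pquot_closure_pair p _ hp2 (ZMod p) _ _ G _ _ (Additive A) _ _ hfd (linRep p θ) hab2 x y
    (linRep_quad p θ x hx) (linRep_quad p θ y hy)
  rwa [linRep_ker] at this

end MulAutForm

section SylowComm

theorem sylow_comm_all {G : Type*} [Group G] [Finite G] {q : ℕ} [Fact q.Prime] (T : Sylow q G)
    (hT : IsMulCommutative T) (T' : Sylow q G) : IsMulCommutative T' := by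
  obtain ⟨g, rfl⟩ := MulAction.exists_smul_eq G T T'
  refine ⟨⟨fun x y => ?_⟩⟩
  have key : ∀ z : G, z ∈ ((g • T : Sylow q G) : Subgroup G) → g⁻¹ * z * g ∈ (T : Subgroup G) := by
    intro z hz
    rw [Sylow.coe_subgroup_smul, Subgroup.mem_pointwise_smul_iff_inv_smul_mem] at hz
    simpa [MulAut.smul_def] using hz
  have hx : g⁻¹ * (x : G) * g ∈ (T : Subgroup G) := key _ x.2
  have hy : g⁻¹ * (y : G) * g ∈ (T : Subgroup G) := key _ y.2
  have h := setLike_mul_comm hx hy
  apply Subtype.ext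
  change (x : G) * y = y * x
  have h2 : g⁻¹ * ((x : G) * y) * g = g⁻¹ * ((y : G) * x) * g := by
    calc g⁻¹ * ((x : G) * y) * g = (g⁻¹ * x * g) * (g⁻¹ * y * g) := by group
      _ = (g⁻¹ * y * g) * (g⁻¹ * x * g) := h
      _ = g⁻¹ * ((y : G) * x) * g := by group
  exact mul_left_cancel (mul_right_cancel h2)

end SylowComm

section Internal

open Subgroup
open scoped commutatorElement

variable {G : Type*} [Group G]

/-- the quadratic hypothesis in element form -/
theorem quad_elem (V : Subgroup G) (a : G)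
    (hq : ⁅⁅V, zpowers a⁆, zpowers a⁆ = ⊥) (v : G) (hv : v ∈ V) :
    a * (a * v * a⁻¹ * v⁻¹) * a⁻¹ = a * v * a⁻¹ * v⁻¹ := by
  have h1 : a * v * a⁻¹ * v⁻¹ ∈ ⁅V, zpowers a⁆ := by
    rw [Subgroup.commutator_comm]
    exact Subgroup.commutator_mem_commutator (mem_zpowers a) hv
  have h2 : ⁅a * v * a⁻¹ * v⁻¹, a⁆ ∈ ⁅⁅V, zpowers a⁆, zpowers a⁆ :=
    Subgroup.commutator_mem_commutator h1 (mem_zpowers a)
  rw [hq, Subgroup.mem_bot, commutatorElement_def] at h2
  have h3 : a * v * a⁻¹ * v⁻¹ * a = a * (a * v * a⁻¹ * v⁻¹) := by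
    have := congrArg (· * (a * (a * v * a⁻¹ * v⁻¹))) h2
    simpa [mul_assoc] using this
  rw [← h3]; group

/-- quadratic hypothesis from elementwise commutation -/
theorem quad_of_le (P A : Subgroup G) (hquad : ⁅⁅P, A⁆, A⁆ = ⊥) (a : G) (ha : a ∈ A) :
    ⁅⁅P, zpowers a⁆, zpowers a⁆ = ⊥ := by
  rw [eq_bot_iff, ← hquad]
  have h1 : zpowers a ≤ A := (zpowers_le).2 ha
  exact Subgroup.commutator_mono (Subgroup.commutator_mono le_rfl h1) h1

variable [Finite G] (p : ℕ) [Fact p.Prime]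

/-- **Internal core theorem.** `V` elementary abelian, `H ≤ N_G(V)` with abelian Sylow 2-subgroups,
`a ∈ H` quadratic on `V`: `a` lies in a normal subgroup `D` of `H` containing `C_H(V)` with
`D / C_H(V)` a `p`-group. -/
theorem core_internal (hp2 : p ≠ 2) (V H : Subgroup G) (hVc : ∀ x ∈ V, ∀ y ∈ V, x * y = y * x)
    (hVe : ∀ x ∈ V, x ^ p = 1) (hHV : H ≤ normalizer (V : Set G))
    (hab2 : ∀ T : Sylow 2 H, IsMulCommutative T) (a : G) (haH : a ∈ H)
    (hq : ⁅⁅V, zpowers a⁆, zpowers a⁆ = ⊥) :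
    ∃ D : Subgroup H, D.Normal ∧ (centralizer (V : Set G)).subgroupOf H ≤ D ∧ ⟨a, haH⟩ ∈ D ∧
      ∀ d ∈ D, ∃ k : ℕ, ((d : H) : G) ^ p ^ k ∈ centralizer (V : Set G) := by
  letI : CommGroup V :=
    { (inferInstance : Group V) with
      mul_comm := fun x y => Subtype.ext (hVc x x.2 y y.2) }
  have hexp : ∀ v : V, v ^ p = 1 := fun v => Subtype.ext (by simpa using hVe v v.2)
  let θ : H →* MulAut V := V.normalizerMonoidHom.comp (Subgroup.inclusion hHV)
  have hθ : ∀ (h : H) (v : V), ((θ h v : V) : G) = (h : G) * v * (h : G)⁻¹ := fun h v => rfl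
  have hker : θ.ker = (centralizer (V : Set G)).subgroupOf H := by
    ext g
    rw [MonoidHom.mem_ker, mem_subgroupOf, mem_centralizer_iff]
    constructor
    · intro h v hv
      have := congrArg (fun f : MulAut V => ((f ⟨v, hv⟩ : V) : G)) h
      simp only [hθ] at this
      have h2 : (g : G) * v * (g : G)⁻¹ = v := this
      have h3 : (g : G) * v = v * g := by
        have := congrArg (· * (g : G)) h2
        simpa using this
      exact h3.symm
    · intro h
      ext v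
      rw [hθ]
      have := h v v.2
      change (g : G) * v * (g : G)⁻¹ = v
      rw [← this, mul_inv_cancel_right]
  have ha : ∀ v : V, θ ⟨a, haH⟩ (θ ⟨a, haH⟩ v / v) = θ ⟨a, haH⟩ v / v := by
    intro v
    apply Subtype.ext
    rw [hθ]
    have h1 : ((θ ⟨a, haH⟩ v / v : V) : G) = a * v * a⁻¹ * (v : G)⁻¹ := by
      rw [div_eq_mul_inv, Subgroup.coe_mul, hθ, Subgroup.coe_inv]
    rw [h1]
    exact quad_elem V a hq v v.2
  obtain ⟨D, hDn, hD1, hD2, hD3⟩ := core_mulAut p hp2 hexp θ hab2 ⟨a, haH⟩ ha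
  refine ⟨D, hDn, hker ▸ hD1, hD2, ?_⟩
  intro d hd
  obtain ⟨k, hk⟩ := hD3 d hd
  refine ⟨k, ?_⟩
  rw [hker, mem_subgroupOf] at hk
  simpa using hk

/-- **Core theorem, homomorphism form.** -/
theorem core_hom (hp2 : p ≠ 2) {H' : Type*} [Group H'] [Finite H'] (ι : H' →* G)
    (V : Subgroup G) (hVc : ∀ x ∈ V, ∀ y ∈ V, x * y = y * x)
    (hVe : ∀ x ∈ V, x ^ p = 1) (hιV : ∀ h, ι h ∈ normalizer (V : Set G))
    (hab2 : ∀ T : Sylow 2 H', IsMulCommutative T) (a : H')
    (hq : ⁅⁅V, zpowers (ι a)⁆, zpowers (ι a)⁆ = ⊥) :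
    ∃ D : Subgroup H', D.Normal ∧ (centralizer (V : Set G)).comap ι ≤ D ∧ a ∈ D ∧
      ∀ d ∈ D, ∃ k : ℕ, (ι d) ^ p ^ k ∈ centralizer (V : Set G) := by
  letI : CommGroup V :=
    { (inferInstance : Group V) with
      mul_comm := fun x y => Subtype.ext (hVc x x.2 y y.2) }
  have hexp : ∀ v : V, v ^ p = 1 := fun v => Subtype.ext (by simpa using hVe v v.2)
  let θ : H' →* MulAut V := V.normalizerMonoidHom.comp (ι.codRestrict (normalizer (V : Set G)) hιV)
  have hθ : ∀ (h : H') (v : V), ((θ h v : V) : G) = ι h * v * (ι h)⁻¹ := fun h v => rfl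
  have hker : θ.ker = (centralizer (V : Set G)).comap ι := by
    ext g
    rw [MonoidHom.mem_ker, mem_comap, mem_centralizer_iff]
    constructor
    · intro h v hv
      have := congrArg (fun f : MulAut V => ((f ⟨v, hv⟩ : V) : G)) h
      simp only [hθ] at this
      have h2 : ι g * v * (ι g)⁻¹ = v := this
      have h3 : ι g * v = v * ι g := by
        have := congrArg (· * ι g) h2
        simpa using this
      exact h3.symm
    · intro h
      ext v
      rw [hθ]
      have := h v v.2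
      change ι g * v * (ι g)⁻¹ = v
      rw [← this, mul_inv_cancel_right]
  have ha : ∀ v : V, θ a (θ a v / v) = θ a v / v := by
    intro v
    apply Subtype.ext
    rw [hθ]
    have h1 : ((θ a v / v : V) : G) = ι a * v * (ι a)⁻¹ * (v : G)⁻¹ := by
      rw [div_eq_mul_inv, Subgroup.coe_mul, hθ, Subgroup.coe_inv]
    rw [h1]
    exact quad_elem V (ι a) hq v v.2
  obtain ⟨D, hDn, hD1, hD2, hD3⟩ := core_mulAut p hp2 hexp θ hab2 a ha
  refine ⟨D, hDn, hker ▸ hD1, hD2, ?_⟩
  intro d hd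
  obtain ⟨k, hk⟩ := hD3 d hd
  refine ⟨k, ?_⟩
  rw [hker, mem_comap, map_pow] at hk
  exact hk

/-- normal subgroup form: `V ⊴ G` elementary abelian, Sylow 2-subgroups of `G` abelian, `a`
quadratic on `V`: the image of `a` in `G / C_G(V)` lies in a normal `p`-subgroup. -/
theorem core_normal (hp2 : p ≠ 2) (V : Subgroup G) [hVn : V.Normal]
    (hVc : ∀ x ∈ V, ∀ y ∈ V, x * y = y * x) (hVe : ∀ x ∈ V, x ^ p = 1)
    (hab2 : ∀ T : Sylow 2 G, IsMulCommutative T) (a : G)
    (hq : ⁅⁅V, zpowers a⁆, zpowers a⁆ = ⊥) :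
    ∃ N : Subgroup (G ⧸ centralizer (V : Set G)), N.Normal ∧ IsPGroup p N ∧
      (QuotientGroup.mk a : G ⧸ centralizer (V : Set G)) ∈ N := by
  obtain ⟨D, hDn, hD1, hD2, hD3⟩ := core_hom p hp2 (MonoidHom.id G) V hVc hVe
    (fun h => by rw [normalizer_eq_top]; exact mem_top _) hab2 a hq
  refine ⟨D.map (QuotientGroup.mk' _), ?_, ?_, ⟨a, hD2, rfl⟩⟩
  · exact hDn.map _ (QuotientGroup.mk'_surjective _)
  · rintro ⟨_, d, hd, rfl⟩
    obtain ⟨k, hk⟩ := hD3 d hd
    refine ⟨k, Subtype.ext ?_⟩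
    rw [Subgroup.coe_pow, Subgroup.coe_one]
    change (QuotientGroup.mk' _ d) ^ p ^ k = 1
    rw [← map_pow]
    exact (QuotientGroup.eq_one_iff _).2 hk

open Cfsg.Agent.Lib.Helper3 in
/-- **Core theorem, section form.** `N ≤ K` normal in `G` with `K / N` elementary abelian. -/
theorem core_section (hp2 : p ≠ 2) (K N : Subgroup G) [hKn : K.Normal] [hNn : N.Normal]
    (hcomm : ⁅K, K⁆ ≤ N) (hexp : ∀ x ∈ K, x ^ p ∈ N)
    (hab2 : ∀ T : Sylow 2 G, IsMulCommutative T) (a : G)
    (hq : ⁅⁅K, zpowers a⁆, zpowers a⁆ ≤ N) :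
    ∃ D : Subgroup G, D.Normal ∧ (quotAct N K).ker ≤ D ∧ a ∈ D ∧
      ∀ d ∈ D, ∃ k : ℕ, d ^ p ^ k ∈ (quotAct N K).ker := by
  letI : CommGroup (K ⧸ N.subgroupOf K) :=
    { (inferInstance : Group (K ⧸ N.subgroupOf K)) with
      mul_comm := by
        intro x y
        induction x using QuotientGroup.induction_on with
        | H x =>
        induction y using QuotientGroup.induction_on with
        | H y =>
        rw [← QuotientGroup.mk_mul, ← QuotientGroup.mk_mul, QuotientGroup.eq, mem_subgroupOf]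
        have h1 : ⁅((y : G))⁻¹, ((x : G))⁻¹⁆ ∈ ⁅K, K⁆ :=
          Subgroup.commutator_mem_commutator (K.inv_mem y.2) (K.inv_mem x.2)
        have h2 : (((x * y)⁻¹ * (y * x) : K) : G) = ⁅((y : G))⁻¹, ((x : G))⁻¹⁆ := by
          rw [commutatorElement_def]
          simp [mul_assoc]
        rw [h2]
        exact hcomm h1 }
  have hexp' : ∀ v : K ⧸ N.subgroupOf K, v ^ p = 1 := by
    intro v
    induction v using QuotientGroup.induction_on with
    | H x =>
    rw [← QuotientGroup.mk_pow, QuotientGroup.eq_one_iff, mem_subgroupOf]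
    simpa using hexp x x.2
  have ha : ∀ v : K ⧸ N.subgroupOf K,
      quotAct N K a (quotAct N K a v / v) = quotAct N K a v / v := by
    intro v
    induction v using QuotientGroup.induction_on with
    | H x =>
    obtain ⟨x, hx⟩ := x
    have hw : a * x * a⁻¹ * x⁻¹ ∈ K :=
      K.mul_mem (hKn.conj_mem x hx a) (K.inv_mem hx)
    have h1 : quotAct N K a (QuotientGroup.mk ⟨x, hx⟩) / (QuotientGroup.mk ⟨x, hx⟩)
        = (QuotientGroup.mk (⟨a * x * a⁻¹ * x⁻¹, hw⟩ : K) : K ⧸ N.subgroupOf K) := by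
      rw [quotAct_mk', div_eq_mul_inv, ← QuotientGroup.mk_inv, ← QuotientGroup.mk_mul]
      rfl
    rw [h1, quotAct_mk', QuotientGroup.eq, mem_subgroupOf]
    have hw1 : a * x * a⁻¹ * x⁻¹ ∈ ⁅K, zpowers a⁆ := by
      rw [Subgroup.commutator_comm]
      exact Subgroup.commutator_mem_commutator (mem_zpowers a) hx
    have h2 : ⁅a, (a * x * a⁻¹ * x⁻¹)⁻¹⁆ ∈ ⁅⁅K, zpowers a⁆, zpowers a⁆ := by
      rw [Subgroup.commutator_comm]
      exact Subgroup.commutator_mem_commutator (mem_zpowers a) (Subgroup.inv_mem _ hw1)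
    have h3 : (((⟨a * (a * x * a⁻¹ * x⁻¹) * a⁻¹, hKn.conj_mem _ hw a⟩ : K)⁻¹ *
        ⟨a * x * a⁻¹ * x⁻¹, hw⟩ : K) : G) = ⁅a, (a * x * a⁻¹ * x⁻¹)⁻¹⁆ := by
      rw [commutatorElement_def]
      simp [mul_assoc]
    rw [h3]
    exact hq h2
  exact core_mulAut p hp2 hexp' (quotAct N K) hab2 a ha

open Cfsg.Agent.Lib.Helper3 in
/-- **Core theorem, `p`-group form.** `P ⊴ G` a `p`-group, Sylow 2-subgroups of `G` abelian, `a`
quadratic on `P`: `a` lies in a normal subgroup `D ≥ C_G(P)` with `D / C_G(P)` a `p`-group. -/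
theorem core_pgroup (hp2 : p ≠ 2) (P : Subgroup G) [hPn : P.Normal] (hP : IsPGroup p P)
    (hab2 : ∀ T : Sylow 2 G, IsMulCommutative T) (a : G)
    (hq : ⁅⁅P, zpowers a⁆, zpowers a⁆ = ⊥) :
    ∃ D : Subgroup G, D.Normal ∧ centralizer (P : Set G) ≤ D ∧ a ∈ D ∧
      ∀ d ∈ D, ∃ k : ℕ, d ^ p ^ k ∈ centralizer (P : Set G) := by
  set N : Subgroup G := (frattini ↥P).map P.subtype with hN
  haveI hNn : N.Normal := ConjAct.normal_of_characteristic_of_normal
  have hcomm : ⁅P, P⁆ ≤ N := by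
    have h1 := Cfsg.Agent.Lib.Helper14.commutator_le_frattini_of_isPGroup' hP
    have h2 : ⁅P, P⁆ = (commutator ↥P).map P.subtype := by
      rw [commutator_def, Subgroup.map_commutator, ← MonoidHom.range_eq_map,
        Subgroup.range_subtype]
    rw [h2]
    exact Subgroup.map_mono h1
  have hexp : ∀ x ∈ P, x ^ p ∈ N := by
    intro x hx
    exact ⟨⟨x, hx⟩ ^ p, Cfsg.Agent.Lib.Helper14.pow_mem_frattini_of_isPGroup' hP ⟨x, hx⟩, rfl⟩
  obtain ⟨D, hDn, hD1, hD2, hD3⟩ := core_section p hp2 P N hcomm hexp hab2 a (hq ▸ bot_le)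
  have hC1 : centralizer (P : Set G) ≤ (quotAct N P).ker := by
    intro g hg
    rw [MonoidHom.mem_ker, quotAct_eq_one_iff]
    intro x hx
    have := mem_centralizer_iff.1 hg x hx
    have h1 : g * x * g⁻¹ * x⁻¹ = 1 := by rw [← this]; group
    rw [h1]; exact N.one_mem
  have hC2 : ∀ g ∈ (quotAct N P).ker, ∃ j : ℕ, g ^ p ^ j ∈ centralizer (P : Set G) := by
    intro g hg
    rw [MonoidHom.mem_ker, quotAct_eq_one_iff] at hg
    have hα : (MulAut.conjNormal g : MulAut P) ∈ trivOnFrattiniQuot ↥P := by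
      intro x
      obtain ⟨y, hy, hyx⟩ := hg x x.2
      have : y = (MulAut.conjNormal g : MulAut P) x * x⁻¹ := by
        apply Subtype.ext
        have hyx' : (y : G) = g * x * g⁻¹ * (x : G)⁻¹ := hyx
        rw [hyx']
        simp [MulAut.conjNormal_apply]
      rw [← this]
      exact hy
    obtain ⟨j, hj⟩ := exists_pow_eq_one_of_trivOnFrattiniQuot hP _ hα
    refine ⟨j, ?_⟩
    rw [← map_pow] at hj
    rw [mem_centralizer_iff]
    intro x hx
    have := congrArg (fun β : MulAut P => ((β ⟨x, hx⟩ : P) : G)) hj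
    simp only [MulAut.conjNormal_apply, MulAut.one_apply] at this
    have h2 : g ^ p ^ j * x = x * g ^ p ^ j := by
      have := congrArg (· * g ^ p ^ j) this
      simpa using this
    exact h2.symm
  refine ⟨D, hDn, hC1.trans hD1, hD2, ?_⟩
  intro d hd
  obtain ⟨k, hk⟩ := hD3 d hd
  obtain ⟨j, hj⟩ := hC2 _ hk
  exact ⟨k + j, by rwa [pow_add, pow_mul]⟩

end Internal

end Cfsg.Agent.Lib.Helper15.QuadInternal
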