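import Mathlib
import Cfsg.Agent.Lib.Helper15.TwoByTwo
import Cfsg.Agent.Lib.Helper15.QuadChain
import Cfsg.Agent.Lib.Helper15.QuadSL2
import Cfsg.Agent.Lib.Helper14.FrattiniQuot
import Cfsg.Agent.Lib.Lead.QuatIso
import Cfsg.Agent.Lib.Helper14.ExtCoprime
import Cfsg.Agent.Lib.Helper9.SL23

/-!
# `p'`-subgroups of `SL₂(F)` normalized by an element of order `p` (helper15)

`char F = p` odd.  If `x ∈ SL₂(F)` has order `p` and acts non-trivially on a finite 2-group
`R ≤ SL₂(F)` all of whose proper `x`-invariant subgroups are centralized by `x`, then `p = 3` and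
`R` is a quaternion group of order 8.
-/

set_option autoImplicit false

namespace Cfsg.Agent.Lib.Helper15.SL2Quat

open Cfsg.Agent.Lib.Helper15.TwoByTwo

variable {F : Type*} [Field F]

local notation "SL2" => Matrix.SpecialLinearGroup (Fin 2) F
local notation "M2" => Matrix (Fin 2) (Fin 2) F

theorem trace_eq_zero_of_sq_zero (N : M2) (hN : N * N = 0) : N.trace = 0 := by
  have hc := cayley N
  have hdet : N.det = 0 := by
    have : N.det * N.det = 0 := by rw [← Matrix.det_mul, hN, Matrix.det_zero]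
    exact mul_self_eq_zero.1 this
  rw [hN, hdet, zero_smul, sub_zero] at hc
  rcases smul_eq_zero.1 hc.symm with h | h
  · exact h
  · rw [h, Matrix.trace_zero]

theorem sq_zero_of_pow_char (p : ℕ) [Fact p.Prime] [CharP F p] (X : M2)
    (hX : X ^ p = 1) : (X - 1) * (X - 1) = 0 := by
  set N := X - 1 with hN
  have hNp : N ^ p = 0 := by
    rw [hN, sub_pow_char_of_commute p (Commute.one_right X), hX, one_pow, sub_self]
  have hc := cayley N
  have hdetN : N.det = 0 := by
    have : N.det ^ p = 0 := by rw [← Matrix.det_pow, hNp, Matrix.det_zero]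
    exact (pow_eq_zero_iff (Fact.out : p.Prime).ne_zero).1 this
  rw [hdetN, zero_smul, sub_zero] at hc
  have hpow : ∀ k : ℕ, N ^ (k + 1) = N.trace ^ k • N := by
    intro k
    induction k with
    | zero => simp
    | succ k ih => rw [pow_succ, ih, smul_mul_assoc, hc, smul_smul, ← pow_succ]
  obtain ⟨k, hk⟩ : ∃ k, p = k + 1 := ⟨p - 1, by have := (Fact.out : p.Prime).pos; omega⟩
  rw [hk, hpow] at hNp
  rcases smul_eq_zero.1 hNp with h | h
  · have hk0 : k ≠ 0 := by
      rintro rfl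
      exact (Fact.out : p.Prime).one_lt.ne' (by omega)
    rw [hc, (pow_eq_zero_iff hk0).1 h, zero_smul]
  · rw [h, mul_zero]

/-- A `p'`-element of `SL₂` commuting with a non-trivial unipotent element is `±1`. -/
theorem pm_one_of_comm (h2 : (2 : F) ≠ 0) (X C : M2) (hXdet : X.det = 1)
    (hXsq : (X - 1) * (X - 1) = 0) (hX1 : X ≠ 1)
    (hCdet : C.det = 1) (hcomm : X * C = C * X) (r : ℕ) (hr : (r : F) ≠ 0) (hCr : C ^ r = 1) :
    C = 1 ∨ C = -1 := by
  have hXns : ∀ c : F, X ≠ c • 1 := by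
    intro c hc
    apply hX1
    have h1 : (X - 1) = (c - 1) • (1 : M2) := by rw [hc, sub_smul, one_smul]
    rw [h1, smul_mul_smul_comm, mul_one] at hXsq
    have h3 : (c - 1) * (c - 1) = 0 := by
      have := congrFun (congrFun hXsq 0) 0
      simpa using this
    have h4 : c = 1 := sub_eq_zero.1 (mul_self_eq_zero.1 h3)
    rw [hc, h4, one_smul]
  have htr : X.trace = 2 := by
    have h1 := trace_eq_zero_of_sq_zero (X - 1) hXsq
    rw [Matrix.trace_sub, Matrix.trace_one, sub_eq_zero] at h1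
    rw [h1]; simp
  obtain ⟨α, β, hC⟩ := comm_nonscalar X C hXns hcomm
  have htrC : C.trace = 2 * α + β * 2 := by rw [hC, trace_smul_one_add, htr]
  have hdetC : C.det = α ^ 2 + α * β * 2 + β ^ 2 * 1 := by rw [hC, det_smul_one_add, htr, hXdet]
  by_cases hCs : ∃ c : F, C = c • 1
  · obtain ⟨c, hc⟩ := hCs
    have hcc : c * c = 1 := by
      rw [hc] at hCdet
      simpa [Matrix.det_smul, pow_two] using hCdet
    rcases mul_self_eq_one_iff.1 hcc with h | h
    · left; rw [hc, h, one_smul]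
    · right; rw [hc, h, neg_one_smul]
  · exfalso
    push Not at hCs
    exact disc_ne_zero h2 C hCs r hr hCr (by rw [htrC, hdetC]; ring)

/-- A matrix commuting with two anticommuting invertible matrices is scalar. -/
theorem scalar_of_comm_pair (h2 : (2 : F) ≠ 0) (G G' K : M2) (hanti : G' * G = -(G * G'))
    (hdG : G.det ≠ 0) (hdG' : G'.det ≠ 0) (hKG : K * G = G * K) (hKG' : K * G' = G' * K) :
    ∃ c : F, K = c • 1 := by
  have hGG'0 : G * G' ≠ 0 := by
    intro h
    have : (G * G').det = 0 := by rw [h, Matrix.det_zero]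
    rw [Matrix.det_mul] at this
    rcases mul_eq_zero.1 this with h | h
    · exact hdG h
    · exact hdG' h
  have hGns : ∀ c : F, G ≠ c • 1 := by
    intro c hc
    rw [hc] at hanti
    simp only [mul_smul_comm, mul_one, smul_mul_assoc, one_mul] at hanti
    have h3 : (2 : F) • (c • G') = 0 := by
      rw [two_smul]; nth_rewrite 1 [hanti]; simp
    have h4 : c • G' = 0 := by
      rcases smul_eq_zero.1 h3 with h | h
      · exact absurd h h2
      · exact h
    apply hGG'0
    rw [hc, smul_mul_assoc, one_mul, h4]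
  obtain ⟨α, β, hK⟩ := comm_nonscalar G K hGns hKG.symm
  rw [hK] at hKG'
  simp only [add_mul, mul_add, smul_mul_assoc, mul_smul_comm, one_mul, mul_one] at hKG'
  have h5 : β • (G * G') = β • (G' * G) := add_left_cancel hKG'
  rw [hanti, smul_neg] at h5
  have h6 : (2 : F) • (β • (G * G')) = 0 := by
    rw [two_smul]; nth_rewrite 1 [h5]; simp
  have h7 : β = 0 := by
    rcases smul_eq_zero.1 h6 with h | h
    · exact absurd h h2
    · rcases smul_eq_zero.1 h with h | h
      · exact h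
      · exact absurd h hGG'0
  exact ⟨α, by rw [hK, h7, zero_smul, add_zero]⟩

theorem pm_of_scalar (K : M2) (hdK : K.det = 1) (hs : ∃ c : F, K = c • 1) : K = 1 ∨ K = -1 := by
  obtain ⟨c, hc⟩ := hs
  have hcc : c * c = 1 := by
    rw [hc] at hdK
    simpa [Matrix.det_smul, pow_two] using hdK
  rcases mul_self_eq_one_iff.1 hcc with h | h
  · left; rw [hc, h, one_smul]
  · right; rw [hc, h, neg_one_smul]

theorem pm_of_mul_scalar (K W : M2) (hW : W * W = -1) (hdK : K.det = 1) (hdW : W.det = 1)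
    (hs : ∃ c : F, K * W = c • 1) : K = W ∨ K = -W := by
  have hd : (K * W).det = 1 := by rw [Matrix.det_mul, hdK, hdW, mul_one]
  have hK : K = -(K * W * W) := by rw [mul_assoc, hW, mul_neg, mul_one, neg_neg]
  rcases pm_of_scalar (K * W) hd hs with h | h
  · right; rw [hK, h, one_mul]
  · left; rw [hK, h, neg_mul, one_mul, neg_neg]

/-- The "eight elements" lemma. -/
theorem eight (h2 : (2 : F) ≠ 0) (G G' K : M2) (hG : G * G = -1) (hG' : G' * G' = -1)
    (hanti : G' * G = -(G * G')) (hdG : G.det = 1) (hdG' : G'.det = 1) (hdK : K.det = 1)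
    (hKG : K * G = G * K ∨ K * G = -(G * K)) (hKG' : K * G' = G' * K ∨ K * G' = -(G' * K)) :
    K = 1 ∨ K = -1 ∨ K = G ∨ K = -G ∨ K = G' ∨ K = -G' ∨ K = G * G' ∨ K = -(G * G') := by
  have hdG0 : G.det ≠ 0 := by rw [hdG]; exact one_ne_zero
  have hdG'0 : G'.det ≠ 0 := by rw [hdG']; exact one_ne_zero
  have hW : (G * G') * (G * G') = -1 := by
    calc (G * G') * (G * G') = G * (G' * G) * G' := by noncomm_ring
      _ = -(G * G * (G' * G')) := by rw [hanti]; noncomm_ring
      _ = -1 := by rw [hG, hG']; simp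
  rcases hKG with h1 | h1 <;> rcases hKG' with h3 | h3
  · rcases pm_of_scalar K hdK (scalar_of_comm_pair h2 G G' K hanti hdG0 hdG'0 h1 h3) with h | h
    · exact Or.inl h
    · exact Or.inr (Or.inl h)
  · -- K commutes with G, anticommutes with G' : use W = G
    have c1 : (K * G) * G = G * (K * G) := by rw [h1, mul_assoc, h1]
    have c2 : (K * G) * G' = G' * (K * G) := by
      calc (K * G) * G' = K * (G * G') := by rw [mul_assoc]
        _ = K * (-(G' * G)) := by rw [hanti, neg_neg]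
        _ = -(K * G' * G) := by rw [mul_neg, mul_assoc]
        _ = G' * K * G := by rw [h3, neg_mul, neg_neg]
        _ = G' * (K * G) := by rw [mul_assoc]
    rcases pm_of_mul_scalar K G hG hdK hdG
      (scalar_of_comm_pair h2 G G' (K * G) hanti hdG0 hdG'0 c1 c2) with h | h
    · exact Or.inr (Or.inr (Or.inl h))
    · exact Or.inr (Or.inr (Or.inr (Or.inl h)))
  · -- K anticommutes with G, commutes with G' : use W = G'
    have c1 : (K * G') * G = G * (K * G') := by
      calc (K * G') * G = K * (G' * G) := by rw [mul_assoc]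
        _ = -(K * G * G') := by rw [hanti, mul_neg, mul_assoc]
        _ = G * K * G' := by rw [h1, neg_mul, neg_neg]
        _ = G * (K * G') := by rw [mul_assoc]
    have c2 : (K * G') * G' = G' * (K * G') := by rw [h3, mul_assoc, h3]
    rcases pm_of_mul_scalar K G' hG' hdK hdG'
      (scalar_of_comm_pair h2 G G' (K * G') hanti hdG0 hdG'0 c1 c2) with h | h
    · exact Or.inr (Or.inr (Or.inr (Or.inr (Or.inl h))))
    · exact Or.inr (Or.inr (Or.inr (Or.inr (Or.inr (Or.inl h)))))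
  · -- anticommutes with both : use W = G * G'
    have c1 : (K * (G * G')) * G = G * (K * (G * G')) := by
      calc (K * (G * G')) * G = K * G * (G' * G) := by noncomm_ring
        _ = -(K * G * G * G') := by rw [hanti]; noncomm_ring
        _ = G * K * G * G' := by rw [h1]; noncomm_ring
        _ = G * (K * (G * G')) := by noncomm_ring
    have c2 : (K * (G * G')) * G' = G' * (K * (G * G')) := by
      calc (K * (G * G')) * G' = K * (G * G') * G' := rfl
        _ = -(K * (G' * G) * G') := by rw [hanti]; noncomm_ring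
        _ = -(K * G' * (G * G')) := by noncomm_ring
        _ = G' * K * (G * G') := by rw [h3]; noncomm_ring
        _ = G' * (K * (G * G')) := by noncomm_ring
    have hdW : (G * G').det = 1 := by rw [Matrix.det_mul, hdG, hdG', mul_one]
    rcases pm_of_mul_scalar K (G * G') hW hdK hdW
      (scalar_of_comm_pair h2 G G' (K * (G * G')) hanti hdG0 hdG'0 c1 c2) with h | h
    · exact Or.inr (Or.inr (Or.inr (Or.inr (Or.inr (Or.inr (Or.inl h))))))
    · exact Or.inr (Or.inr (Or.inr (Or.inr (Or.inr (Or.inr (Or.inr h))))))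


theorem comm_of_pow_comm {A : Type*} [Monoid A] (p : ℕ) (hp : 1 < p) (X B : A) (hXp : X ^ p = 1)
    (j : ℕ) (hj : Nat.Coprime j p) (h : X ^ j * B = B * X ^ j) : X * B = B * X := by
  obtain ⟨k, -, hk⟩ := Nat.exists_mul_mod_eq_one_of_coprime hj hp
  have h1 : X ^ (j * k) = X := by
    conv_rhs => rw [← pow_one X]
    rw [← Nat.mod_add_div (j * k) p, hk, pow_add, pow_mul, hXp, one_pow, mul_one]
  have h2 : Commute (X ^ j) B := h
  have h3 := h2.pow_left k
  rw [← pow_mul, h1] at h3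
  exact h3

theorem sq_comm_of_anti (A G : M2) (h : A * G = -(G * A)) : (A * A) * G = G * (A * A) := by
  calc (A * A) * G = A * (A * G) := by rw [mul_assoc]
    _ = A * (-(G * A)) := by rw [h]
    _ = -(A * G) * A := by rw [mul_neg, neg_mul, mul_assoc]
    _ = -(-(G * A)) * A := by rw [h]
    _ = G * (A * A) := by rw [neg_neg, mul_assoc]

theorem sq_comm_of_pm (A G : M2) (h : A * G = G * A ∨ A * G = -(G * A)) :
    (A * A) * G = G * (A * A) := by
  rcases h with h | h
  · rw [mul_assoc, h, ← mul_assoc, h, mul_assoc]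
  · exact sq_comm_of_anti A G h


open scoped commutatorElement

open Cfsg.Agent.Lib.Helper14 in
/-- **Core lemma**: a minimal non-centralized invariant 2-group is `Q₈`, and `p = 3`. -/
theorem core_minimal (p : ℕ) [Fact p.Prime] [CharP F p] (hp2 : p ≠ 2)
    {R : Type*} [Group R] [Finite R] (hR : IsPGroup 2 R)
    (ι : R →* SL2) (hι : Function.Injective ι) (X : SL2) (hXp : X ^ p = 1)
    (σ : MulAut R) (hσ : ∀ r, ι (σ r) = X * ι r * X⁻¹) (hσ1 : σ ≠ 1)
    (hmin : ∀ T : Subgroup R, T ≠ ⊤ → (∀ t ∈ T, σ t ∈ T) → ∀ t ∈ T, σ t = t) :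
    p = 3 ∧ Nonempty (R ≃* QuaternionGroup 2) := by
  have hp1 : 1 < p := (Fact.out : p.Prime).one_lt
  have h2F : (2 : F) ≠ 0 := by
    intro h
    have h1 : ((2 : ℕ) : F) = 0 := by exact_mod_cast h
    have h3 := (CharP.cast_eq_zero_iff F p 2).1 h1
    exact hp2 ((Nat.prime_dvd_prime_iff_eq (Fact.out : p.Prime) Nat.prime_two).1 h3)
  have hneg : ∀ A : M2, A = -A → A = 0 := by
    intro A hA
    have h1 : (2 : F) • A = 0 := by rw [two_smul]; nth_rewrite 1 [hA]; simp
    rcases smul_eq_zero.1 h1 with h | h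
    · exact absurd h h2F
    · exact h
  have h1neg : (1 : M2) ≠ -1 := by
    intro h
    have := hneg 1 h
    exact one_ne_zero this
  obtain ⟨m, hm⟩ : ∃ m : R → M2, ∀ r, m r = ((ι r : SL2) : M2) := ⟨fun r => ((ι r : SL2) : M2), fun _ => rfl⟩
  have m_mul : ∀ r s, m (r * s) = m r * m s := by
    intro r s; rw [hm, hm, hm, map_mul, Matrix.SpecialLinearGroup.coe_mul]
  have m_one : m 1 = 1 := by rw [hm, map_one, Matrix.SpecialLinearGroup.coe_one]
  have m_pow : ∀ r (n : ℕ), m (r ^ n) = m r ^ n := by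
    intro r n; rw [hm, hm, map_pow, Matrix.SpecialLinearGroup.coe_pow]
  have m_inj : Function.Injective m := by
    intro r s h
    rw [hm, hm] at h
    exact hι (Subtype.ext h)
  have m_det : ∀ r, (m r).det = 1 := fun r => by rw [hm]; exact (ι r).2
  obtain ⟨Xm, hXm⟩ : ∃ Xm : M2, Xm = (X : M2) := ⟨_, rfl⟩
  obtain ⟨Xi, hXi⟩ : ∃ Xi : M2, Xi = ((X⁻¹ : SL2) : M2) := ⟨_, rfl⟩
  have hXXi : Xm * Xi = 1 := by
    rw [hXm, hXi, ← Matrix.SpecialLinearGroup.coe_mul, mul_inv_cancel, Matrix.SpecialLinearGroup.coe_one]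
  have hXiX : Xi * Xm = 1 := by
    rw [hXm, hXi, ← Matrix.SpecialLinearGroup.coe_mul, inv_mul_cancel, Matrix.SpecialLinearGroup.coe_one]
  have m_σ : ∀ r, m (σ r) = Xm * m r * Xi := by
    intro r
    rw [hm, hm, hσ, Matrix.SpecialLinearGroup.coe_mul, Matrix.SpecialLinearGroup.coe_mul, hXm, hXi]
  have hXmp : Xm ^ p = 1 := by
    rw [hXm, ← Matrix.SpecialLinearGroup.coe_pow, hXp, Matrix.SpecialLinearGroup.coe_one]
  have hXdet : Xm.det = 1 := by rw [hXm]; exact X.2
  have hXsq := sq_zero_of_pow_char p Xm hXmp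
  have hX1 : Xm ≠ 1 := by
    intro h
    apply hσ1
    ext r
    apply m_inj
    have hXi1 : Xi = 1 := by rw [h, one_mul] at hXXi; exact hXXi
    rw [m_σ, h, hXi1, one_mul, mul_one]
    rfl
  obtain ⟨k, hk⟩ := IsPGroup.iff_card.1 hR
  have hpowR : ∀ r : R, m r ^ (2 ^ k) = 1 := by
    intro r
    have h1 : r ^ (2 ^ k) = 1 := by rw [← hk]; exact pow_card_eq_one'
    rw [← m_pow, h1, m_one]
  have h2k : ((2 ^ k : ℕ) : F) ≠ 0 := by push_cast; exact pow_ne_zero _ h2F
  have F3 : ∀ r, Xm * m r = m r * Xm → m r = 1 ∨ m r = -1 := fun r hc =>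
    pm_one_of_comm h2F Xm (m r) hXdet hXsq hX1 (m_det r) hc (2 ^ k) h2k (hpowR r)
  have hconj : ∀ r, Xm * m r = m (σ r) * Xm := by
    intro r
    rw [m_σ, mul_assoc, mul_assoc, hXiX, mul_one]
  have Ffix : ∀ r, σ r = r → m r = 1 ∨ m r = -1 := by
    intro r hr
    apply F3
    have := hconj r
    rwa [hr] at this
  have hcen : ∀ r, (m r = 1 ∨ m r = -1) → σ r = r := by
    intro r hr
    apply m_inj
    rw [m_σ]
    rcases hr with h | h
    · rw [h, mul_one, hXXi]
    · rw [h, mul_neg, mul_one, neg_mul, hXXi]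
  have hinvol : ∀ r, m r * m r = 1 → m r = 1 ∨ m r = -1 := by
    intro r hr
    by_cases h1 : ι r = 1
    · left; rw [hm, h1, Matrix.SpecialLinearGroup.coe_one]
    · right
      rw [hm]
      apply Cfsg.Agent.Lib.Helper15.QuadSL2.involution_eq_neg_one h2F (ι r) _ h1
      apply Subtype.ext
      rw [Matrix.SpecialLinearGroup.coe_mul, Matrix.SpecialLinearGroup.coe_one, ← hm]
      exact hr
  -- Frattini
  have hnt : Nontrivial R := by
    by_contra h
    rw [not_nontrivial_iff_subsingleton] at h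
    apply hσ1
    ext r
    exact Subsingleton.elim _ _
  have hfr_ne : frattini R ≠ ⊤ := by
    obtain h | ⟨M, hM, -⟩ := eq_top_or_exists_le_coatom (⊥ : Subgroup R)
    · exact absurd h bot_ne_top
    · intro h
      exact hM.1 (top_le_iff.1 (h ▸ frattini_le_coatom hM))
  have hfr_inv : ∀ t ∈ frattini R, σ t ∈ frattini R := by
    intro t ht
    exact (Subgroup.characteristic_iff_le_comap.1 (frattini_characteristic (G := R))) σ ht
  have hfr : ∀ t ∈ frattini R, m t = 1 ∨ m t = -1 :=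
    fun t ht => Ffix t (hmin _ hfr_ne hfr_inv t ht)
  have F1 : ∀ r, m r * m r = 1 ∨ m r * m r = -1 := by
    intro r
    have := hfr (r ^ 2) (pow_mem_frattini_of_isPGroup' hR r)
    rwa [pow_two, m_mul] at this
  have F2 : ∀ r s, m s * m r = m r * m s ∨ m s * m r = -(m r * m s) := by
    intro r s
    have hc : ⁅s, r⁆ ∈ frattini R := commutator_le_frattini_of_isPGroup' hR
      (by rw [commutator_def]
          exact Subgroup.commutator_mem_commutator (Subgroup.mem_top s) (Subgroup.mem_top r))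
    have h1 : s * r = ⁅s, r⁆ * (r * s) := by rw [commutatorElement_def]; group
    have h2 : m s * m r = m ⁅s, r⁆ * (m r * m s) := by rw [← m_mul, ← m_mul, ← m_mul, ← h1]
    rcases hfr _ hc with h | h
    · left; rw [h2, h, one_mul]
    · right; rw [h2, h, neg_mul, one_mul]
  -- the element g
  obtain ⟨g, hg⟩ : ∃ g, σ g ≠ g := by
    by_contra h
    push Not at h
    exact hσ1 (MulEquiv.ext h)
  have hσinj : Function.Injective σ := σ.injective
  have hGsq : m g * m g = -1 := by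
    rcases F1 g with h | h
    · exact absurd (hcen g (hinvol g h)) hg
    · exact h
  have hG'sq : m (σ g) * m (σ g) = -1 := by
    rcases F1 (σ g) with h | h
    · exact absurd (hσinj (hcen (σ g) (hinvol (σ g) h))) hg
    · exact h
  have hnc : ∀ r, Xm * m r = m r * Xm → σ r = r := fun r h => hcen r (F3 r h)
  have hcop : ∀ j : ℕ, Nat.Coprime j p → ∀ r, Xm ^ j * m r = m r * Xm ^ j → σ r = r :=
    fun j hj r h => hnc r (comm_of_pow_comm p hp1 Xm (m r) hXmp j hj h)
  have hcop2 : Nat.Coprime 2 p :=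
    (Nat.coprime_primes Nat.prime_two (Fact.out : p.Prime)).2 (Ne.symm hp2)
  have hcop4 : Nat.Coprime 4 p := by
    have : (4 : ℕ) = 2 ^ 2 := by norm_num
    rw [this]; exact Nat.Coprime.pow_left 2 hcop2
  have hGG'0 : m g * m (σ g) ≠ 0 := by
    intro h
    have : (m g * m (σ g)).det = 0 := by rw [h, Matrix.det_zero]
    rw [Matrix.det_mul, m_det, m_det, mul_one] at this
    exact one_ne_zero this
  have hanti : m (σ g) * m g = -(m g * m (σ g)) := by
    rcases F2 g (σ g) with h | h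
    · exfalso
      have h1 : m (g * σ g) * m (g * σ g) = 1 := by
        rw [m_mul]
        calc m g * m (σ g) * (m g * m (σ g)) = m g * (m (σ g) * m g) * m (σ g) := by noncomm_ring
          _ = (m g * m g) * (m (σ g) * m (σ g)) := by rw [h]; noncomm_ring
          _ = 1 := by rw [hGsq, hG'sq]; simp
      rcases hinvol _ h1 with h3 | h3
      · -- G * G' = 1 ⇒ G' = -G
        rw [m_mul] at h3
        have h4 : m (σ g) = -m g := by
          calc m (σ g) = -(m g * m g * m (σ g)) := by rw [hGsq]; simp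
            _ = -(m g * (m g * m (σ g))) := by rw [mul_assoc]
            _ = -m g := by rw [h3, mul_one]
        have h5 : Xm * m g = -(m g * Xm) := by rw [hconj, h4, neg_mul]
        have h6 := sq_comm_of_anti Xm (m g) h5
        rw [← pow_two] at h6
        exact hg (hcop 2 hcop2 g h6)
      · rw [m_mul] at h3
        have h4 : m (σ g) = m g := by
          calc m (σ g) = -(m g * m g * m (σ g)) := by rw [hGsq]; simp
            _ = -(m g * (m g * m (σ g))) := by rw [mul_assoc]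
            _ = m g := by rw [h3, mul_neg, mul_one, neg_neg]
        exact hg (m_inj h4)
    · exact h
  -- the eight elements
  have hE : ∀ r, m r = 1 ∨ m r = -1 ∨ m r = m g ∨ m r = -m g ∨ m r = m (σ g) ∨ m r = -m (σ g) ∨
      m r = m g * m (σ g) ∨ m r = -(m g * m (σ g)) :=
    fun r => eight h2F (m g) (m (σ g)) (m r) hGsq hG'sq hanti (m_det _) (m_det _) (m_det _)
      (F2 g r) (F2 (σ g) r)
  have hXG : Xm * m g = m (σ g) * Xm := hconj g
  have hXG' : Xm * m (σ g) = m (σ (σ g)) * Xm := hconj (σ g)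
  have hX2 : ∀ A B C : M2, Xm * A = B * Xm → Xm * B = C * Xm → Xm ^ 2 * A = C * Xm ^ 2 := by
    intro A B C h1 h2
    rw [pow_two, mul_assoc, h1, ← mul_assoc, h2, mul_assoc]
  have key : p = 3 ∧ (m (σ (σ g)) = m g * m (σ g) ∨ m (σ (σ g)) = -(m g * m (σ g))) := by
    have hcase : ∀ ε : M2, (ε = 1 ∨ ε = -1) → m (σ (σ g)) = ε * (m g * m (σ g)) → p = 3 := by
      intro ε hε h
      by_contra hp3
      have hcop3 : Nat.Coprime 3 p :=
        (Nat.coprime_primes Nat.prime_three (Fact.out : p.Prime)).2 (Ne.symm hp3)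
      have hεc : ∀ A : M2, ε * A = A * ε := by
        intro A; rcases hε with h | h <;> rw [h] <;> simp
      have hεε : ε * ε = 1 := by rcases hε with h | h <;> rw [h] <;> simp
      have h1 : Xm * (m g * m (σ g)) = ε * (m g * Xm) := by
        calc Xm * (m g * m (σ g)) = (Xm * m g) * m (σ g) := by rw [mul_assoc]
          _ = m (σ g) * (Xm * m (σ g)) := by rw [hXG, mul_assoc]
          _ = m (σ g) * (ε * (m g * m (σ g)) * Xm) := by rw [hXG', h]
          _ = ε * (m (σ g) * m g * m (σ g)) * Xm := by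
              rw [← mul_assoc, ← mul_assoc, ← hεc (m (σ g))]; noncomm_ring
          _ = ε * (-(m g * (m (σ g) * m (σ g)))) * Xm := by rw [hanti]; noncomm_ring
          _ = ε * (m g * Xm) := by rw [hG'sq]; noncomm_ring
      have h2 : Xm ^ 3 * m g = m g * Xm ^ 3 := by
        calc Xm ^ 3 * m g = Xm * (Xm * (Xm * m g)) := by noncomm_ring
          _ = Xm * ((Xm * m (σ g)) * Xm) := by rw [hXG, mul_assoc]
          _ = Xm * (ε * (m g * m (σ g)) * Xm * Xm) := by rw [hXG', h]
          _ = ε * (Xm * (m g * m (σ g))) * Xm * Xm := by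
              rw [mul_assoc ε, mul_assoc ε, ← mul_assoc Xm ε, ← hεc Xm]; noncomm_ring
          _ = (ε * ε) * (m g * Xm) * Xm * Xm := by rw [h1]; noncomm_ring
          _ = m g * Xm ^ 3 := by rw [hεε]; noncomm_ring
      exact hg (hcop 3 hcop3 g h2)
    rcases hE (σ (σ g)) with h | h | h | h | h | h | h | h
    · exact absurd (hσinj (hσinj (hcen _ (Or.inl h)))) hg
    · exact absurd (hσinj (hσinj (hcen _ (Or.inr h)))) hg
    · exfalso
      have h1 := hX2 _ _ _ hXG hXG'
      rw [h] at h1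
      have h2 := sq_comm_of_pm (Xm ^ 2) (m g) (Or.inl h1)
      rw [← pow_two, ← pow_mul] at h2
      exact hg (hcop 4 hcop4 g h2)
    · exfalso
      have h1 := hX2 _ _ _ hXG hXG'
      rw [h, neg_mul] at h1
      have h2 := sq_comm_of_pm (Xm ^ 2) (m g) (Or.inr h1)
      rw [← pow_two, ← pow_mul] at h2
      exact hg (hcop 4 hcop4 g h2)
    · exfalso
      rw [h] at hXG'
      have h2 := sq_comm_of_pm Xm (m (σ g)) (Or.inl hXG')
      rw [← pow_two] at h2
      exact hg (hσinj (hcop 2 hcop2 (σ g) h2))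
    · exfalso
      rw [h, neg_mul] at hXG'
      have h2 := sq_comm_of_pm Xm (m (σ g)) (Or.inr hXG')
      rw [← pow_two] at h2
      exact hg (hσinj (hcop 2 hcop2 (σ g) h2))
    · exact ⟨hcase 1 (Or.inl rfl) (by rw [h, one_mul]), Or.inl h⟩
    · exact ⟨hcase (-1) (Or.inr rfl) (by rw [h, neg_mul, one_mul]), Or.inr h⟩
  refine ⟨key.1, ?_⟩
  -- the isomorphism
  have hg4 : g ^ 4 = 1 := by
    apply m_inj
    rw [m_pow, m_one]
    calc m g ^ 4 = (m g * m g) * (m g * m g) := by noncomm_ring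
      _ = 1 := by rw [hGsq]; simp
  have hg2 : g ^ 2 ≠ 1 := by
    intro h
    have := congrArg m h
    rw [m_pow, pow_two, hGsq, m_one] at this
    exact h1neg this.symm
  have hord : orderOf g = 2 * 2 := by
    have := orderOf_eq_prime_pow (p := 2) (n := 1) (x := g) (by simpa using hg2) (by simpa using hg4)
    simpa using this
  have hb2 : (σ g) ^ 2 = g ^ 2 := by
    apply m_inj
    rw [m_pow, m_pow, pow_two, pow_two, hGsq, hG'sq]
  have h1 : g * (σ g * g) = σ g := by
    apply m_inj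
    rw [m_mul, m_mul, hanti, mul_neg, ← mul_assoc, hGsq]
    simp
  have hinv : σ g * g * (σ g)⁻¹ = g⁻¹ := by
    calc σ g * g * (σ g)⁻¹ = g⁻¹ * (g * (σ g * g)) * (σ g)⁻¹ := by group
      _ = g⁻¹ := by rw [h1]; group
  have hb : σ g ∉ Subgroup.zpowers g := by
    intro h
    obtain ⟨n, hn⟩ := Subgroup.mem_zpowers_iff.1 h
    have hc : Commute g (σ g) := by rw [← hn]; exact (Commute.refl g).zpow_right n
    have h3 : m g * m (σ g) = m (σ g) * m g := by rw [← m_mul, ← m_mul, hc.eq]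
    rw [hanti] at h3
    exact hGG'0 (hneg _ h3)
  let Θ := Cfsg.Agent.Lib.Lead.QuatIso.quatHom hord hb2 hinv
  have hΘinj : Function.Injective Θ := Cfsg.Agent.Lib.Lead.QuatIso.quatHom_injective hord hb2 hinv hb
  have hgΘ : g ∈ Θ.range := by
    refine ⟨QuaternionGroup.a 1, ?_⟩
    change g ^ (((1 : ZMod (2 * 2)).cast : ℤ)) = g
    have : (((1 : ZMod (2 * 2)).cast : ℤ)) = 1 := by decide
    rw [this, zpow_one]
  have hg'Θ : σ g ∈ Θ.range := by
    refine ⟨QuaternionGroup.xa 0, ?_⟩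
    change σ g * g ^ (((0 : ZMod (2 * 2)).cast : ℤ)) = σ g
    have : (((0 : ZMod (2 * 2)).cast : ℤ)) = 0 := by decide
    rw [this, zpow_zero, mul_one]
  have hm2 : m (g ^ 2) = -1 := by rw [m_pow, pow_two, hGsq]
  have hΘsurj : Function.Surjective Θ := by
    intro r
    have hr : r ∈ Θ.range := by
      rcases hE r with h | h | h | h | h | h | h | h
      · have : r = 1 := m_inj (h.trans m_one.symm)
        rw [this]; exact one_mem _
      · have : r = g ^ 2 := m_inj (h.trans hm2.symm)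
        rw [this]; exact pow_mem hgΘ 2
      · rw [m_inj h]; exact hgΘ
      · have : r = g ^ 2 * g := m_inj (by rw [h, m_mul, hm2]; simp)
        rw [this]; exact mul_mem (pow_mem hgΘ 2) hgΘ
      · rw [m_inj h]; exact hg'Θ
      · have : r = g ^ 2 * σ g := m_inj (by rw [h, m_mul, hm2]; simp)
        rw [this]; exact mul_mem (pow_mem hgΘ 2) hg'Θ
      · have : r = g * σ g := m_inj (by rw [h, m_mul])
        rw [this]; exact mul_mem hgΘ hg'Θ
      · have : r = g ^ 2 * (g * σ g) := m_inj (by rw [h, m_mul, m_mul, hm2]; simp)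
        rw [this]; exact mul_mem (pow_mem hgΘ 2) (mul_mem hgΘ hg'Θ)
    exact hr
  exact ⟨(MulEquiv.ofBijective Θ ⟨hΘinj, hΘsurj⟩).symm⟩


/-- An `x`-invariant Sylow 2-subgroup of a normal `p'`-subgroup. -/
theorem exists_invariant_sylow2 (p : ℕ) [Fact p.Prime] {M : Type*} [Group M] [Finite M]
    (x : M) (hx : x ^ p = 1) (Q : Subgroup M) [Q.Normal] (hQ : (Nat.card Q).Coprime p) :
    ∃ P₀ : Subgroup Q, (∀ q ∈ P₀, (MulAut.conjNormal x q : Q) ∈ P₀) ∧
      Nat.card P₀ = 2 ^ (Nat.card Q).factorization 2 := by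
  let f : Subgroup.zpowers x →* MulAut Q :=
    (MulAut.conjNormal (H := Q)).comp (Subgroup.zpowers x).subtype
  letI : MulDistribMulAction (Subgroup.zpowers x) Q := MulDistribMulAction.compHom Q f
  have hcop : (Nat.card (Subgroup.zpowers x)).Coprime (Nat.card Q) := by
    rw [Nat.card_zpowers]
    have : orderOf x ∣ p := orderOf_dvd_of_pow_eq_one hx
    exact Nat.Coprime.coprime_dvd_left this hQ.symm
  have hsol : Group.IsSolvable (Subgroup.zpowers x) :=
    Group.isSolvable_of_comm (fun a b => by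
      obtain ⟨a, ha⟩ := a
      obtain ⟨b, hb⟩ := b
      obtain ⟨m, rfl⟩ := Subgroup.mem_zpowers_iff.1 ha
      obtain ⟨n, rfl⟩ := Subgroup.mem_zpowers_iff.1 hb
      exact Subtype.ext (zpow_mul_comm x m n))
  obtain ⟨P₀, hP₀, hcard⟩ := Cfsg.Agent.Lib.Helper14.exists_invariant_sylow_ext
    (A := Subgroup.zpowers x) (G := Q) hcop (Or.inl hsol) 2
  exact ⟨P₀, fun q hq => hP₀ ⟨x, Subgroup.mem_zpowers x⟩ q hq, hcard⟩

/-- **`p'`-subgroups of `SL₂` normalized by an element of order `p`.** -/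
theorem quaternion_of_normalized (p : ℕ) [Fact p.Prime] [CharP F p] (hp2 : p ≠ 2)
    {M : Type*} [Group M] [Finite M] (ι : M →* SL2) (hι : Function.Injective ι)
    (x : M) (hx : x ^ p = 1) (Q : Subgroup M) [Q.Normal] (hQ : (Nat.card Q).Coprime p)
    (g : M) (hgQ : g ∈ Q) (hgx : x * g * x⁻¹ ≠ g) :
    p = 3 ∧ ∃ S : Subgroup M, S ≤ Q ∧ x ∈ Subgroup.normalizer (S : Set M) ∧
      Nonempty (S ≃* QuaternionGroup 2) ∧ ∃ s ∈ S, x * s * x⁻¹ ≠ s := by
  have h2F : (2 : F) ≠ 0 := by
    intro h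
    have h1 : ((2 : ℕ) : F) = 0 := by exact_mod_cast h
    have h3 := (CharP.cast_eq_zero_iff F p 2).1 h1
    exact hp2 ((Nat.prime_dvd_prime_iff_eq (Fact.out : p.Prime) Nat.prime_two).1 h3)
  obtain ⟨P₀, hP₀inv, hP₀card⟩ := exists_invariant_sylow2 p x hx Q hQ
  obtain ⟨R₀, hR₀⟩ : ∃ R₀ : Subgroup M, R₀ = P₀.map Q.subtype := ⟨_, rfl⟩
  have hR₀Q : R₀ ≤ Q := by rw [hR₀]; rintro _ ⟨q, -, rfl⟩; exact q.2
  have hR₀inv : ∀ s ∈ R₀, x * s * x⁻¹ ∈ R₀ := by
    rw [hR₀]
    rintro _ ⟨q, hq, rfl⟩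
    exact ⟨MulAut.conjNormal x q, hP₀inv q hq, MulAut.conjNormal_apply x q⟩
  have hR₀2 : IsPGroup 2 R₀ := by
    have : IsPGroup 2 P₀ := IsPGroup.of_card hP₀card
    rw [hR₀]
    exact this.map Q.subtype
  have hXp : ι x ^ p = 1 := by rw [← map_pow, hx, map_one]
  have hX1 : ι x ≠ 1 := by
    intro h
    apply hgx
    apply hι
    rw [map_mul, map_mul, h, one_mul, map_inv, h, inv_one, mul_one]
  have hC : ∀ s : M, (∃ k : ℕ, s ^ 2 ^ k = 1) → x * s * x⁻¹ = s → ∀ t : M, s * t = t * s := by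
    rintro s ⟨k, hk⟩ hs t
    apply hι
    rw [map_mul, map_mul]
    have hxs : x * s = s * x := by
      calc x * s = x * s * x⁻¹ * x := by group
        _ = s * x := by rw [hs]
    have hcomm : ((ι x : SL2) : M2) * ((ι s : SL2) : M2)
        = ((ι s : SL2) : M2) * ((ι x : SL2) : M2) := by
      rw [← Matrix.SpecialLinearGroup.coe_mul, ← Matrix.SpecialLinearGroup.coe_mul, ← map_mul,
        ← map_mul, hxs]
    have hsq := sq_zero_of_pow_char p ((ι x : SL2) : M2)
      (by rw [← Matrix.SpecialLinearGroup.coe_pow, hXp, Matrix.SpecialLinearGroup.coe_one])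
    have hXm1 : ((ι x : SL2) : M2) ≠ 1 :=
      fun h => hX1 (Subtype.ext (h.trans Matrix.SpecialLinearGroup.coe_one.symm))
    have h2k : ((2 ^ k : ℕ) : F) ≠ 0 := by push_cast; exact pow_ne_zero _ h2F
    have hpow : ((ι s : SL2) : M2) ^ (2 ^ k) = 1 := by
      rw [← Matrix.SpecialLinearGroup.coe_pow, ← map_pow, hk, map_one,
        Matrix.SpecialLinearGroup.coe_one]
    rcases pm_one_of_comm h2F _ _ (ι x).2 hsq hXm1 (ι s).2 hcomm (2 ^ k) h2k hpow with h | h
    · apply Subtype.ext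
      rw [Matrix.SpecialLinearGroup.coe_mul, Matrix.SpecialLinearGroup.coe_mul, h, one_mul, mul_one]
    · apply Subtype.ext
      rw [Matrix.SpecialLinearGroup.coe_mul, Matrix.SpecialLinearGroup.coe_mul, h, neg_mul, one_mul,
        mul_neg, mul_one]
  have h2pow : ∀ (H : Subgroup M), IsPGroup 2 H → ∀ s ∈ H, ∃ k : ℕ, s ^ 2 ^ k = 1 := by
    intro H hH s hs
    obtain ⟨k, hk⟩ := hH ⟨s, hs⟩
    refine ⟨k, ?_⟩
    have := congrArg Subtype.val hk
    simpa using this
  -- Step B
  have hB : ∃ s ∈ R₀, x * s * x⁻¹ ≠ s := by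
    by_contra hcon
    push Not at hcon
    have hR₀c : ∀ s ∈ R₀, ∀ t : M, s * t = t * s :=
      fun s hs => hC s (h2pow R₀ hR₀2 s hs) (hcon s hs)
    obtain ⟨y, hy⟩ : ∃ y : M, y = g * x * g⁻¹ := ⟨_, rfl⟩
    obtain ⟨L₁, hL₁⟩ : ∃ L₁ : Subgroup M, L₁ = Subgroup.closure ({x, y} : Set M) := ⟨_, rfl⟩
    have hxL : x ∈ L₁ := by rw [hL₁]; exact Subgroup.subset_closure (by simp)
    have hyL : y ∈ L₁ := by rw [hL₁]; exact Subgroup.subset_closure (by simp)
    have hgen : Subgroup.closure {(⟨x, hxL⟩ : L₁), ⟨y, hyL⟩} = ⊤ := by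
      apply Subgroup.map_injective L₁.subtype_injective
      rw [MonoidHom.map_closure, ← MonoidHom.range_eq_map, Subgroup.range_subtype]
      have h1 : (L₁.subtype '' {(⟨x, hxL⟩ : L₁), ⟨y, hyL⟩} : Set M) = {x, y} := by
        ext z; simp [Set.image_pair]
      rw [h1, hL₁]
    let φ : L₁ →* SL2 := ι.comp L₁.subtype
    have hφinj : Function.Injective φ := hι.comp L₁.subtype_injective
    have ha : φ ⟨x, hxL⟩ ^ p = 1 := hXp
    have hb : φ ⟨y, hyL⟩ ^ p = 1 := by
      change ι y ^ p = 1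
      rw [← map_pow, hy, conj_pow, hx, mul_one, mul_inv_cancel, map_one]
    have hc_mem : y * x⁻¹ ∈ L₁ := mul_mem hyL (inv_mem hxL)
    have hcQ : y * x⁻¹ ∈ Q := by
      have : y * x⁻¹ = g * (x * g⁻¹ * x⁻¹) := by rw [hy]; group
      rw [this]
      exact mul_mem hgQ (Subgroup.Normal.conj_mem inferInstance _ (inv_mem hgQ) x)
    have hnp : ¬ Cfsg.Agent.Lib.Helper15.QuadChain.PQuot p φ.ker := by
      intro h
      obtain ⟨k, hk⟩ := h ⟨y * x⁻¹, hc_mem⟩
      rw [MonoidHom.mem_ker] at hk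
      have h1 : (⟨y * x⁻¹, hc_mem⟩ : L₁) ^ p ^ k = 1 := hφinj (by rw [hk, map_one])
      have h2 : (y * x⁻¹) ^ p ^ k = 1 := by
        have := congrArg Subtype.val h1
        simpa using this
      have h3 : (y * x⁻¹) ^ Nat.card Q = 1 := by
        have h := pow_card_eq_one' (G := Q) (x := ⟨y * x⁻¹, hcQ⟩)
        have h' : (((⟨y * x⁻¹, hcQ⟩ : Q) ^ Nat.card Q : Q) : M) = ((1 : Q) : M) :=
          congrArg Subtype.val h
        rwa [Subgroup.coe_pow, Subgroup.coe_one] at h'
      have h4 : y * x⁻¹ = 1 := by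
        have hd1 := orderOf_dvd_of_pow_eq_one h2
        have hd2 := orderOf_dvd_of_pow_eq_one h3
        have hd : orderOf (y * x⁻¹) ∣ Nat.gcd (p ^ k) (Nat.card Q) := Nat.dvd_gcd hd1 hd2
        have hg1 : Nat.gcd (p ^ k) (Nat.card Q) = 1 := Nat.Coprime.pow_left k hQ.symm
        rw [hg1, Nat.dvd_one] at hd
        exact orderOf_eq_one_iff.1 hd
      apply hgx
      have h5 : g * x * g⁻¹ = x := by rw [← hy]; exact mul_inv_eq_one.1 h4
      calc x * g * x⁻¹ = (g * x * g⁻¹) * g * x⁻¹ := by rw [h5]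
        _ = g := by group
    obtain ⟨T⟩ : Nonempty (Sylow 2 L₁) := inferInstance
    apply Cfsg.Agent.Lib.Helper15.QuadSL2.sylow2_nonabelian_of_hom p hp2 (⟨x, hxL⟩ : L₁) ⟨y, hyL⟩
      hgen φ ha hb hnp T
    -- every element of `T` lies in `Q`
    have hTQ : ∀ t : L₁, t ∈ (T : Subgroup L₁) → (t : M) ∈ Q := by
      intro t ht
      let π := QuotientGroup.mk' Q
      have hπg : π g = 1 := (QuotientGroup.eq_one_iff g).2 hgQ
      have hL₁le : L₁ ≤ (Subgroup.zpowers (π x)).comap π := by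
        rw [hL₁, Subgroup.closure_le]
        intro z hz
        rw [SetLike.mem_coe, Subgroup.mem_comap]
        rcases hz with rfl | hz
        · exact Subgroup.mem_zpowers _
        · rw [Set.mem_singleton_iff] at hz
          rw [hz, hy]
          rw [map_mul, map_mul, map_inv, hπg, one_mul, inv_one, mul_one]
          exact Subgroup.mem_zpowers _
      have h1 : π (t : M) ∈ Subgroup.zpowers (π x) := hL₁le t.2
      obtain ⟨n, hn⟩ := Subgroup.mem_zpowers_iff.1 h1
      have h2 : π (t : M) ^ p = 1 := by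
        rw [← hn, ← zpow_natCast, ← zpow_mul, mul_comm, zpow_mul, zpow_natCast, ← map_pow, hx,
          map_one, one_zpow]
      obtain ⟨k, hk⟩ := T.2 ⟨t, ht⟩
      have h3 : π (t : M) ^ 2 ^ k = 1 := by
        have h4 := congrArg Subtype.val hk
        have h5 : (t : L₁) ^ 2 ^ k = 1 := by simpa using h4
        have h6 : ((t : L₁) : M) ^ 2 ^ k = 1 := by
          have := congrArg Subtype.val h5
          simpa using this
        rw [← map_pow, h6, map_one]
      have h7 : π (t : M) = 1 := by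
        have hd1 := orderOf_dvd_of_pow_eq_one h2
        have hd2 := orderOf_dvd_of_pow_eq_one h3
        have hd : orderOf (π (t : M)) ∣ Nat.gcd p (2 ^ k) := Nat.dvd_gcd hd1 hd2
        have hcop2 : Nat.Coprime p 2 :=
          (Nat.coprime_primes (Fact.out : p.Prime) Nat.prime_two).2 hp2
        have hg1 : Nat.gcd p (2 ^ k) = 1 := Nat.Coprime.pow_right k hcop2
        rw [hg1, Nat.dvd_one] at hd
        exact orderOf_eq_one_iff.1 hd
      exact (QuotientGroup.eq_one_iff _).1 h7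
    let T' : Subgroup Q := ((T : Subgroup L₁).map L₁.subtype).subgroupOf Q
    have hT'2 : IsPGroup 2 T' := (T.2.map L₁.subtype).comap_subtype
    let PS : Sylow 2 Q := Sylow.ofCard P₀ hP₀card
    obtain ⟨S', hS'⟩ := hT'2.exists_le_sylow
    obtain ⟨q, hq⟩ := MulAction.exists_smul_eq Q PS S'
    have hTc : ∀ t : L₁, t ∈ (T : Subgroup L₁) → ∀ u : M, (t : M) * u = u * (t : M) := by
      intro t ht u
      have h1 : (⟨(t : M), hTQ t ht⟩ : Q) ∈ T' := by
        rw [Subgroup.mem_subgroupOf]; exact ⟨t, ht, rfl⟩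
      have h2 : (⟨(t : M), hTQ t ht⟩ : Q) ∈ (S' : Subgroup Q) := hS' h1
      rw [← hq, Sylow.coe_subgroup_smul, Subgroup.mem_smul_pointwise_iff_exists] at h2
      obtain ⟨s, hs, hst⟩ := h2
      have hsR : (s : M) ∈ R₀ := by rw [hR₀]; exact ⟨s, hs, rfl⟩
      have hsc := hR₀c _ hsR
      have h3 : (t : M) = (q : M) * (s : M) * (q : M)⁻¹ := by
        have := congrArg Subtype.val hst
        simpa [MulAut.smul_def] using this.symm
      have h4 : (t : M) = (s : M) := by
        rw [h3, ← hsc (q : M), mul_assoc, mul_inv_cancel, mul_one]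
      rw [h4]
      exact hsc u
    exact ⟨⟨fun a b => Subtype.ext (Subtype.ext (hTc a.1 a.2 b.1.1))⟩⟩
  -- Step C : a minimal invariant subgroup
  obtain ⟨s₀, hs₀R, hs₀⟩ := hB
  let P : Subgroup M → Prop := fun S =>
    S ≤ R₀ ∧ x ∈ Subgroup.normalizer (S : Set M) ∧ ∃ s ∈ S, x * s * x⁻¹ ≠ s
  have hP₀' : P R₀ :=
    ⟨le_rfl, Subgroup.mem_normalizer_fintype (fun n hn => hR₀inv n hn), s₀, hs₀R, hs₀⟩
  obtain ⟨S, hS⟩ := exists_minimal_of_wellFoundedLT P ⟨R₀, hP₀'⟩
  obtain ⟨⟨hSR, hxS, s₁, hs₁S, hs₁⟩, hSmin⟩ := hS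
  have hS2 : IsPGroup 2 S := hR₀2.to_le hSR
  let σ : MulAut S := Subgroup.normalizerMonoidHom S ⟨x, hxS⟩
  have hσapp : ∀ r : S, ((σ r : S) : M) = x * r * x⁻¹ :=
    fun r => Subgroup.normalizerMonoidHom_apply_apply_coe S ⟨x, hxS⟩ r
  have hσ : ∀ r : S, (ι.comp S.subtype) (σ r) = ι x * (ι.comp S.subtype) r * (ι x)⁻¹ := by
    intro r
    change ι ((σ r : S) : M) = ι x * ι (r : M) * (ι x)⁻¹
    rw [hσapp, map_mul, map_mul, map_inv]
  have hσ1 : σ ≠ 1 := by
    intro h
    apply hs₁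
    have := hσapp ⟨s₁, hs₁S⟩
    rw [h] at this
    exact this.symm
  have hmin : ∀ T : Subgroup S, T ≠ ⊤ → (∀ t ∈ T, σ t ∈ T) → ∀ t ∈ T, σ t = t := by
    intro T hT hTinv
    by_contra hcon
    push Not at hcon
    obtain ⟨t, htT, ht⟩ := hcon
    apply hT
    have hP' : P (T.map S.subtype) := by
      refine ⟨?_, ?_, ?_⟩
      · rintro _ ⟨u, -, rfl⟩; exact hSR u.2
      · apply Subgroup.mem_normalizer_fintype
        rintro _ ⟨u, hu, rfl⟩
        exact ⟨σ u, hTinv u hu, hσapp u⟩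
      · refine ⟨t, ⟨t, htT, rfl⟩, ?_⟩
        intro h
        apply ht
        apply Subtype.ext
        rw [hσapp]; exact h
    have hle : T.map S.subtype ≤ S := by rintro _ ⟨u, -, rfl⟩; exact u.2
    have hSle := hSmin hP' hle
    rw [eq_top_iff]
    intro u _
    obtain ⟨v, hv, hvu⟩ := hSle u.2
    have : v = u := Subtype.ext hvu
    rwa [← this]
  obtain ⟨hp3, hiso⟩ := core_minimal p hp2 hS2 (ι.comp S.subtype)
    (hι.comp S.subtype_injective) (ι x) hXp σ hσ hσ1 hmin
  exact ⟨hp3, S, hSR.trans hR₀Q, hxS, hiso, s₁, hs₁S, hs₁⟩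


/-- **A subgroup mapping onto `SL(2,3)`.** -/
theorem exists_SL23 (p : ℕ) [Fact p.Prime] [CharP F p] (hp2 : p ≠ 2)
    {M : Type*} [Group M] [Finite M] (ι : M →* SL2) (hι : Function.Injective ι)
    (x : M) (hx : x ^ p = 1) (Q : Subgroup M) [Q.Normal] (hQ : (Nat.card Q).Coprime p)
    (g : M) (hgQ : g ∈ Q) (hgx : x * g * x⁻¹ ≠ g) :
    p = 3 ∧ ∃ (T : Subgroup M) (Ψ : T →* Matrix.SpecialLinearGroup (Fin 2) (ZMod 3)),
      Function.Surjective Ψ := by
  obtain ⟨hp3, S, hSQ, hxS, ⟨e⟩, s, hsS, hs⟩ :=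
    quaternion_of_normalized p hp2 ι hι x hx Q hQ g hgQ hgx
  refine ⟨hp3, S ⊔ Subgroup.zpowers x, ?_⟩
  obtain ⟨T, hT⟩ : ∃ T : Subgroup M, T = S ⊔ Subgroup.zpowers x := ⟨_, rfl⟩
  rw [← hT]
  have hST : S ≤ T := hT ▸ le_sup_left
  have hxT : x ∈ T := by
    rw [hT]; exact (le_sup_right : Subgroup.zpowers x ≤ _) (Subgroup.mem_zpowers x)
  have hTN : T ≤ Subgroup.normalizer (S : Set M) := by
    rw [hT]
    exact sup_le Subgroup.le_normalizer (by rw [Subgroup.zpowers_le]; exact hxS)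
  haveI : (S.subgroupOf T).Normal := (Subgroup.normal_subgroupOf_iff_le_normalizer hST).2 hTN
  have hQ8 : Nonempty (S.subgroupOf T ≃* QuaternionGroup 2) :=
    ⟨(Subgroup.subgroupOfEquivOfLe hST).trans e⟩
  have hodd : Odd (orderOf (⟨x, hxT⟩ : T)) := by
    have h1 : orderOf (⟨x, hxT⟩ : T) = orderOf x := Subgroup.orderOf_mk x hxT
    have h2 : orderOf x ∣ 3 := by rw [← hp3]; exact orderOf_dvd_of_pow_eq_one hx
    rw [h1]
    rcases (Nat.dvd_prime Nat.prime_three).1 h2 with h | h <;> rw [h] <;> decide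
  have hgen : S.subgroupOf T ⊔ Subgroup.zpowers (⟨x, hxT⟩ : T) = ⊤ := by
    apply Subgroup.map_injective T.subtype_injective
    rw [Subgroup.map_sup, Subgroup.map_subgroupOf_eq_of_le hST, MonoidHom.map_zpowers,
      ← MonoidHom.range_eq_map, Subgroup.range_subtype]
    exact hT.symm
  have hnc : ∃ q ∈ S.subgroupOf T, (⟨x, hxT⟩ : T) * q * (⟨x, hxT⟩ : T)⁻¹ ≠ q := by
    refine ⟨⟨s, hST hsS⟩, Subgroup.mem_subgroupOf.2 hsS, ?_⟩
    intro h
    apply hs
    have := congrArg Subtype.val h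
    simpa using this
  exact Cfsg.Agent.Lib.Helper9.SLTwoThree.exists_surjective_hom (S.subgroupOf T) hQ8 ⟨x, hxT⟩ hodd
    hgen hnc

end Cfsg.Agent.Lib.Helper15.SL2Quat
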