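import Mathlib
import Cfsg.Prelude.Def_Local
import Cfsg.Agent.Lib.Helper15.QuadChainOn
import Cfsg.Agent.Lib.Helper15.SL2Quat
import Cfsg.Agent.Lib.Helper15.QuadInternal

/-!
# Quadratic pairs with a normal `p'`-subgroup: `p = 3` and an `SL(2,3)` section (helper15)
-/

set_option autoImplicit false

namespace Cfsg.Agent.Lib.Helper15.QuadSolv

open Module Cfsg.Agent.Lib.Helper15.QuadChain Cfsg.Agent.Lib.Helper15.QuadChainOn
  Cfsg.Agent.Lib.Helper15.SL2Quat

/-- From a surjection of a subgroup of a subgroup onto `Y` to a section of the ambient group. -/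
theorem section_of_surjective {𝔾 : Type*} [Group 𝔾] (H : Subgroup 𝔾) (T : Subgroup H)
    {Y : Type*} [Group Y] (Ψ : T →* Y) (hΨ : Function.Surjective Ψ) :
    ∃ (K L : Subgroup 𝔾) (hL : (L.subgroupOf K).Normal), K ≤ H ∧
      Nonempty ((K ⧸ L.subgroupOf K) ≃* Y) := by
  obtain ⟨K, hK⟩ : ∃ K : Subgroup 𝔾, K = T.map H.subtype := ⟨_, rfl⟩
  let e : T ≃* K := (T.equivMapOfInjective H.subtype H.subtype_injective).trans
    (MulEquiv.subgroupCongr hK.symm)
  let Ψ' : K →* Y := Ψ.comp e.symm.toMonoidHom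
  have hΨ' : Function.Surjective Ψ' := hΨ.comp e.symm.surjective
  obtain ⟨L, hL⟩ : ∃ L : Subgroup 𝔾, L = Ψ'.ker.map K.subtype := ⟨_, rfl⟩
  have hLK : L.subgroupOf K = Ψ'.ker := by
    ext k
    rw [Subgroup.mem_subgroupOf, hL]
    constructor
    · rintro ⟨k', hk', h⟩
      have : k' = k := Subtype.ext h
      rwa [← this]
    · intro hk
      exact ⟨k, hk, rfl⟩
  have hN : (L.subgroupOf K).Normal := by rw [hLK]; infer_instance
  refine ⟨K, L, hN, ?_, ?_⟩
  · rw [hK]; rintro _ ⟨t, -, rfl⟩; exact t.2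
  · exact ⟨(QuotientGroup.quotientMulEquivOfEq hLK).trans
      (QuotientGroup.quotientKerEquivOfSurjective Ψ' hΨ')⟩

/-- pull back a surjection from a subgroup of the image. -/
theorem pullback_surjective {G M Y : Type*} [Group G] [Group M] [Group Y] (f : G →* M)
    (hf : Function.Surjective f) (T : Subgroup M) (Ψ : T →* Y) (hΨ : Function.Surjective Ψ) :
    ∃ (T₀ : Subgroup G) (Ψ₀ : T₀ →* Y), Function.Surjective Ψ₀ :=
  ⟨T.comap f, Ψ.comp (f.subgroupComap T),
    hΨ.comp (f.subgroupComap_surjective_of_surjective T hf)⟩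

/-- **Quadratic pair with a non-centralized normal `p'`-subgroup.** -/
theorem main_of_normal (p : ℕ) [Fact p.Prime] (hp2 : p ≠ 2) {K : Type*} [Field K] [CharP K p]
    {G : Type*} [Group G] [Finite G] (a b : G) (hgen : Subgroup.closure {a, b} = ⊤)
    {V : Type*} [AddCommGroup V] [Module K V] [FiniteDimensional K V] (ρ : Representation K G V)
    (ha : (ρ a - 1) * (ρ a - 1) = 0) (hb : (ρ b - 1) * (ρ b - 1) = 0)
    (Q : Subgroup G) [Q.Normal] (hQ : (Nat.card Q).Coprime p)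
    (q : G) (hq : q ∈ Q) (hqa : a * q * a⁻¹ * q⁻¹ ∉ ρ.ker) :
    p = 3 ∧ ∃ (T : Subgroup G) (Ψ : T →* Matrix.SpecialLinearGroup (Fin 2) (ZMod 3)),
      Function.Surjective Ψ := by
  obtain ⟨c, hc⟩ : ∃ c : G, c = a * q * a⁻¹ * q⁻¹ := ⟨_, rfl⟩
  have hcQ : c ∈ Q := by
    rw [hc]
    exact mul_mem (Subgroup.Normal.conj_mem inferInstance q hq a) (inv_mem hq)
  have hnp : ¬ PQuotOn p {c} ρ.ker := by
    intro h
    obtain ⟨k, hk⟩ := h c rfl
    apply hqa
    rw [← hc]
    have h1 : orderOf c ∣ Nat.card Q := by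
      have := orderOf_dvd_natCard (⟨c, hcQ⟩ : Q)
      rwa [Subgroup.orderOf_mk] at this
    have h2 : (p ^ k).Coprime (orderOf c) :=
      Nat.Coprime.pow_left k (Nat.Coprime.coprime_dvd_right h1 hQ.symm)
    obtain ⟨m, hm⟩ := exists_pow_eq_self_of_coprime h2
    rw [← hm]
    exact Subgroup.pow_mem _ hk m
  obtain ⟨φ, hφ1, hφ2, hφa, -⟩ := exists_hom_closure p a b hgen ρ ha hb {c} hnp
  have hcφ : c ∉ φ.ker := by
    intro h
    apply hφ2
    intro g hg
    rw [Set.mem_singleton_iff] at hg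
    exact ⟨0, by rw [hg, pow_zero, pow_one]; exact h⟩
  haveI : Finite φ.range := Finite.of_surjective _ φ.rangeRestrict_surjective
  haveI : (Q.map φ.rangeRestrict).Normal :=
    Subgroup.Normal.map inferInstance _ φ.rangeRestrict_surjective
  have hQ' : (Nat.card (Q.map φ.rangeRestrict)).Coprime p :=
    Nat.Coprime.coprime_dvd_left (Subgroup.card_map_dvd Q φ.rangeRestrict) hQ
  have hx : φ.rangeRestrict a ^ p = 1 := by
    apply Subtype.ext
    rw [Subgroup.coe_pow, Subgroup.coe_one]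
    exact hφa
  have hgx : φ.rangeRestrict a * φ.rangeRestrict q * (φ.rangeRestrict a)⁻¹ ≠ φ.rangeRestrict q := by
    intro h
    apply hcφ
    rw [MonoidHom.mem_ker, hc]
    have h1 := congrArg Subtype.val h
    simp only [Subgroup.coe_mul, Subgroup.coe_inv, MonoidHom.coe_rangeRestrict] at h1
    rw [map_mul, map_mul, map_mul, map_inv, map_inv, h1, mul_inv_cancel]
  obtain ⟨hp3, T, Ψ, hΨ⟩ := exists_SL23 p hp2 φ.range.subtype φ.range.subtype_injective
    (φ.rangeRestrict a) hx (Q.map φ.rangeRestrict) hQ' (φ.rangeRestrict q) ⟨q, hq, rfl⟩ hgx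
  exact ⟨hp3, pullback_surjective φ.rangeRestrict φ.rangeRestrict_surjective T Ψ hΨ⟩


open Cfsg.Agent.Lib.Helper15.QuadInternal Subgroup

section MulAutForm

variable (p : ℕ) [Fact p.Prime] {A : Type*} [CommGroup A] [Finite A]
  {G : Type*} [Group G] [Finite G]

theorem normal_mulAut (hp2 : p ≠ 2) (hexp : ∀ a : A, a ^ p = 1) (θ : G →* MulAut A)
    (a b : G) (hgen : Subgroup.closure {a, b} = ⊤)
    (ha : ∀ v : A, θ a (θ a v / v) = θ a v / v) (hb : ∀ v : A, θ b (θ b v / v) = θ b v / v)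
    (Q : Subgroup G) [Q.Normal] (hQ : (Nat.card Q).Coprime p)
    (q : G) (hq : q ∈ Q) (hqa : a * q * a⁻¹ * q⁻¹ ∉ θ.ker) :
    p = 3 ∧ ∃ (T : Subgroup G) (Ψ : T →* Matrix.SpecialLinearGroup (Fin 2) (ZMod 3)),
      Function.Surjective Ψ := by
  let _ : Module (ZMod p) (Additive A) := AddCommGroup.zmodModule (by
    intro x
    exact congrArg Additive.ofMul (hexp x.toMul))
  have hfin : Finite (Additive A) := inferInstanceAs (Finite A)
  have hfd : FiniteDimensional (ZMod p) (Additive A) := Module.Finite.of_finite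
  exact @main_of_normal p _ hp2 (ZMod p) _ _ G _ _ a b hgen (Additive A) _ _ hfd (linRep p θ)
    (linRep_quad p θ a ha) (linRep_quad p θ b hb) Q _ hQ q hq (by rw [linRep_ker]; exact hqa)

end MulAutForm

section Internal

variable {G : Type*} [Group G] [Finite G] (p : ℕ) [Fact p.Prime]

/-- the conjugation action of `H ≤ N_G(V)` on `V`, with its kernel and quadratic elements. -/
theorem exists_theta (V H : Subgroup G) [CommGroup V] (hHV : H ≤ normalizer (V : Set G)) :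
    ∃ θ : H →* MulAut V, θ.ker = (centralizer (V : Set G)).subgroupOf H ∧
      (∀ (h : H) (v : V), ((θ h v : V) : G) = (h : G) * v * (h : G)⁻¹) := by
  let θ : H →* MulAut V := V.normalizerMonoidHom.comp (Subgroup.inclusion hHV)
  have hθ : ∀ (h : H) (v : V), ((θ h v : V) : G) = (h : G) * v * (h : G)⁻¹ := fun h v => rfl
  refine ⟨θ, ?_, hθ⟩
  ext g
  rw [MonoidHom.mem_ker, mem_subgroupOf, mem_centralizer_iff]
  constructor
  · intro h v hv
    have := congrArg (fun f : MulAut V => ((f ⟨v, hv⟩ : V) : G)) h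
    simp only [hθ] at this
    have h2 : (g : G) * v * (g : G)⁻¹ = v := this
    have h3 : (g : G) * v = v * g := by
      have := congrArg (· * (g : G)) h2
      simpa using this
    exact h3.symm
  · intro h
    ext v
    rw [hθ]
    have := h v v.2
    change (g : G) * v * (g : G)⁻¹ = v
    rw [← this, mul_inv_cancel_right]

theorem normal_internal (hp2 : p ≠ 2) (V H : Subgroup G) (hVc : ∀ x ∈ V, ∀ y ∈ V, x * y = y * x)
    (hVe : ∀ x ∈ V, x ^ p = 1) (hHV : H ≤ normalizer (V : Set G))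
    (a b : G) (hab : H = Subgroup.closure {a, b})
    (ha : ⁅⁅V, zpowers a⁆, zpowers a⁆ = ⊥) (hb : ⁅⁅V, zpowers b⁆, zpowers b⁆ = ⊥)
    (Q : Subgroup G) (hQH : Q ≤ H) (hQn : H ≤ normalizer (Q : Set G))
    (hQ : (Nat.card Q).Coprime p) (q : G) (hq : q ∈ Q)
    (hqa : a * q * a⁻¹ * q⁻¹ ∉ centralizer (V : Set G)) :
    p = 3 ∧ ∃ (T : Subgroup H) (Ψ : T →* Matrix.SpecialLinearGroup (Fin 2) (ZMod 3)),
      Function.Surjective Ψ := by
  letI : CommGroup V :=
    { (inferInstance : Group V) with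
      mul_comm := fun x y => Subtype.ext (hVc x x.2 y y.2) }
  have hexp : ∀ v : V, v ^ p = 1 := fun v => Subtype.ext (by simpa using hVe v v.2)
  obtain ⟨θ, hker, hθ⟩ := exists_theta V H hHV
  have haH : a ∈ H := hab ▸ Subgroup.subset_closure (by simp)
  have hbH : b ∈ H := hab ▸ Subgroup.subset_closure (by simp)
  have hquad : ∀ (c : G) (hc : c ∈ H), ⁅⁅V, zpowers c⁆, zpowers c⁆ = ⊥ →
      ∀ v : V, θ ⟨c, hc⟩ (θ ⟨c, hc⟩ v / v) = θ ⟨c, hc⟩ v / v := by
    intro c hc hq v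
    apply Subtype.ext
    rw [hθ]
    have h1 : ((θ ⟨c, hc⟩ v / v : V) : G) = c * v * c⁻¹ * (v : G)⁻¹ := by
      rw [div_eq_mul_inv, Subgroup.coe_mul, hθ, Subgroup.coe_inv]
    rw [h1]
    exact quad_elem V c hq v v.2
  have hgen : Subgroup.closure {(⟨a, haH⟩ : H), ⟨b, hbH⟩} = ⊤ := by
    apply Subgroup.map_injective H.subtype_injective
    rw [MonoidHom.map_closure, ← MonoidHom.range_eq_map, Subgroup.range_subtype]
    have h1 : (H.subtype '' {(⟨a, haH⟩ : H), ⟨b, hbH⟩} : Set G) = {a, b} := by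
      ext z; simp [Set.image_pair]
    rw [h1, ← hab]
  haveI : (Q.subgroupOf H).Normal := (Subgroup.normal_subgroupOf_iff_le_normalizer hQH).2 hQn
  have hQ' : (Nat.card (Q.subgroupOf H)).Coprime p := by
    rw [Nat.card_congr (Subgroup.subgroupOfEquivOfLe hQH).toEquiv]; exact hQ
  have hqH : q ∈ H := hQH hq
  have hqa' : (⟨a, haH⟩ : H) * ⟨q, hqH⟩ * (⟨a, haH⟩ : H)⁻¹ * (⟨q, hqH⟩ : H)⁻¹ ∉ θ.ker := by
    rw [hker, mem_subgroupOf]
    exact hqa
  exact normal_mulAut p hp2 hexp θ ⟨a, haH⟩ ⟨b, hbH⟩ hgen (hquad a haH ha) (hquad b hbH hb)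
    (Q.subgroupOf H) hQ' ⟨q, hqH⟩ (mem_subgroupOf.2 hq) hqa'

end Internal

end Cfsg.Agent.Lib.Helper15.QuadSolv
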