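import Mathlib
import Cfsg.Prelude.Def_Local
import Cfsg.Agent.Lib.Helper15.SL2Quat
import Cfsg.Agent.Lib.Helper3.PSolvable

/-!
# `p`-solvable subgroups of `SL₂(F)` generated by two elements of order `p` (helper15)

If such a group is not a `p`-group, it has a normal `p'`-subgroup not centralized by one of the
generators.
-/

set_option autoImplicit false

namespace Cfsg.Agent.Lib.Helper15.SL2Solv

open Cfsg.Agent.Lib.Helper15.TwoByTwo Cfsg.Agent.Lib.Helper15.SL2Quat
  Cfsg.Agent.Lib.Helper15.QuadSL2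

variable {F : Type*} [Field F]

local notation "SL2" => Matrix.SpecialLinearGroup (Fin 2) F
local notation "M2" => Matrix (Fin 2) (Fin 2) F

theorem mem_span_of_fix (U : M2) (hU1 : U ≠ 1) (e : Fin 2 → F) (he : e ≠ 0)
    (hUe : U.mulVec e = e) (w : Fin 2 → F) (hUw : U.mulVec w = w) :
    w ∈ Submodule.span F {e} := by
  by_contra h
  exact hU1 (eq_one_of_fix_two U e w he h hUe hUw)

/-- A nontrivial normal `p`-subgroup gives a common eigenvector. -/
theorem common_eigen_of_normal_p (p : ℕ) [Fact p.Prime] [CharP F p] {M : Type*} [Group M]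
    [Finite M] (ι : M →* SL2) (hι : Function.Injective ι)
    (N : Subgroup M) [hNn : N.Normal] (hN : IsPGroup p N) (hN1 : N ≠ ⊥) :
    ∃ e : Fin 2 → F, e ≠ 0 ∧
      ∀ g : M, ((ι g : SL2) : M2).mulVec e ∈ Submodule.span F {e} := by
  haveI : Nontrivial N := (Subgroup.nontrivial_iff_ne_bot N).2 hN1
  haveI hZ : Nontrivial (Subgroup.center N) := hN.center_nontrivial
  have hpd : p ∣ Nat.card (Subgroup.center N) := by
    have hZp : IsPGroup p (Subgroup.center N) := hN.to_subgroup _
    rcases hZp.card_eq_or_dvd with h | h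
    · exfalso
      have := (Nat.card_eq_one_iff_unique.1 h).1
      exact not_subsingleton _ this
    · exact h
  obtain ⟨z, hz⟩ := exists_prime_orderOf_dvd_card' p hpd
  obtain ⟨u, hu⟩ : ∃ u : M, u = ((z : N) : M) := ⟨_, rfl⟩
  have huN : u ∈ N := hu ▸ (z : N).2
  have hup : u ^ p = 1 := by
    have h1 : z ^ p = 1 := by rw [← hz]; exact pow_orderOf_eq_one z
    have h2 := congrArg (fun t : Subgroup.center N => ((t : N) : M)) h1
    simpa [hu] using h2
  have hu1 : u ≠ 1 := by
    intro h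
    have h1 : z = 1 := by
      apply Subtype.ext; apply Subtype.ext
      rw [← hu, h]; rfl
    rw [h1, orderOf_one] at hz
    exact (Fact.out : p.Prime).one_lt.ne hz
  have hucomm : ∀ n ∈ N, n * u = u * n := by
    intro n hn
    have h1 := Subgroup.mem_center_iff.1 z.2 ⟨n, hn⟩
    have h2 := congrArg Subtype.val h1
    simpa [hu] using h2
  obtain ⟨m, hm⟩ : ∃ m : M → M2, ∀ r, m r = ((ι r : SL2) : M2) :=
    ⟨fun r => ((ι r : SL2) : M2), fun _ => rfl⟩
  have m_mul : ∀ r s, m (r * s) = m r * m s := by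
    intro r s; rw [hm, hm, hm, map_mul, Matrix.SpecialLinearGroup.coe_mul]
  have m_one : m 1 = 1 := by rw [hm, map_one, Matrix.SpecialLinearGroup.coe_one]
  have m_inj : Function.Injective m := by
    intro r s h
    rw [hm, hm] at h
    exact hι (Subtype.ext h)
  have hU1 : m u ≠ 1 := fun h => hu1 (m_inj (h.trans m_one.symm))
  have hUp : ∀ v : M, v ^ p = 1 → m v ^ p = 1 := by
    intro v hv
    rw [hm, ← Matrix.SpecialLinearGroup.coe_pow, ← map_pow, hv, map_one,
      Matrix.SpecialLinearGroup.coe_one]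
  have hUsq := sq_zero_of_pow_char p (m u) (hUp u hup)
  obtain ⟨w, hw⟩ : ∃ w : Fin 2 → F, (m u - 1).mulVec w ≠ 0 := by
    by_contra hcon
    push Not at hcon
    have : m u - 1 = 0 := by
      apply Matrix.mulVec_injective
      funext w
      rw [hcon w, Matrix.zero_mulVec]
    exact hU1 (sub_eq_zero.1 this)
  refine ⟨(m u - 1).mulVec w, hw, ?_⟩
  set e := (m u - 1).mulVec w with he
  have hUe : (m u).mulVec e = e := by
    have h1 : (m u - 1).mulVec e = 0 := by
      rw [he, Matrix.mulVec_mulVec, hUsq, Matrix.zero_mulVec]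
    rw [Matrix.sub_mulVec, Matrix.one_mulVec, sub_eq_zero] at h1
    exact h1
  intro g
  rw [← hm]
  -- u' = g⁻¹ u g
  have hu'N : g⁻¹ * u * g ∈ N := by
    have := hNn.conj_mem u huN g⁻¹
    rwa [inv_inv] at this
  have hu'c := hucomm _ hu'N
  have hu'p : (g⁻¹ * u * g) ^ p = 1 := by
    have : g⁻¹ * u * g = g⁻¹ * u * g⁻¹⁻¹ := by rw [inv_inv]
    rw [this, conj_pow, hup, mul_one, mul_inv_cancel]
  -- U (U' e) = U' e
  have h1 : (m u).mulVec ((m (g⁻¹ * u * g)).mulVec e) = (m (g⁻¹ * u * g)).mulVec e := by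
    rw [Matrix.mulVec_mulVec, ← m_mul, ← hu'c, m_mul, ← Matrix.mulVec_mulVec, hUe]
  have h2 : (m (g⁻¹ * u * g)).mulVec e ∈ Submodule.span F {e} :=
    mem_span_of_fix (m u) hU1 e hw hUe _ h1
  have h3 : (m (g⁻¹ * u * g)).mulVec e = e := by
    have hx' : ι (g⁻¹ * u * g) ^ p = 1 := by rw [← map_pow, hu'p, map_one]
    have := fix_of_eigen p (ι (g⁻¹ * u * g)) hx' e hw (by rw [← hm]; exact h2)
    rwa [← hm] at this
  -- U (g e) = g e
  have h4 : (m u).mulVec ((m g).mulVec e) = (m g).mulVec e := by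
    have h5 : u * g = g * (g⁻¹ * u * g) := by group
    rw [Matrix.mulVec_mulVec, ← m_mul, h5, m_mul, ← Matrix.mulVec_mulVec, h3]
  exact mem_span_of_fix (m u) hU1 e hw hUe _ h4

/-- **No nontrivial normal `p`-subgroups.** -/
theorem no_normal_p (p : ℕ) [Fact p.Prime] [CharP F p] {M : Type*} [Group M]
    [Finite M] (ι : M →* SL2) (hι : Function.Injective ι) (x y : M)
    (hgen : Subgroup.closure {x, y} = ⊤) (hx : x ^ p = 1) (hy : y ^ p = 1)
    (hnp : ¬ IsPGroup p M) (N : Subgroup M) (hNn : N.Normal) (hN : IsPGroup p N) : N = ⊥ := by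
  by_contra hN1
  obtain ⟨e, he, hge⟩ := common_eigen_of_normal_p p ι hι N hN hN1
  apply hnp
  have hsurj : Function.Surjective ι.rangeRestrict := ι.rangeRestrict_surjective
  have hgen' : Subgroup.closure {ι.rangeRestrict x, ι.rangeRestrict y} = ⊤ := by
    have h1 := MonoidHom.map_closure ι.rangeRestrict {x, y}
    rw [hgen, Subgroup.map_top_of_surjective _ hsurj, Set.image_pair] at h1
    exact h1.symm
  have hx' : ι.rangeRestrict x ^ p = 1 := by rw [← map_pow, hx, map_one]
  have hy' : ι.rangeRestrict y ^ p = 1 := by rw [← map_pow, hy, map_one]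
  have hL := isPGroup_of_common_eigen p ι.range _ _ hgen' hx' hy' e he (hge x) (hge y)
  refine hL.of_injective ι.rangeRestrict ?_
  intro a b hab
  exact hι (congrArg Subtype.val hab)


open Cfsg.Agent.Lib.Helper3 in
/-- **A non-centralized normal `p'`-subgroup.** -/
theorem exists_normal_not_centralized (p : ℕ) [Fact p.Prime] [CharP F p] {M : Type*} [Group M]
    [Finite M] (ι : M →* SL2) (hι : Function.Injective ι) (x y : M)
    (hgen : Subgroup.closure {x, y} = ⊤) (hx : x ^ p = 1) (hy : y ^ p = 1)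
    (hsol : Cfsg.IsPSolvable p M) (hnp : ¬ IsPGroup p M) :
    ∃ Q : Subgroup M, Q.Normal ∧ (Nat.card Q).Coprime p ∧
      ∃ g ∈ Q, x * g * x⁻¹ ≠ g ∨ y * g * y⁻¹ ≠ g := by
  have hp : p.Prime := Fact.out
  have hnoP := no_normal_p p ι hι x y hgen hx hy hnp
  have hzp : ∀ v : M, v ^ p = 1 → IsPGroup p (Subgroup.zpowers v) := by
    intro v hv g
    obtain ⟨g, hg⟩ := g
    obtain ⟨n, rfl⟩ := Subgroup.mem_zpowers_iff.1 hg
    refine ⟨1, Subtype.ext ?_⟩
    rw [Subgroup.coe_pow, Subgroup.coe_one, pow_one]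
    change (v ^ n) ^ p = 1
    rw [← zpow_natCast, ← zpow_mul, mul_comm, zpow_mul, zpow_natCast, hv, one_zpow]
  have hcen_normal : ∀ K : Subgroup M, K ≤ Subgroup.center M → K.Normal := by
    intro K hK
    refine ⟨fun n hn g => ?_⟩
    have h1 := Subgroup.mem_center_iff.1 (hK hn) g
    rw [h1, mul_inv_cancel_right]
    exact hn
  obtain ⟨Z, hZdef⟩ : ∃ Z : Subgroup M, Z = Subgroup.center M := ⟨_, rfl⟩
  have hZn : Z.Normal := by rw [hZdef]; infer_instance
  have hZne : Z ≠ ⊤ := by
    intro hZ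
    have hall : ∀ K : Subgroup M, K ≤ Subgroup.center M := by
      intro K; rw [← hZdef, hZ]; exact le_top
    have h1 : Subgroup.zpowers x = ⊥ := hnoP _ (hcen_normal _ (hall _)) (hzp x hx)
    have h2 : Subgroup.zpowers y = ⊥ := hnoP _ (hcen_normal _ (hall _)) (hzp y hy)
    rw [Subgroup.zpowers_eq_bot] at h1 h2
    apply hnp
    intro g
    refine ⟨0, ?_⟩
    have hg : g ∈ Subgroup.closure {x, y} := hgen ▸ Subgroup.mem_top g
    have hle : Subgroup.closure {x, y} ≤ ⊥ := by
      rw [Subgroup.closure_le]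
      intro z hz
      rcases hz with rfl | hz
      · rw [h1]; exact Subgroup.one_mem _
      · rw [Set.mem_singleton_iff] at hz
        rw [hz, h2]; exact Subgroup.one_mem _
    rw [pow_zero, pow_one]
    exact Subgroup.mem_bot.1 (hle hg)
  have hpZ : ¬ p ∣ Nat.card Z := by
    intro hd
    obtain ⟨z, hz⟩ := exists_prime_orderOf_dvd_card' p hd
    have hzc : Subgroup.zpowers (z : M) ≤ Subgroup.center M := by
      rw [Subgroup.zpowers_le, ← hZdef]; exact z.2
    have hzp' : (z : M) ^ p = 1 := by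
      have h1 : z ^ p = 1 := by rw [← hz]; exact pow_orderOf_eq_one z
      have h2 := congrArg Subtype.val h1
      simpa using h2
    have h1 := hnoP _ (hcen_normal _ hzc) (hzp _ hzp')
    rw [Subgroup.zpowers_eq_bot] at h1
    have h2 : z = 1 := Subtype.ext h1
    rw [h2, orderOf_one] at hz
    exact hp.one_lt.ne hz
  obtain ⟨M₁, hM₁n, hZM₁, -, hidx⟩ := exists_normal_between hp hsol hZn
    (inferInstance : (⊤ : Subgroup M).Normal) (lt_top_iff_ne_top.2 hZne)
  have hcard : Nat.card M₁ = Nat.card Z * Z.relIndex M₁ := by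
    have := Subgroup.relIndex_mul_relIndex ⊥ Z M₁ bot_le hZM₁.le
    rw [Subgroup.relIndex_bot_left, Subgroup.relIndex_bot_left] at this
    exact this.symm
  obtain ⟨g, hgM₁, hgZ⟩ := SetLike.exists_of_lt hZM₁
  have hnonc : x * g * x⁻¹ ≠ g ∨ y * g * y⁻¹ ≠ g := by
    by_contra hcon
    push Not at hcon
    obtain ⟨h1, h2⟩ := hcon
    apply hgZ
    rw [hZdef, Subgroup.mem_center_iff]
    have hle : Subgroup.closure {x, y} ≤ Subgroup.centralizer {g} := by
      rw [Subgroup.closure_le]
      intro z hz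
      rw [SetLike.mem_coe, Subgroup.mem_centralizer_singleton_iff]
      rcases hz with rfl | hz
      · calc z * g = z * g * z⁻¹ * z := by group
          _ = g * z := by rw [h1]
      · rw [Set.mem_singleton_iff] at hz
        rw [hz]
        calc y * g = y * g * y⁻¹ * y := by group
          _ = g * y := by rw [h2]
    intro t
    have ht : t ∈ Subgroup.centralizer {g} := hle (hgen ▸ Subgroup.mem_top t)
    rw [Subgroup.mem_centralizer_singleton_iff] at ht
    exact ht
  rcases hidx with ⟨m, hm⟩ | hcop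
  · -- the `p`-power case is impossible
    exfalso
    have hm0 : m ≠ 0 := by
      rintro rfl
      rw [pow_zero, Subgroup.relIndex_eq_one] at hm
      exact absurd hm (not_le_of_gt hZM₁)
    rw [hm] at hcard
    obtain ⟨P⟩ : Nonempty (Sylow p M₁) := inferInstance
    have hZ0 : Nat.card Z ≠ 0 := Nat.card_pos.ne'
    have hfac : (Nat.card M₁).factorization p = m := by
      rw [hcard, Nat.factorization_mul hZ0 (pow_ne_zero _ hp.ne_zero), Finsupp.add_apply,
        Nat.factorization_eq_zero_of_not_dvd hpZ, hp.factorization_pow, zero_add]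
      simp
    have hPcard : Nat.card (P : Subgroup M₁) = p ^ m := by
      rw [Sylow.card_eq_multiplicity, hfac]
    -- the normalizer of `P` in `M₁`
    obtain ⟨N', hN'⟩ : ∃ N' : Subgroup M₁, N' = Subgroup.normalizer ((P : Subgroup M₁) : Set M₁) :=
      ⟨_, rfl⟩
    have hPN : (P : Subgroup M₁) ≤ N' := hN' ▸ Subgroup.le_normalizer
    have hZ'N : Z.subgroupOf M₁ ≤ N' := by
      intro z hz
      rw [hN', Subgroup.mem_normalizer_iff]
      intro h
      have hzc : (z : M) ∈ Subgroup.center M := by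
        rw [← hZdef]; exact Subgroup.mem_subgroupOf.1 hz
      have h1 : z * h * z⁻¹ = h := by
        apply Subtype.ext
        have := Subgroup.mem_center_iff.1 hzc (h : M)
        rw [Subgroup.coe_mul, Subgroup.coe_mul, Subgroup.coe_inv]
        rw [← this, mul_inv_cancel_right]
      rw [h1]
    have hZ'card : Nat.card (Z.subgroupOf M₁) = Nat.card Z :=
      Nat.card_congr (Subgroup.subgroupOfEquivOfLe hZM₁.le).toEquiv
    have hd1 : p ^ m ∣ Nat.card N' := hPcard ▸ Subgroup.card_dvd_of_le hPN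
    have hd2 : Nat.card Z ∣ Nat.card N' := hZ'card ▸ Subgroup.card_dvd_of_le hZ'N
    have hcopZ : (Nat.card Z).Coprime (p ^ m) :=
      Nat.Coprime.pow_right m ((Nat.Coprime.symm ((Nat.Prime.coprime_iff_not_dvd hp).2 hpZ)))
    have hd3 : Nat.card M₁ ∣ Nat.card N' := by
      rw [hcard]; exact Nat.Coprime.mul_dvd_of_dvd_of_dvd hcopZ hd2 hd1
    have hN'top : N' = ⊤ := by
      rw [← Subgroup.card_eq_iff_eq_top]
      exact Nat.dvd_antisymm (Subgroup.card_subgroup_dvd_card N') hd3
    have hPn : (P : Subgroup M₁).Normal := by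
      rw [← Subgroup.normalizer_eq_top_iff, ← hN', hN'top]
    haveI := P.characteristic_of_normal hPn
    haveI := hM₁n
    have hmapn : ((P : Subgroup M₁).map M₁.subtype).Normal :=
      ConjAct.normal_of_characteristic_of_normal
    have h1 := hnoP _ hmapn (P.2.map M₁.subtype)
    have h2 : (P : Subgroup M₁) = ⊥ :=
      (Subgroup.map_eq_bot_iff_of_injective _ M₁.subtype_injective).1 h1
    rw [h2, Subgroup.card_bot] at hPcard
    have : m = 0 := by
      by_contra hne
      have := Nat.one_lt_pow hne hp.one_lt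
      omega
    exact hm0 this
  · refine ⟨M₁, hM₁n, ?_, g, hgM₁, hnonc⟩
    rw [hcard]
    exact Nat.Coprime.mul_left ((Nat.Prime.coprime_iff_not_dvd hp).2 hpZ).symm hcop

/-- **`p`-solvable subgroups of `SL₂(F)` generated by two elements of order `p`.** -/
theorem exists_SL23_of_pSolvable (p : ℕ) [Fact p.Prime] [CharP F p] (hp2 : p ≠ 2) {M : Type*}
    [Group M] [Finite M] (ι : M →* SL2) (hι : Function.Injective ι) (x y : M)
    (hgen : Subgroup.closure {x, y} = ⊤) (hx : x ^ p = 1) (hy : y ^ p = 1)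
    (hsol : Cfsg.IsPSolvable p M) (hnp : ¬ IsPGroup p M) :
    p = 3 ∧ ∃ (T : Subgroup M) (Ψ : T →* Matrix.SpecialLinearGroup (Fin 2) (ZMod 3)),
      Function.Surjective Ψ := by
  obtain ⟨Q, hQn, hQ, g, hgQ, hg⟩ :=
    exists_normal_not_centralized p ι hι x y hgen hx hy hsol hnp
  haveI := hQn
  rcases hg with hg | hg
  · exact exists_SL23 p hp2 ι hι x hx Q hQ g hgQ hg
  · exact exists_SL23 p hp2 ι hι y hy Q hQ g hgQ hg

end Cfsg.Agent.Lib.Helper15.SL2Solv
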