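import Mathlib
import Cfsg.Prelude.Def_Local
import Cfsg.Agent.Lib.Helper15.QuadSolv
import Cfsg.Agent.Lib.Helper15.SL2Solv
import Cfsg.Agent.Lib.Helper20.PSolvable

/-!
# Quadratic pairs in `p`-solvable groups (helper15)

* `isPSolvable_subgroup` : subgroups of `p`-solvable groups are `p`-solvable
* `main_of_pSolvable` : `G = ⟨a, b⟩` `p`-solvable, `a`, `b` quadratic, `G / ker` not a `p`-group:
  `p = 3` and a subgroup of `G` maps onto `SL(2,3)`
* `pair_of_pSolvable` : for `p ≠ 3` two quadratic elements of a `p`-solvable group generate a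
  `p`-group modulo the kernel
* `core_element_of_pairs` : Baer–Suzuki form
-/

set_option autoImplicit false

namespace Cfsg.Agent.Lib.Helper15.QuadPSolv

open Module Cfsg.Agent.Lib.Helper15.QuadChain Cfsg.Agent.Lib.Helper15.QuadChainOn
  Cfsg.Agent.Lib.Helper15.SL2Quat Cfsg.Agent.Lib.Helper15.SL2Solv
  Cfsg.Agent.Lib.Helper15.QuadSolv Cfsg.Agent.Lib.Helper15.QuadCore

open Cfsg.Agent.Lib.Helper3 in
theorem isPSolvable_subgroup {p : ℕ} (hp : p.Prime) {G : Type*} [Group G]
    (hsol : Cfsg.IsPSolvable p G) (L : Subgroup G) : Cfsg.IsPSolvable p L := by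
  obtain ⟨n, H, h0, hlast, hmono, hnorm, hstep⟩ := hsol
  refine ⟨n, fun i => (H i).subgroupOf L, ?_, ?_, ?_, ?_, ?_⟩
  · simp only [h0, Subgroup.bot_subgroupOf]
  · simp only [hlast, Subgroup.top_subgroupOf]
  · intro i j hij
    exact Subgroup.subgroupOf_mono L (hmono hij)
  · intro i
    exact (hnorm i).subgroupOf L
  · intro i
    have hle : H i.castSucc ≤ H i.succ := hmono (Fin.castSucc_le_succ i)
    have h1 : ((H i.castSucc).subgroupOf L).relIndex ((H i.succ).subgroupOf L)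
        = (H i.castSucc ⊓ L).relIndex (H i.succ ⊓ L) := by
      rw [← Subgroup.inf_subgroupOf_right (H i.succ) L,
        Subgroup.relIndex_subgroupOf inf_le_right]
      have h2 : H i.castSucc ⊓ L = H i.castSucc ⊓ (H i.succ ⊓ L) := by
        rw [← inf_assoc, inf_eq_left.mpr hle]
      rw [h2, Subgroup.inf_relIndex_right]
    have hd : ((H i.castSucc).subgroupOf L).relIndex ((H i.succ).subgroupOf L) ∣
        (H i.castSucc).relIndex (H i.succ) := by
      rw [h1]; exact inf_relIndex_inf_dvd (hnorm _) hle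
    have : IsPOrP' p ((H i.castSucc).relIndex (H i.succ)) := by
      rcases hstep i with ⟨m, hm⟩ | h
      · exact Or.inl ⟨m, hm⟩
      · exact Or.inr h
    rcases this.of_dvd hp hd with ⟨m, hm⟩ | h
    · exact Or.inl ⟨m, hm⟩
    · exact Or.inr h

/-- push a surjection from a subgroup of a subgroup to the ambient group. -/
theorem push_surjective {G Y : Type*} [Group G] [Group Y] (L : Subgroup G) (T : Subgroup L)
    (Ψ : T →* Y) (hΨ : Function.Surjective Ψ) :
    ∃ (T' : Subgroup G) (Ψ' : T' →* Y), T' ≤ L ∧ Function.Surjective Ψ' := by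
  refine ⟨T.map L.subtype,
    Ψ.comp (T.equivMapOfInjective L.subtype L.subtype_injective).symm.toMonoidHom, ?_, ?_⟩
  · rintro _ ⟨t, -, rfl⟩; exact t.2
  · exact hΨ.comp (T.equivMapOfInjective L.subtype L.subtype_injective).symm.surjective

/-- **Quadratic pairs in `p`-solvable groups.** -/
theorem main_of_pSolvable (p : ℕ) [Fact p.Prime] (hp2 : p ≠ 2) {K : Type*} [Field K] [CharP K p]
    {G : Type*} [Group G] [Finite G] (a b : G) (hgen : Subgroup.closure {a, b} = ⊤)
    {V : Type*} [AddCommGroup V] [Module K V] [FiniteDimensional K V] (ρ : Representation K G V)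
    (ha : (ρ a - 1) * (ρ a - 1) = 0) (hb : (ρ b - 1) * (ρ b - 1) = 0)
    (hsol : Cfsg.IsPSolvable p G) (hnp : ¬ PQuot p ρ.ker) :
    p = 3 ∧ ∃ (T : Subgroup G) (Ψ : T →* Matrix.SpecialLinearGroup (Fin 2) (ZMod 3)),
      Function.Surjective Ψ := by
  have hnp' : ¬ PQuotOn p Set.univ ρ.ker := fun h => hnp ((pquotOn_univ p _).1 h)
  obtain ⟨φ, -, hφ2, hφa, hφb⟩ := exists_hom_closure p a b hgen ρ ha hb Set.univ hnp'
  have hφ2' : ¬ PQuot p φ.ker := fun h => hφ2 ((pquotOn_univ p _).2 h)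
  have hsurj : Function.Surjective φ.rangeRestrict := φ.rangeRestrict_surjective
  haveI : Finite φ.range := Finite.of_surjective _ hsurj
  have hgen' : Subgroup.closure {φ.rangeRestrict a, φ.rangeRestrict b} = ⊤ := by
    have h1 := MonoidHom.map_closure φ.rangeRestrict {a, b}
    rw [hgen, Subgroup.map_top_of_surjective _ hsurj, Set.image_pair] at h1
    exact h1.symm
  have hx : φ.rangeRestrict a ^ p = 1 := Subtype.ext hφa
  have hy : φ.rangeRestrict b ^ p = 1 := Subtype.ext hφb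
  have hnpr : ¬ IsPGroup p φ.range := fun h => hφ2' ((pquot_ker_iff_range p φ).2 h)
  have hsol' : Cfsg.IsPSolvable p φ.range :=
    Cfsg.Agent.Lib.Helper20.isPSolvable_of_surjective φ.rangeRestrict hsurj hsol
  obtain ⟨hp3, T, Ψ, hΨ⟩ := exists_SL23_of_pSolvable p hp2 φ.range.subtype
    φ.range.subtype_injective _ _ hgen' hx hy hsol' hnpr
  exact ⟨hp3, pullback_surjective φ.rangeRestrict hsurj T Ψ hΨ⟩

/-- two quadratic elements of a `p`-solvable group generating a non-`p`-group modulo the kernel: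
`p = 3` and an `SL(2,3)` section inside the group they generate. -/
theorem pair_section_of_pSolvable (p : ℕ) [Fact p.Prime] (hp2 : p ≠ 2) {K : Type*} [Field K]
    [CharP K p] {G : Type*} [Group G] [Finite G]
    {V : Type*} [AddCommGroup V] [Module K V] [FiniteDimensional K V] (ρ : Representation K G V)
    (hsol : Cfsg.IsPSolvable p G) (x y : G)
    (hx : (ρ x - 1) * (ρ x - 1) = 0) (hy : (ρ y - 1) * (ρ y - 1) = 0)
    (hnp : ¬ ∀ g ∈ Subgroup.closure {x, y}, ∃ k : ℕ, g ^ p ^ k ∈ ρ.ker) :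
    p = 3 ∧ ∃ (T : Subgroup G) (Ψ : T →* Matrix.SpecialLinearGroup (Fin 2) (ZMod 3)),
      Function.Surjective Ψ := by
  obtain ⟨L, hL⟩ : ∃ L : Subgroup G, L = Subgroup.closure {x, y} := ⟨_, rfl⟩
  have hxL : x ∈ L := hL ▸ Subgroup.subset_closure (by simp)
  have hyL : y ∈ L := hL ▸ Subgroup.subset_closure (by simp)
  let ρL : Representation K L V := ρ.comp L.subtype
  have hgen : Subgroup.closure {(⟨x, hxL⟩ : L), ⟨y, hyL⟩} = ⊤ := by
    apply Subgroup.map_injective L.subtype_injective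
    rw [MonoidHom.map_closure, ← MonoidHom.range_eq_map, Subgroup.range_subtype]
    have h1 : (L.subtype '' {(⟨x, hxL⟩ : L), ⟨y, hyL⟩} : Set G) = {x, y} := by
      ext z; simp [Set.image_pair]
    rw [h1, hL]
  push Not at hnp
  obtain ⟨g, hgL, hg⟩ := hnp
  rw [← hL] at hgL
  have hnp' : ¬ PQuot p ρL.ker := by
    intro h
    obtain ⟨k, hk⟩ := h ⟨g, hgL⟩
    exact hg k hk
  obtain ⟨hp3, T, Ψ, hΨ⟩ := main_of_pSolvable p hp2 (⟨x, hxL⟩ : L) ⟨y, hyL⟩ hgen ρL hx hy
    (isPSolvable_subgroup (Fact.out : p.Prime) hsol L) hnp'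
  obtain ⟨T', Ψ', -, hΨ'⟩ := push_surjective L T Ψ hΨ
  exact ⟨hp3, T', Ψ', hΨ'⟩

/-- for `p ≠ 3`, two quadratic elements of a `p`-solvable group generate a `p`-group modulo the
kernel. -/
theorem pair_of_pSolvable (p : ℕ) [Fact p.Prime] (hp2 : p ≠ 2) (hp3 : p ≠ 3) {K : Type*} [Field K]
    [CharP K p] {G : Type*} [Group G] [Finite G]
    {V : Type*} [AddCommGroup V] [Module K V] [FiniteDimensional K V] (ρ : Representation K G V)
    (hsol : Cfsg.IsPSolvable p G) (x y : G)
    (hx : (ρ x - 1) * (ρ x - 1) = 0) (hy : (ρ y - 1) * (ρ y - 1) = 0) :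
    ∀ g ∈ Subgroup.closure {x, y}, ∃ k : ℕ, g ^ p ^ k ∈ ρ.ker := by
  by_contra hnp
  exact hp3 (pair_section_of_pSolvable p hp2 ρ hsol x y hx hy hnp).1

/-- **Baer–Suzuki form of the core theorem**: if any two conjugates of `a` generate a `p`-group
modulo the kernel, then `a` lies in a normal subgroup which is a `p`-group modulo the kernel. -/
theorem core_element_of_pairs (p : ℕ) [Fact p.Prime] {K : Type*} [Field K]
    {G : Type*} [Group G] [Finite G]
    {V : Type*} [AddCommGroup V] [Module K V] (ρ : Representation K G V) (a : G)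
    (hpair : ∀ g h : G, ∀ z ∈ Subgroup.closure {g * a * g⁻¹, h * a * h⁻¹},
      ∃ k : ℕ, z ^ p ^ k ∈ ρ.ker) :
    ∃ D : Subgroup G, D.Normal ∧ ρ.ker ≤ D ∧ a ∈ D ∧ ∀ d ∈ D, ∃ k : ℕ, d ^ p ^ k ∈ ρ.ker := by
  let π := QuotientGroup.mk' ρ.ker
  let S : Set (G ⧸ ρ.ker) := {z | ∃ g : G, z = π (g * a * g⁻¹)}
  have hS : ∀ g x, x ∈ S → g * x * g⁻¹ ∈ S := by
    rintro g _ ⟨h, rfl⟩
    obtain ⟨g', rfl⟩ := QuotientGroup.mk'_surjective ρ.ker g
    refine ⟨g' * h, ?_⟩
    rw [← map_inv, ← map_mul, ← map_mul]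
    congr 1
    group
  have hpairS : ∀ x ∈ S, ∀ y ∈ S, IsPGroup p (Subgroup.closure ({x, y} : Set (G ⧸ ρ.ker))) := by
    rintro _ ⟨g, rfl⟩ _ ⟨h, rfl⟩
    have h1 := hpair g h
    have h2 : Subgroup.closure ({π (g * a * g⁻¹), π (h * a * h⁻¹)} : Set (G ⧸ ρ.ker)) =
        (Subgroup.closure {g * a * g⁻¹, h * a * h⁻¹}).map π := by
      rw [MonoidHom.map_closure, Set.image_pair]
    rw [h2]
    rintro ⟨_, z, hz, rfl⟩
    obtain ⟨k, hk⟩ := h1 z hz
    refine ⟨k, Subtype.ext ?_⟩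
    rw [Subgroup.coe_pow, Subgroup.coe_one]
    change π z ^ p ^ k = 1
    rw [← map_pow]
    exact (QuotientGroup.eq_one_iff _).2 hk
  obtain ⟨hn, hpg⟩ := Cfsg.Agent.Lib.Lead.baer_suzuki_closure S hS hpairS
  refine ⟨(Subgroup.closure S).comap π, ?_, ?_, ?_, ?_⟩
  · exact hn.comap π
  · intro g hg
    rw [Subgroup.mem_comap]
    have : π g = 1 := (QuotientGroup.eq_one_iff _).2 hg
    rw [this]
    exact Subgroup.one_mem _
  · rw [Subgroup.mem_comap]
    apply Subgroup.subset_closure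
    exact ⟨1, by simp⟩
  · intro d hd
    rw [Subgroup.mem_comap] at hd
    obtain ⟨k, hk⟩ := hpg ⟨π d, hd⟩
    refine ⟨k, ?_⟩
    have h1 := congrArg Subtype.val hk
    rw [Subgroup.coe_pow, Subgroup.coe_one] at h1
    change π d ^ p ^ k = 1 at h1
    rw [← map_pow] at h1
    exact (QuotientGroup.eq_one_iff _).1 h1


open Cfsg.Agent.Lib.Helper15.QuadInternal Subgroup

section MulAutForm

variable (p : ℕ) [Fact p.Prime] {A : Type*} [CommGroup A] [Finite A]
  {G : Type*} [Group G] [Finite G]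

/-- `MulAut` form: a quadratic element outside every normal subgroup that is a `p`-group modulo the
kernel, in a `p`-solvable group. -/
theorem psolv_mulAut (hp2 : p ≠ 2) (hexp : ∀ a : A, a ^ p = 1) (θ : G →* MulAut A)
    (hsol : Cfsg.IsPSolvable p G) (a : G)
    (ha : ∀ v : A, θ a (θ a v / v) = θ a v / v)
    (hna : ∀ D : Subgroup G, D.Normal → θ.ker ≤ D → (∀ d ∈ D, ∃ k : ℕ, d ^ p ^ k ∈ θ.ker) → a ∉ D) :
    p = 3 ∧ ∃ (T : Subgroup G) (Ψ : T →* Matrix.SpecialLinearGroup (Fin 2) (ZMod 3)),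
      Function.Surjective Ψ := by
  let _ : Module (ZMod p) (Additive A) := AddCommGroup.zmodModule (by
    intro x
    exact congrArg Additive.ofMul (hexp x.toMul))
  have hfin : Finite (Additive A) := inferInstanceAs (Finite A)
  have hfd : FiniteDimensional (ZMod p) (Additive A) := Module.Finite.of_finite
  have hq := linRep_quad p θ a ha
  by_cases hpair : ∀ g h : G, ∀ z ∈ Subgroup.closure {g * a * g⁻¹, h * a * h⁻¹},
      ∃ k : ℕ, z ^ p ^ k ∈ θ.ker
  · exfalso
    obtain ⟨D, hDn, hD1, hD2, hD3⟩ := @core_element_of_pairs p _ (ZMod p) _ G _ _ (Additive A) _ _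
      (linRep p θ) a (by
        intro g h z hz
        rw [linRep_ker]
        exact hpair g h z hz)
    rw [linRep_ker] at hD1
    refine hna D hDn hD1 ?_ hD2
    intro d hd
    obtain ⟨k, hk⟩ := hD3 d hd
    rw [linRep_ker] at hk
    exact ⟨k, hk⟩
  · push Not at hpair
    obtain ⟨g, h, z, hz, hzk⟩ := hpair
    refine @pair_section_of_pSolvable p _ hp2 (ZMod p) _ _ G _ _ (Additive A) _ _ hfd (linRep p θ)
      hsol (g * a * g⁻¹) (h * a * h⁻¹) (quad_conj _ a g hq) (quad_conj _ a h hq) ?_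
    intro hall
    obtain ⟨k, hk⟩ := hall z hz
    rw [linRep_ker] at hk
    exact hzk k hk

end MulAutForm

end Cfsg.Agent.Lib.Helper15.QuadPSolv
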