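import Mathlib
import Cfsg.Prelude.Def_PLocal
import Cfsg.Prelude.Def_LocalEven
import Cfsg.Agent.Lib.Helper17.QdBasic

/-!
# Affine matrices: the elements of `Qd(p)` as pairs (matrix in `SL₂`, translation vector)
-/

namespace Cfsg.Agent.Lib.Helper15.QdAffine

open Matrix

variable {R : Type*} [CommRing R]

/-- the affine `3 × 3` matrix with linear part `A` and translation part `v`. -/
def affM (A : Matrix (Fin 2) (Fin 2) R) (v : Fin 2 → R) : Matrix (Fin 3) (Fin 3) R :=
  !![A 0 0, A 0 1, v 0; A 1 0, A 1 1, v 1; 0, 0, 1]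

theorem affM_mul (A B : Matrix (Fin 2) (Fin 2) R) (v w : Fin 2 → R) :
    affM A v * affM B w = affM (A * B) (v + A.mulVec w) := by
  ext i j
  fin_cases i <;> fin_cases j <;>
    simp [affM, Matrix.mul_apply, Fin.sum_univ_three, Fin.sum_univ_two, Matrix.mulVec, dotProduct] <;> ring

theorem det_affM (A : Matrix (Fin 2) (Fin 2) R) (v : Fin 2 → R) : (affM A v).det = A.det := by
  rw [Matrix.det_fin_three, Matrix.det_fin_two]
  simp [affM]

theorem affM_one : affM (1 : Matrix (Fin 2) (Fin 2) R) 0 = 1 := by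
  ext i j
  fin_cases i <;> fin_cases j <;> simp [affM]

/-- the affine element of `SL₃`. -/
def aff (A : Matrix.SpecialLinearGroup (Fin 2) R) (v : Fin 2 → R) :
    Matrix.SpecialLinearGroup (Fin 3) R :=
  ⟨affM (A : Matrix (Fin 2) (Fin 2) R) v, by rw [det_affM]; exact A.2⟩

theorem aff_mul (A B : Matrix.SpecialLinearGroup (Fin 2) R) (v w : Fin 2 → R) :
    aff A v * aff B w = aff (A * B) (v + (A : Matrix (Fin 2) (Fin 2) R).mulVec w) := by
  apply Subtype.ext
  show affM _ v * affM _ w = affM _ _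
  rw [affM_mul]
  rfl

theorem aff_one : aff (1 : Matrix.SpecialLinearGroup (Fin 2) R) 0 = 1 := by
  apply Subtype.ext
  show affM (1 : Matrix (Fin 2) (Fin 2) R) 0 = 1
  exact affM_one

theorem aff_mem (A : Matrix.SpecialLinearGroup (Fin 2) R) (v : Fin 2 → R) :
    aff A v ∈ Cfsg.Agent.Lib.Helper17.lastRowSubgroup R := by
  refine ⟨?_, ?_, ?_⟩ <;> simp [aff, affM]

theorem exists_aff_of_mem (M : Matrix.SpecialLinearGroup (Fin 3) R)
    (hM : M ∈ Cfsg.Agent.Lib.Helper17.lastRowSubgroup R) :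
    ∃ (A : Matrix.SpecialLinearGroup (Fin 2) R) (v : Fin 2 → R), M = aff A v := by
  obtain ⟨h0, h1, h2⟩ := hM
  have hdet := M.2
  rw [Matrix.det_fin_three, h0, h1, h2] at hdet
  let A0 : Matrix (Fin 2) (Fin 2) R := !![(M : Matrix (Fin 3) (Fin 3) R) 0 0, (M : Matrix (Fin 3) (Fin 3) R) 0 1;
    (M : Matrix (Fin 3) (Fin 3) R) 1 0, (M : Matrix (Fin 3) (Fin 3) R) 1 1]
  have hA0 : A0.det = 1 := by
    rw [Matrix.det_fin_two]
    simp only [A0, Matrix.of_apply, Matrix.cons_val', Matrix.cons_val_zero, Matrix.cons_val_one,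
      Matrix.empty_val', Matrix.cons_val_fin_one]
    linear_combination hdet
  refine ⟨⟨A0, hA0⟩, ![(M : Matrix (Fin 3) (Fin 3) R) 0 2, (M : Matrix (Fin 3) (Fin 3) R) 1 2], ?_⟩
  apply Subtype.ext
  ext i j
  fin_cases i <;> fin_cases j <;> simp [aff, affM, A0, h0, h1, h2]

theorem aff_eq_one_iff (A : Matrix.SpecialLinearGroup (Fin 2) R) (v : Fin 2 → R) :
    aff A v = 1 ↔ A = 1 ∧ v = 0 := by
  constructor
  · intro h
    have h' : affM (A : Matrix (Fin 2) (Fin 2) R) v = 1 := congrArg Subtype.val h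
    refine ⟨?_, ?_⟩
    · apply Subtype.ext
      ext i j
      fin_cases i <;> fin_cases j
      · have := congrFun (congrFun h' 0) 0; simpa [affM] using this
      · have := congrFun (congrFun h' 0) 1; simpa [affM] using this
      · have := congrFun (congrFun h' 1) 0; simpa [affM] using this
      · have := congrFun (congrFun h' 1) 1; simpa [affM] using this
    · funext i
      fin_cases i
      · have := congrFun (congrFun h' 0) 2; simpa [affM] using this
      · have := congrFun (congrFun h' 1) 2; simpa [affM] using this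
  · rintro ⟨rfl, rfl⟩
    exact aff_one

end Cfsg.Agent.Lib.Helper15.QdAffine
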