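import Mathlib
import Cfsg.Prelude.Def_PLocal
import Cfsg.Prelude.Def_LocalEven
import Cfsg.Agent.Lib.Helper17.QdBasic
import Cfsg.Agent.Lib.Helper15.QdAffine

/-!
# A `Qd(p)` section from a natural `SL₂(p)`-action on a `p²`-quotient

`involves_qd`: if `P₁ ≤ X` is a `p`-subgroup (`p` odd) with a surjection `e : P₁ → 𝔽_p²`, `K ≤ N_X(P₁)`
with a surjection `θ : K → SL₂(p)` and conjugation by `k ∈ K` corresponds under `e` to the
natural action of `θ k`, then `Qd(p)` is involved in `X`.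
-/

namespace Cfsg.Agent.Lib.Helper15.QdSection

open Matrix Cfsg.Agent.Lib.Helper15.QdAffine

/-- a surjection from a subgroup gives a section. -/
theorem involves_of_surjective {X : Type*} [Group X] {Y : Type*} [Group Y] (Γ : Subgroup X)
    (Ψ : Γ →* Y) (hΨ : Function.Surjective Ψ) : Cfsg.Involves Y X := by
  obtain ⟨L, hL⟩ : ∃ L : Subgroup X, L = Ψ.ker.map Γ.subtype := ⟨_, rfl⟩
  have hLK : L.subgroupOf Γ = Ψ.ker := by
    ext k
    rw [Subgroup.mem_subgroupOf, hL]
    constructor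
    · rintro ⟨k', hk', h⟩
      have : k' = k := Subtype.ext h
      rwa [← this]
    · intro hk
      exact ⟨k, hk, rfl⟩
  have hN : (L.subgroupOf Γ).Normal := by rw [hLK]; infer_instance
  exact ⟨Γ, L, hN, ⟨(QuotientGroup.quotientMulEquivOfEq hLK).trans
      (QuotientGroup.quotientKerEquivOfSurjective Ψ hΨ)⟩⟩

variable {X : Type*} [Group X] {p : ℕ} [hp : Fact p.Prime]

/-- conjugation action of a subgroup of the normalizer. -/
def conjAct (P₁ K : Subgroup X) (hK : K ≤ Subgroup.normalizer (P₁ : Set X)) : K →* MulAut P₁ where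
  toFun k :=
    { toFun := fun a => ⟨(k : X) * a * (k : X)⁻¹, ((Subgroup.mem_normalizer_iff.1 (hK k.2)) a).1 a.2⟩
      invFun := fun a => ⟨(k : X)⁻¹ * a * (k : X), by
        have h := (Subgroup.mem_normalizer_iff.1 (hK k.2)) ((k : X)⁻¹ * a * (k : X))
        rw [h]
        have e : (k : X) * ((k : X)⁻¹ * a * (k : X)) * (k : X)⁻¹ = a := by group
        rw [e]; exact a.2⟩
      left_inv := fun a => by apply Subtype.ext; simp only; group
      right_inv := fun a => by apply Subtype.ext; simp only; group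
      map_mul' := fun a b => by apply Subtype.ext; simp only [Subgroup.coe_mul]; group }
  map_one' := by
    ext a
    simp
  map_mul' := fun k l => by
    ext a
    simp only [Subgroup.coe_mul, MulEquiv.coe_mk, Equiv.coe_fn_mk, MulAut.mul_apply, _root_.mul_inv_rev]
    group

theorem conjAct_apply (P₁ K : Subgroup X) (hK : K ≤ Subgroup.normalizer (P₁ : Set X)) (k : K)
    (a : P₁) : ((conjAct P₁ K hK k a : P₁) : X) = (k : X) * a * (k : X)⁻¹ := rfl

abbrev SL2p (p : ℕ) := Matrix.SpecialLinearGroup (Fin 2) (ZMod p)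
abbrev SL3p (p : ℕ) := Matrix.SpecialLinearGroup (Fin 3) (ZMod p)

theorem neg_one_ne_one (h2 : p ≠ 2) : (-1 : SL2p p) ≠ 1 := by
  intro h
  have h1 := congrArg (fun M : SL2p p => (M : Matrix (Fin 2) (Fin 2) (ZMod p)) 0 0) h
  simp only [Matrix.SpecialLinearGroup.coe_neg, Matrix.SpecialLinearGroup.coe_one, Matrix.neg_apply,
    Matrix.one_apply_eq] at h1
  have h3 : (2 : ZMod p) = 0 := by linear_combination -h1
  have h4 : ((2 : ℕ) : ZMod p) = 0 := by exact_mod_cast h3
  rw [ZMod.natCast_eq_zero_iff] at h4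
  have := (Nat.prime_dvd_prime_iff_eq hp.out Nat.prime_two).1 h4
  exact h2 this

theorem one_of_mulVec_eq (A : SL2p p)
    (h : ∀ v : Fin 2 → ZMod p, (A : Matrix (Fin 2) (Fin 2) (ZMod p)).mulVec v = v) : A = 1 := by
  apply Subtype.ext
  ext i j
  have h1 := congrFun (h (Pi.single j 1)) i
  rw [Matrix.mulVec_single_one] at h1
  simp only [Matrix.SpecialLinearGroup.coe_one]
  rw [Matrix.one_apply]
  simpa [Matrix.col_apply, Pi.single_apply, eq_comm] using h1

theorem involves_qd [Finite X] (h2 : p ≠ 2) (P₁ K : Subgroup X) (hP₁ : IsPGroup p P₁)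
    (hK : K ≤ Subgroup.normalizer (P₁ : Set X))
    (e : P₁ →* Multiplicative (Fin 2 → ZMod p)) (he : Function.Surjective e)
    (θ : K →* SL2p p) (hθ : Function.Surjective θ)
    (hact : ∀ (k : K) (a : P₁),
      Multiplicative.toAdd (e (conjAct P₁ K hK k a)) =
        ((θ k : SL2p p) : Matrix (Fin 2) (Fin 2) (ZMod p)).mulVec (Multiplicative.toAdd (e a))) :
    Cfsg.Involves ↥(Cfsg.qd p) X := by
  classical
  -- the preimage of ⟨-1⟩
  have hcentral : ∀ A : SL2p p, Commute A (-1) := by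
    intro A; show A * (-1) = (-1) * A; simp
  set Zt : Subgroup K := (Subgroup.zpowers (-1 : SL2p p)).comap θ with hZt
  have hZc : (Subgroup.zpowers (-1 : SL2p p)).Normal := by
    constructor
    intro n hn g
    obtain ⟨k, rfl⟩ := hn
    have hc : Commute g ((-1 : SL2p p) ^ k) := (hcentral g).zpow_right k
    have : g * (-1 : SL2p p) ^ k * g⁻¹ = (-1 : SL2p p) ^ k := by
      rw [hc.eq, mul_inv_cancel_right]
    rw [this]; exact ⟨k, rfl⟩
  haveI hZn : Zt.Normal := by rw [hZt]; exact hZc.comap θ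
  -- a 2-element t₀ of K with θ t₀ = -1
  obtain ⟨k₀, hk₀⟩ := hθ (-1)
  obtain ⟨a2, m, hm, hord⟩ := Nat.exists_eq_two_pow_mul_odd (n := orderOf k₀) (orderOf_pos k₀).ne'
  set t₀ : K := k₀ ^ m with ht₀
  have ht₀θ : θ t₀ = -1 := by
    rw [ht₀, map_pow, hk₀]
    exact Odd.neg_one_pow hm
  have ht₀2 : t₀ ^ (2 ^ a2) = 1 := by
    rw [ht₀, ← pow_mul, mul_comm, ← hord, pow_orderOf_eq_one]
  have ht₀Z : t₀ ∈ Zt := by
    rw [hZt, Subgroup.mem_comap, ht₀θ]
    exact Subgroup.mem_zpowers _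
  -- a Sylow 2-subgroup of Zt containing t₀
  have hcyc2 : IsPGroup 2 (Subgroup.zpowers (⟨t₀, ht₀Z⟩ : Zt)) := by
    rintro ⟨g, hg⟩
    obtain ⟨j, rfl⟩ := Subgroup.mem_zpowers_iff.1 hg
    refine ⟨a2, ?_⟩
    apply Subtype.ext
    show ((⟨t₀, ht₀Z⟩ : Zt) ^ j) ^ 2 ^ a2 = 1
    rw [← zpow_natCast, ← _root_.zpow_mul, mul_comm, _root_.zpow_mul, zpow_natCast]
    have : (⟨t₀, ht₀Z⟩ : Zt) ^ 2 ^ a2 = 1 := Subtype.ext ht₀2
    rw [this, _root_.one_zpow]
  obtain ⟨T, hT⟩ := hcyc2.exists_le_sylow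
  have hfr := Sylow.normalizer_sup_eq_top T
  set TK : Subgroup K := (T : Subgroup Zt).map Zt.subtype with hTK
  set N₁ : Subgroup K := Subgroup.normalizer (TK : Set K) with hN₁
  have ht₀T : t₀ ∈ TK := by
    rw [hTK]
    exact ⟨⟨t₀, ht₀Z⟩, hT (Subgroup.mem_zpowers _), rfl⟩
  have hTKN : TK ≤ N₁ := Subgroup.le_normalizer
  have hTK2 : IsPGroup 2 TK := by
    rw [hTK]; exact T.isPGroup'.map _
  -- θ maps N₁ onto SL₂(p)
  have hθN : ∀ A : SL2p p, ∃ n : K, n ∈ N₁ ∧ θ n = A := by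
    intro A
    obtain ⟨k, rfl⟩ := hθ A
    have hk : k ∈ N₁ ⊔ Zt := by rw [hfr]; exact Subgroup.mem_top k
    have hk' : k ∈ ((N₁ ⊔ Zt : Subgroup K) : Set K) := hk
    rw [Subgroup.mul_normal] at hk'
    obtain ⟨n, hn, z, hz, rfl⟩ := Set.mem_mul.1 hk'
    have hz' : θ z ∈ Subgroup.zpowers (-1 : SL2p p) := hz
    obtain ⟨j, hj⟩ := Subgroup.mem_zpowers_iff.1 hz'
    refine ⟨n * t₀ ^ j, N₁.mul_mem hn (N₁.zpow_mem (hTKN ht₀T) j), ?_⟩
    rw [map_mul, map_mul, map_zpow, ht₀θ, hj]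
  -- key: elements of P₁ normalizing TK are killed by e
  have h2ne : (2 : ZMod p) ≠ 0 := by
    intro h
    have h4 : ((2 : ℕ) : ZMod p) = 0 := by exact_mod_cast h
    rw [ZMod.natCast_eq_zero_iff] at h4
    exact h2 ((Nat.prime_dvd_prime_iff_eq hp.out Nat.prime_two).1 h4)
  have hkey : ∀ (a : P₁) (haK : (a : X) ∈ K), (⟨(a : X), haK⟩ : K) ∈ N₁ → e a = 1 := by
    intro a haK hn
    set n : K := ⟨(a : X), haK⟩ with hn_def
    -- the commutator c = n t₀ n⁻¹ t₀⁻¹
    have hc1 : n * t₀ * n⁻¹ ∈ TK := ((Subgroup.mem_normalizer_iff.1 hn) t₀).1 ht₀T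
    have hcT : n * t₀ * n⁻¹ * t₀⁻¹ ∈ TK := TK.mul_mem hc1 (TK.inv_mem ht₀T)
    have hcP : ((n * t₀ * n⁻¹ * t₀⁻¹ : K) : X) ∈ P₁ := by
      have h1 : (t₀ : X) * (a : X)⁻¹ * (t₀ : X)⁻¹ ∈ P₁ :=
        ((Subgroup.mem_normalizer_iff.1 (hK t₀.2)) ((a : X)⁻¹)).1 (P₁.inv_mem a.2)
      have h3 : ((n * t₀ * n⁻¹ * t₀⁻¹ : K) : X) = (a : X) * ((t₀ : X) * (a : X)⁻¹ * (t₀ : X)⁻¹) := by
        simp only [Subgroup.coe_mul, Subgroup.coe_inv, hn_def]
        group
      rw [h3]
      exact P₁.mul_mem a.2 h1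
    have hc1' : n * t₀ * n⁻¹ * t₀⁻¹ = 1 := by
      set c : K := n * t₀ * n⁻¹ * t₀⁻¹ with hc
      obtain ⟨i, hi⟩ := hTK2 ⟨c, hcT⟩
      obtain ⟨j, hj⟩ := hP₁ ⟨(c : X), hcP⟩
      have hi' : (c : X) ^ 2 ^ i = 1 := by
        have := congrArg (fun z : TK => ((z : K) : X)) hi
        simpa using this
      have hj' : (c : X) ^ p ^ j = 1 := by
        have := congrArg (fun z : P₁ => (z : X)) hj
        simpa using this
      have hcop : Nat.Coprime (2 ^ i) (p ^ j) := by
        apply Nat.Coprime.pow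
        rw [Nat.coprime_primes Nat.prime_two hp.out]
        exact fun h => h2 h.symm
      have h1 : orderOf (c : X) ∣ 2 ^ i := orderOf_dvd_of_pow_eq_one hi'
      have h3 : orderOf (c : X) ∣ p ^ j := orderOf_dvd_of_pow_eq_one hj'
      have h4 : orderOf (c : X) = 1 := Nat.eq_one_of_dvd_coprimes hcop h1 h3
      apply Subtype.ext
      exact orderOf_eq_one_iff.1 h4
    have hcomm : (t₀ : X) * (a : X) * (t₀ : X)⁻¹ = (a : X) := by
      have h1 := congrArg (fun z : K => (z : X)) hc1'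
      simp only [Subgroup.coe_mul, Subgroup.coe_inv, Subgroup.coe_one, hn_def] at h1
      have h3 : (a : X) * (t₀ : X) = (t₀ : X) * (a : X) := by
        calc (a : X) * (t₀ : X) = ((a : X) * (t₀ : X) * (a : X)⁻¹ * (t₀ : X)⁻¹) * ((t₀ : X) * (a : X)) := by group
          _ = (t₀ : X) * (a : X) := by rw [h1, one_mul]
      rw [← h3]; group
    have hfix : conjAct P₁ K hK t₀ a = a := Subtype.ext hcomm
    have h5 := hact t₀ a
    rw [hfix, ht₀θ] at h5
    have h6 : Multiplicative.toAdd (e a) = 0 := by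
      set v := Multiplicative.toAdd (e a) with hv
      have h7 : v = -v := by
        conv_lhs => rw [h5]
        simp [Matrix.neg_mulVec]
      funext i
      have h8 := congrFun h7 i
      simp only [Pi.neg_apply, Pi.zero_apply] at h8 ⊢
      have h9 : (2 : ZMod p) * v i = 0 := by linear_combination h8
      rcases mul_eq_zero.1 h9 with h | h
      · exact absurd h h2ne
      · exact h
    exact Multiplicative.toAdd.injective h6
  -- elements of K lying in P₁ are killed by θ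
  have hθP : ∀ (n : K), (n : X) ∈ P₁ → θ n = 1 := by
    intro n hn
    apply one_of_mulVec_eq
    intro v
    obtain ⟨b, hb⟩ := he (Multiplicative.ofAdd v)
    have h5 := hact n b
    have h6 : conjAct P₁ K hK n b = ⟨(n : X), hn⟩ * b * (⟨(n : X), hn⟩ : P₁)⁻¹ := by
      apply Subtype.ext
      simp [conjAct_apply]
    have h7 : e (conjAct P₁ K hK n b) = e b := by
      rw [h6, map_mul, map_mul, map_inv, mul_comm (e _) (e b), mul_inv_cancel_right]
    rw [h7, hb] at h5
    exact h5.symm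
  -- the semidirect product
  set φ : N₁ →* MulAut P₁ := (conjAct P₁ K hK).comp N₁.subtype with hφ
  have hF : ∀ g : N₁, P₁.subtype.comp (φ g).toMonoidHom =
      (MulAut.conj ((K.subtype.comp N₁.subtype) g)).toMonoidHom.comp P₁.subtype := by
    intro g
    ext a
    simp [hφ, conjAct_apply, MulAut.conj_apply]
  set F : P₁ ⋊[φ] N₁ →* X := SemidirectProduct.lift P₁.subtype (K.subtype.comp N₁.subtype) hF with hFdef
  let fn : P₁ →* SL3p p :=
    { toFun := fun a => aff 1 (Multiplicative.toAdd (e a))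
      map_one' := by
        rw [map_one]
        exact aff_one
      map_mul' := fun a b => by
        rw [aff_mul, map_mul, mul_one]
        simp }
  let fg : N₁ →* SL3p p :=
    { toFun := fun n => aff (θ n) 0
      map_one' := by
        show aff (θ ((1 : N₁) : K)) 0 = 1
        rw [Subgroup.coe_one, map_one]
        exact aff_one
      map_mul' := fun a b => by
        show aff (θ ((a * b : N₁) : K)) 0 = aff (θ a) 0 * aff (θ b) 0
        rw [aff_mul, Subgroup.coe_mul, map_mul]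
        simp }
  have hG : ∀ g : N₁, fn.comp (φ g).toMonoidHom = (MulAut.conj (fg g)).toMonoidHom.comp fn := by
    intro g
    ext1 a
    show aff 1 (Multiplicative.toAdd (e (conjAct P₁ K hK g a))) =
      aff (θ g) 0 * aff 1 (Multiplicative.toAdd (e a)) * (aff (θ g) 0)⁻¹
    rw [eq_mul_inv_iff_mul_eq, aff_mul, aff_mul, hact]
    simp
  set Gm : P₁ ⋊[φ] N₁ →* SL3p p := SemidirectProduct.lift fn fg hG with hGdef
  have hFval : ∀ x : P₁ ⋊[φ] N₁, F x = (x.left : X) * ((x.right : K) : X) := fun x => rfl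
  have hGval : ∀ x : P₁ ⋊[φ] N₁, Gm x = aff 1 (Multiplicative.toAdd (e x.left)) * aff (θ x.right) 0 :=
    fun x => rfl
  have hker : F.ker ≤ Gm.ker := by
    intro x hx
    rw [MonoidHom.mem_ker, hFval] at hx
    rw [MonoidHom.mem_ker, hGval]
    have hlK : (x.left : X) ∈ K := by
      have : (x.left : X) = ((x.right : K) : X)⁻¹ := eq_inv_of_mul_eq_one_left hx
      rw [this]
      exact K.inv_mem (x.right : K).2
    have hlN : (⟨(x.left : X), hlK⟩ : K) ∈ N₁ := by
      have : (⟨(x.left : X), hlK⟩ : K) = (x.right : K)⁻¹ := by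
        apply Subtype.ext
        exact eq_inv_of_mul_eq_one_left hx
      rw [this]
      exact N₁.inv_mem x.right.2
    have h1 : e x.left = 1 := hkey x.left hlK hlN
    have h3 : θ x.right = 1 := by
      apply hθP
      have : ((x.right : K) : X) = (x.left : X)⁻¹ := eq_inv_of_mul_eq_one_right hx
      rw [this]
      exact P₁.inv_mem x.left.2
    rw [h1, h3]
    simp [aff_one]
  have hGmem : ∀ x, Gm x ∈ Cfsg.qd p := by
    intro x
    rw [Cfsg.Agent.Lib.Helper17.qd_eq_lastRowSubgroup, hGval]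
    exact Subgroup.mul_mem _ (aff_mem _ _) (aff_mem _ _)
  have hGsurj : ∀ M ∈ Cfsg.qd p, ∃ x, Gm x = M := by
    intro M hM
    rw [Cfsg.Agent.Lib.Helper17.qd_eq_lastRowSubgroup] at hM
    obtain ⟨A, v, rfl⟩ := exists_aff_of_mem M hM
    obtain ⟨n, hn, rfl⟩ := hθN A
    obtain ⟨b, hb⟩ := he (Multiplicative.ofAdd v)
    refine ⟨⟨b, ⟨n, hn⟩⟩, ?_⟩
    rw [hGval]
    show aff 1 (Multiplicative.toAdd (e b)) * aff (θ n) 0 = aff (θ n) v
    rw [hb, aff_mul]
    simp
  -- descend to the range of F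
  let Ψ' : (P₁ ⋊[φ] N₁) ⧸ F.ker →* SL3p p := QuotientGroup.lift F.ker Gm hker
  let E := QuotientGroup.quotientKerEquivRange F
  let Ψ : F.range →* SL3p p := Ψ'.comp E.symm.toMonoidHom
  have hΨ : ∀ x : P₁ ⋊[φ] N₁, Ψ (E (QuotientGroup.mk x)) = Gm x := by
    intro x
    show Ψ' (E.symm (E (QuotientGroup.mk x))) = Gm x
    rw [MulEquiv.symm_apply_apply]
    rfl
  have hΨmem : ∀ y, Ψ y ∈ Cfsg.qd p := by
    intro y
    obtain ⟨q, rfl⟩ := E.surjective y
    obtain ⟨x, rfl⟩ := QuotientGroup.mk_surjective q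
    rw [hΨ]
    exact hGmem x
  let Ψq : F.range →* ↥(Cfsg.qd p) := Ψ.codRestrict (Cfsg.qd p) hΨmem
  have hΨq : Function.Surjective Ψq := by
    rintro ⟨M, hM⟩
    obtain ⟨x, hx⟩ := hGsurj M hM
    refine ⟨E (QuotientGroup.mk x), ?_⟩
    apply Subtype.ext
    show Ψ (E (QuotientGroup.mk x)) = M
    rw [hΨ, hx]
  exact involves_of_surjective F.range Ψq hΨq

end Cfsg.Agent.Lib.Helper15.QdSection
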