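import Mathlib
import Cfsg.Prelude.Def_PLocal
import Cfsg.Agent.Lib.Helper15.QuadInternal
import Cfsg.Agent.Lib.Helper14.FrattiniQuot
import Cfsg.Agent.Lib.Helper16.PCore

/-!
# `p`-stability in the action sense from abelian Sylow 2-subgroups (helper15)
-/

set_option autoImplicit false

namespace Cfsg.Agent.Lib.Helper15.QuadPStable

open Subgroup Cfsg.Agent.Lib.Helper15.QuadInternal Cfsg.Agent.Lib.Helper15.QuadCore
open scoped commutatorElement

variable {G : Type*} [Group G] [Finite G] (p : ℕ) [Fact p.Prime]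

/-- `IsPStableOn` from abelian Sylow 2-subgroups. -/
theorem isPStableOn_of (hp2 : p ≠ 2) (hab2 : ∀ T : Sylow 2 G, IsMulCommutative T)
    (V : Subgroup G) [V.Normal] (hVc : ∀ x ∈ V, ∀ y ∈ V, x * y = y * x)
    (hVe : ∀ x ∈ V, x ^ p = 1) : Cfsg.IsPStableOn p V := by
  intro a hq
  obtain ⟨N, hNn, hNp, haN⟩ := core_normal p hp2 V hVc hVe hab2 a hq
  exact (le_sSup ⟨hNn, hNp⟩ : N ≤ Cfsg.pCore p _) haN

theorem omegaOne_elem {P : Type*} [Group P] (Z : Subgroup P)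
    (hZc : ∀ x ∈ Z, ∀ y ∈ Z, x * y = y * x) :
    (∀ x ∈ Cfsg.omegaOne p Z, ∀ y ∈ Cfsg.omegaOne p Z, x * y = y * x) ∧
      ∀ x ∈ Cfsg.omegaOne p Z, x ^ p = 1 := by
  have hle : Cfsg.omegaOne p Z ≤ Z := by
    unfold Cfsg.omegaOne
    rw [closure_le]
    intro x hx
    exact hx.1
  refine ⟨fun x hx y hy => hZc x (hle hx) y (hle hy), ?_⟩
  intro x hx
  unfold Cfsg.omegaOne at hx
  induction hx using Subgroup.closure_induction with
  | mem x hx => exact hx.2
  | one => simp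
  | mul x y hx hy ihx ihy =>
    have hc : Commute x y := hZc x (hle hx) y (hle hy)
    rw [hc.mul_pow, ihx, ihy, one_mul]
  | inv x hx ihx => rw [inv_pow, ihx, inv_one]

open Cfsg.Agent.Lib.Helper3 in
theorem sectionKernel_eq (K N : Subgroup G) [hKn : K.Normal] [hNn : N.Normal] :
    Cfsg.sectionKernel K N = (quotAct N K).ker := by
  ext g
  rw [MonoidHom.mem_ker, quotAct_eq_one_iff]
  unfold Cfsg.sectionKernel
  rw [mem_comap, mem_centralizer_iff]
  constructor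
  · intro h x hx
    have h1 := h (QuotientGroup.mk' N x⁻¹) ⟨x⁻¹, K.inv_mem hx, rfl⟩
    rw [← map_mul, ← map_mul] at h1
    have h2 := (QuotientGroup.eq).1 h1
    have h3 := hNn.conj_mem _ h2 g
    have h4 := N.inv_mem h3
    have : (g * ((x⁻¹ * g)⁻¹ * (g * x⁻¹)) * g⁻¹)⁻¹ = g * x * g⁻¹ * x⁻¹ := by group
    rwa [this] at h4
  · rintro h _ ⟨k, hk, rfl⟩
    rw [← map_mul, ← map_mul]
    apply (QuotientGroup.eq).2
    have h1 := h k⁻¹ (K.inv_mem hk)
    have h2 := N.inv_mem h1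
    have h3 := hNn.conj_mem _ h2 g⁻¹
    have : g⁻¹ * (g * k⁻¹ * g⁻¹ * k⁻¹⁻¹)⁻¹ * g⁻¹⁻¹ = (k * g)⁻¹ * (g * k) := by group
    rwa [this] at h3

open Cfsg.Agent.Lib.Helper3 in
/-- `IsPStableOnSection` from abelian Sylow 2-subgroups, for an elementary abelian section. -/
theorem isPStableOnSection_of (hp2 : p ≠ 2) (hab2 : ∀ T : Sylow 2 G, IsMulCommutative T)
    (K N : Subgroup G) [hKn : K.Normal] [hNn : N.Normal]
    (hcomm : ⁅K, K⁆ ≤ N) (hexp : ∀ x ∈ K, x ^ p ∈ N) : Cfsg.IsPStableOnSection p K N := by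
  intro a hq
  obtain ⟨D, hDn, hD1, hD2, hD3⟩ := core_section p hp2 K N hcomm hexp hab2 a hq
  rw [sectionKernel_eq]
  refine ⟨D, hDn, hD1, ?_, hD2⟩
  set C := (quotAct N K).ker with hC
  have hpg : IsPGroup p (D ⧸ C.subgroupOf D) := by
    intro x
    induction x using QuotientGroup.induction_on with
    | H d =>
    obtain ⟨k, hk⟩ := hD3 d d.2
    refine ⟨k, ?_⟩
    rw [← QuotientGroup.mk_pow, QuotientGroup.eq_one_iff, mem_subgroupOf]
    simpa using hk
  obtain ⟨k, hk⟩ := (IsPGroup.iff_card).1 hpg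
  refine ⟨k, ?_⟩
  rw [← hk, relIndex, index_eq_card]

end Cfsg.Agent.Lib.Helper15.QuadPStable
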