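import Mathlib

set_option autoImplicit false

namespace Cfsg.Agent.Lib.Helper15

variable {G : Type*} [Group G]

/-- `P` is (the image in `G` of) a Sylow `p`-subgroup of the subgroup `H`. -/
def IsSylowOf (p : ℕ) (H P : Subgroup G) : Prop :=
  ∃ S : Sylow p H, (S : Subgroup H).map H.subtype = P

theorem isSylowOf_iff_card [Finite G] {p : ℕ} [Fact p.Prime] (H P : Subgroup G) :
    IsSylowOf p H P ↔ P ≤ H ∧ Nat.card P = p ^ (Nat.card H).factorization p := by
  constructor
  · rintro ⟨S, rfl⟩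
    refine ⟨Subgroup.map_subtype_le _, ?_⟩
    rw [Subgroup.card_map_of_injective H.subtype_injective]
    exact S.card_eq_multiplicity
  · rintro ⟨hle, hcard⟩
    have hc : Nat.card (P.subgroupOf H) = p ^ (Nat.card H).factorization p := by
      rw [← hcard]
      exact Nat.card_congr (Subgroup.subgroupOfEquivOfLe hle).toEquiv
    refine ⟨Sylow.ofCard (P.subgroupOf H) hc, ?_⟩
    rw [Sylow.coe_ofCard]
    exact Subgroup.map_subgroupOf_eq_of_le hle

theorem IsSylowOf.le {p : ℕ} {H P : Subgroup G} (h : IsSylowOf p H P) : P ≤ H := by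
  obtain ⟨S, rfl⟩ := h
  exact Subgroup.map_subtype_le _

theorem IsSylowOf.isPGroup {p : ℕ} {H P : Subgroup G} (h : IsSylowOf p H P) : IsPGroup p P := by
  obtain ⟨S, rfl⟩ := h
  exact S.isPGroup'.map _

/-- A `p`-subgroup of `H` has order at most that of a Sylow `p`-subgroup of `H`. -/
theorem card_le_of_isPGroup_le [Finite G] {p : ℕ} [Fact p.Prime] (H Q : Subgroup G)
    (hQ : IsPGroup p Q) (hQH : Q ≤ H) : Nat.card Q ∣ p ^ (Nat.card H).factorization p := by
  obtain ⟨n, hn⟩ := IsPGroup.iff_card.mp hQ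
  rw [hn]
  apply pow_dvd_pow
  have hdvd : p ^ n ∣ Nat.card H := hn ▸ Subgroup.card_dvd_of_le hQH
  exact (Nat.Prime.pow_dvd_iff_le_factorization (Fact.out) Nat.card_pos.ne').mp hdvd

/-- Every `p`-subgroup of `H` lies in a Sylow `p`-subgroup of `H`. -/
theorem exists_isSylowOf_ge [Finite G] {p : ℕ} [Fact p.Prime] (H Q : Subgroup G)
    (hQ : IsPGroup p Q) (hQH : Q ≤ H) : ∃ P, IsSylowOf p H P ∧ Q ≤ P := by
  have hQ' : IsPGroup p (Q.subgroupOf H) := hQ.comap_subtype
  obtain ⟨S, hS⟩ := hQ'.exists_le_sylow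
  refine ⟨(S : Subgroup H).map H.subtype, ⟨S, rfl⟩, ?_⟩
  intro x hx
  exact ⟨⟨x, hQH hx⟩, hS (by rw [Subgroup.mem_subgroupOf]; exact hx), rfl⟩

/-- Sylow's second theorem inside a subgroup. -/
theorem IsSylowOf.exists_conj [Finite G] {p : ℕ} [Fact p.Prime] {H P P' : Subgroup G}
    (h : IsSylowOf p H P) (h' : IsSylowOf p H P') :
    ∃ u ∈ H, P' = P.map (MulAut.conj u : G →* G) := by
  obtain ⟨S, rfl⟩ := h
  obtain ⟨S', rfl⟩ := h'
  obtain ⟨u, hu⟩ := MulAction.exists_smul_eq H S S'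
  refine ⟨u, u.2, ?_⟩
  rw [← hu, Sylow.coe_subgroup_smul]
  ext x
  constructor
  · rintro ⟨y, hy, rfl⟩
    rw [SetLike.mem_coe, Subgroup.mem_pointwise_smul_iff_inv_smul_mem] at hy
    have e : (MulAut.conj u)⁻¹ • y = u⁻¹ * y * u := by simp [MulAut.smul_def, mul_assoc]
    rw [e] at hy
    refine ⟨((u⁻¹ * y * u : H) : G), ⟨u⁻¹ * y * u, hy, rfl⟩, ?_⟩
    simp [mul_assoc]
  · rintro ⟨_, ⟨y, hy, rfl⟩, rfl⟩
    refine ⟨u * y * u⁻¹, ?_, by simp⟩
    rw [SetLike.mem_coe, Subgroup.mem_pointwise_smul_iff_inv_smul_mem]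
    have e : (MulAut.conj u)⁻¹ • (u * y * u⁻¹) = y := by simp [MulAut.smul_def, mul_assoc]
    rw [e]; exact hy

/-- Conjugates of Sylow subgroups are Sylow subgroups of the conjugate. -/
theorem IsSylowOf.map_conj [Finite G] {p : ℕ} [Fact p.Prime] {H P : Subgroup G}
    (h : IsSylowOf p H P) (g : G) :
    IsSylowOf p (H.map (MulAut.conj g : G →* G)) (P.map (MulAut.conj g : G →* G)) := by
  rw [isSylowOf_iff_card] at h ⊢
  refine ⟨Subgroup.map_mono h.1, ?_⟩
  rw [Subgroup.card_map_of_injective (MulAut.conj g).injective,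
    Subgroup.card_map_of_injective (MulAut.conj g).injective]
  exact h.2

/-- In a finite `p`-group normalizers grow (subgroup form). -/
theorem lt_inf_normalizer_of_lt [Finite G] {p : ℕ} [Fact p.Prime] (Q P : Subgroup G)
    (hQ : IsPGroup p Q) (hlt : P < Q) : P < Q ⊓ Subgroup.normalizer (P : Set G) := by
  refine lt_of_le_of_ne (le_inf hlt.le Subgroup.le_normalizer) ?_
  intro heq
  haveI : Group.IsNilpotent ↥Q := hQ.isNilpotent
  have hnc := Group.normalizerCondition_of_isNilpotent (G := ↥Q)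
  have hlt' : P.subgroupOf Q < ⊤ := by
    rw [lt_top_iff_ne_top]
    intro h
    rw [Subgroup.subgroupOf_eq_top] at h
    exact absurd h (not_le_of_gt hlt)
  obtain ⟨-, hne⟩ := hnc _ hlt'
  apply hne
  intro x hx
  rw [Subgroup.mem_subgroupOf]
  have hxn : (x : G) ∈ Subgroup.normalizer (P : Set G) := by
    rw [Subgroup.mem_normalizer_iff] at hx ⊢
    intro y
    constructor
    · intro hy
      have := (hx ⟨y, hlt.le hy⟩).mp (by rw [Subgroup.mem_subgroupOf]; exact hy)
      simpa [Subgroup.mem_subgroupOf] using this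
    · intro hy
      have hyQ : y ∈ Q := by
        have h1 : (x : G)⁻¹ * ((x : G) * y * (x : G)⁻¹) * (x : G) ∈ Q :=
          Q.mul_mem (Q.mul_mem (Q.inv_mem x.2) (hlt.le hy)) x.2
        simpa [mul_assoc] using h1
      have := (hx ⟨y, hyQ⟩).mpr (by simpa [Subgroup.mem_subgroupOf] using hy)
      simpa [Subgroup.mem_subgroupOf] using this
  have : (x : G) ∈ Q ⊓ Subgroup.normalizer (P : Set G) := ⟨x.2, hxn⟩
  rw [← heq] at this
  exact this

end Cfsg.Agent.Lib.Helper15
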