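import Mathlib
import Cfsg.Agent.Lib.Helper15.SCD1

/-!
Control of strong fusion in sections by `N(W(D))`, `D` strongly closed (helper15).
Part 2: the two reductions for a group with `O_p(X) ≠ 1` which is not `p`-constrained.
-/

set_option autoImplicit false
set_option linter.unusedSectionVars false
open Cfsg

universe u

namespace Cfsg.Agent.Lib.Helper15.SCD

open Cfsg.Agent.Lib.Helper29 Cfsg.Agent.Lib.Helper1 Cfsg.Agent.Lib.Helper16
open Cfsg.Agent.Lib.Lead.FunctorNPC Cfsg.Agent.Lib.Lead.FunctorNPCD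
open Cfsg.Agent.Lib.Helper11.SFS (inj_on_of_coprime not_dvd_relIndex_sylow cj_closure_le stab_claim)

variable {p : ℕ} [Fact p.Prime] {W : ∀ (H : Type u) [Group H], Subgroup H → Subgroup H}

/-- the case `C_X(Q) S ≠ X` -/
theorem case_proper (hW : IsGoodFunctor p W) {X : Type u} [Group X] [Finite X]
    (S : Sylow p X) (D : Subgroup X) (hD : Cfsg.IsStronglyClosed D (S : Subgroup X))
    (IHsub : ∀ H : Subgroup X, H ≠ ⊤ → CtlD p W ↥H)
    (hSC : ¬ (S : Subgroup X) ⊓ Subgroup.centralizer ((Cfsg.pCore p X : Subgroup X) : Set X) ≤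
      Cfsg.pCore p X)
    (hG₂ : Subgroup.centralizer ((Cfsg.pCore p X : Subgroup X) : Set X) ⊔ (S : Subgroup X) ≠ ⊤) :
    CtlAtD W X (S : Subgroup X) D := by
  classical
  set Q : Subgroup X := Cfsg.pCore p X with hQ
  haveI hQn : Q.Normal := pCore_normal p X
  have hQp : IsPGroup p Q := pCore_isPGroup p X
  have hQS : Q ≤ (S : Subgroup X) := pCore_le_sylow S
  set C : Subgroup X := Subgroup.centralizer (Q : Set X) with hC
  haveI hCn : C.Normal := Subgroup.normal_centralizer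
  set H : Subgroup X := Q ⊔ C with hH
  haveI hHn : H.Normal := Subgroup.sup_normal Q C
  set R : Subgroup X := (S : Subgroup X) ⊓ H with hR
  have hQR : Q ≤ R := le_inf hQS le_sup_left
  have hRS : R ≤ (S : Subgroup X) := inf_le_left
  have hRp : IsPGroup p R := S.isPGroup'.to_le hRS
  have hRne : ¬ R ≤ Q := by
    intro hle
    apply hSC
    exact (inf_le_inf_left _ (le_sup_right : C ≤ H)).trans hle
  set M : Subgroup X := Subgroup.normalizer (R : Set X) with hM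
  have hMne : M ≠ ⊤ := by
    intro htop
    have hRn : R.Normal := Subgroup.normalizer_eq_top_iff.mp htop
    exact hRne (le_pCore hRn hRp)
  have hSM : (S : Subgroup X) ≤ M := by
    intro s hs
    apply mem_normalizer_of_cj_eq
    rw [hR, cj_inf, cj_normal H s]
    congr 1
    exact cj_eq_of_mem_normalizer (Subgroup.le_normalizer hs)
  set G₂ : Subgroup X := C ⊔ (S : Subgroup X) with hG₂def
  have hSG₂ : (S : Subgroup X) ≤ G₂ := le_sup_right
  have ctl₂ := ctl_sub_at hW S D hD G₂ hSG₂ (IHsub G₂ hG₂)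
  have ctlM := ctl_sub_at hW S D hD M hSM (IHsub M hMne)
  intro A g hA hAg
  -- Frattini decomposition g = m * c
  obtain ⟨m₀, hm₀, h', hh', hg⟩ := frattini_decomp S H g
  rw [hH, Subgroup.mem_sup_of_normal_right] at hh'
  obtain ⟨q, hq, c, hc, rfl⟩ := hh'
  set m : X := m₀ * q with hm
  have hmM : m ∈ M := M.mul_mem hm₀ (Subgroup.le_normalizer (hQR hq))
  have hg' : g = m * c := by rw [hg, hm]; group
  -- the p-subgroup P₁
  set P₁ : Subgroup X := Subgroup.closure ((fun a => c * a * c⁻¹) '' A) ⊔ R with hP₁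
  have hP₁le : P₁ ≤ cj m⁻¹ (S : Subgroup X) := by
    rw [hP₁]
    apply sup_le
    · rw [Subgroup.closure_le]
      rintro _ ⟨a, ha, rfl⟩
      rw [SetLike.mem_coe, mem_cj]
      have := hAg a ha
      rw [hg'] at this
      have e : m⁻¹⁻¹ * (c * a * c⁻¹) * m⁻¹ = m * c * a * (m * c)⁻¹ := by group
      rw [e]; exact this
    · intro r hr
      rw [mem_cj]
      have := (Subgroup.mem_normalizer_iff.mp hmM r).mp hr
      have e : m⁻¹⁻¹ * r * m⁻¹ = m * r * m⁻¹ := by group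
      rw [e]; exact hRS this
  have hP₁p : IsPGroup p P₁ := (isPGroup_cj S.isPGroup').to_le hP₁le
  have hP₁G₂ : P₁ ≤ G₂ := by
    rw [hP₁]
    apply sup_le
    · rw [Subgroup.closure_le]
      rintro _ ⟨a, ha, rfl⟩
      have hcG : c ∈ G₂ := (le_sup_left : C ≤ G₂) hc
      exact G₂.mul_mem (G₂.mul_mem hcG (hSG₂ (hA ha))) (G₂.inv_mem hcG)
    · exact hRS.trans hSG₂
  have hsyl : IsSylowSub p (S : Subgroup X) G₂ :=
    isSylowSub_of_not_dvd_relIndex hSG₂ S.isPGroup' (not_dvd_relIndex_sylow S hSG₂)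
  obtain ⟨u, huG₂, hu⟩ := exists_cj_le_of_isSylowSub hsyl hP₁G₂ hP₁p
  have huM : u ∈ M := by
    apply mem_normalizer_of_cj_eq
    apply Subgroup.eq_of_le_of_card_ge
    · rw [hR]
      apply le_inf
      · exact (cj_mono (le_sup_right : R ≤ P₁)).trans hu
      · have := cj_mono (g := u) (inf_le_right : R ≤ H)
        rwa [cj_normal H u] at this
    · rw [card_cj]
  -- first step : u * c ∈ G₂
  have hucG₂ : u * c ∈ G₂ := G₂.mul_mem huG₂ ((le_sup_left : C ≤ G₂) hc)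
  have huc : ∀ a ∈ A, (u * c) * a * (u * c)⁻¹ ∈ (S : Subgroup X) := by
    intro a ha
    have h1 : c * a * c⁻¹ ∈ P₁ :=
      (le_sup_left : Subgroup.closure ((fun a => c * a * c⁻¹) '' A) ≤ P₁)
        (Subgroup.subset_closure ⟨a, ha, rfl⟩)
    have h2 := hu (conj_mem_cj (g := u) h1)
    have e : u * c * a * (u * c)⁻¹ = u * (c * a * c⁻¹) * u⁻¹ := by group
    rw [e]; exact h2
  obtain ⟨n₂, hn₂, hn₂a⟩ := ctl₂ A (u * c) hucG₂ hA huc
  -- second step : m * u⁻¹ ∈ M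
  set A₁ : Set X := (fun a => (u * c) * a * (u * c)⁻¹) '' A with hA₁
  have hA₁S : A₁ ⊆ ((S : Subgroup X) : Set X) := by
    rintro _ ⟨a, ha, rfl⟩
    exact huc a ha
  have hmuM : m * u⁻¹ ∈ M := M.mul_mem hmM (M.inv_mem huM)
  have hmu : ∀ a₁ ∈ A₁, (m * u⁻¹) * a₁ * (m * u⁻¹)⁻¹ ∈ (S : Subgroup X) := by
    rintro _ ⟨a, ha, rfl⟩
    have e : m * u⁻¹ * (u * c * a * (u * c)⁻¹) * (m * u⁻¹)⁻¹ = (m * c) * a * (m * c)⁻¹ := by group
    rw [e, ← hg']
    exact hAg a ha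
  obtain ⟨n₃, hn₃, hn₃a⟩ := ctlM A₁ (m * u⁻¹) hmuM hA₁S hmu
  refine ⟨n₃ * n₂, Subgroup.mul_mem _ hn₃.2 hn₂.2, ?_⟩
  intro a ha
  have h1 := hn₂a a ha
  have h2 := hn₃a _ ⟨a, ha, rfl⟩
  calc g * a * g⁻¹ = m * u⁻¹ * (u * c * a * (u * c)⁻¹) * (m * u⁻¹)⁻¹ := by rw [hg']; group
    _ = n₃ * (u * c * a * (u * c)⁻¹) * n₃⁻¹ := h2
    _ = n₃ * (n₂ * a * n₂⁻¹) * n₃⁻¹ := by rw [h1]
    _ = n₃ * n₂ * a * (n₃ * n₂)⁻¹ := by group

/-- the case `C_X(Q) S = X` -/
theorem case_full (hW : IsGoodFunctor p W) {X : Type u} [Group X] [Finite X]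
    (S : Sylow p X) (D : Subgroup X) (hD : Cfsg.IsStronglyClosed D (S : Subgroup X))
    (hDQ : ¬ D ≤ Cfsg.pCore p X)
    (IHsub : ∀ H : Subgroup X, H ≠ ⊤ → CtlD p W ↥H)
    (IHquot : CtlD p W (X ⧸ Cfsg.pCore p X))
    (hCS : Subgroup.centralizer ((Cfsg.pCore p X : Subgroup X) : Set X) ⊔ (S : Subgroup X) = ⊤) :
    CtlAtD W X (S : Subgroup X) D := by
  classical
  set Q : Subgroup X := Cfsg.pCore p X with hQ
  haveI hQn : Q.Normal := pCore_normal p X
  have hQp : IsPGroup p Q := pCore_isPGroup p X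
  have hQS : Q ≤ (S : Subgroup X) := pCore_le_sylow S
  set π := QuotientGroup.mk' Q with hπ
  have hsurj : Function.Surjective π := QuotientGroup.mk'_surjective Q
  set Sb : Subgroup (X ⧸ Q) := (S : Subgroup X).map π with hSb
  have hSbp : IsPGroup p Sb := S.isPGroup'.map π
  set Db : Subgroup (X ⧸ Q) := D.map π with hDb
  have hscb : Cfsg.IsStronglyClosed Db Sb := sc_quot_p hD hQS
  have hDbp : IsPGroup p Db := hSbp.to_le hscb.1
  set Wb : Subgroup (X ⧸ Q) := W (X ⧸ Q) Db with hWb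
  have hDbne : Db ≠ ⊥ := by
    intro hbot
    apply hDQ
    intro s hs
    have : π s ∈ Db := ⟨s, hs, rfl⟩
    rw [hbot, Subgroup.mem_bot] at this
    rw [← QuotientGroup.ker_mk' Q, MonoidHom.mem_ker]
    exact this
  have hWbne : Wb ≠ ⊥ := hW.ne_bot (X ⧸ Q) Db hDbp hDbne
  have hWbp : IsPGroup p Wb := hDbp.to_le (hW.le (X ⧸ Q) Db)
  set P : Subgroup X := Wb.comap π with hP
  have hPp : IsPGroup p P := by
    apply IsPGroup.comap_of_ker_isPGroup hWbp
    rw [QuotientGroup.ker_mk']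
    exact hQp
  set M₂ : Subgroup X := Subgroup.normalizer (P : Set X) with hM₂
  have hM₂ne : M₂ ≠ ⊤ := by
    intro htop
    have hPn : P.Normal := Subgroup.normalizer_eq_top_iff.mp htop
    have hPQ : P ≤ Q := le_pCore hPn hPp
    apply hWbne
    rw [eq_bot_iff]
    intro w hw
    obtain ⟨x, rfl⟩ := hsurj w
    have hxP : x ∈ P := hw
    have hxQ : x ∈ Q := hPQ hxP
    rw [Subgroup.mem_bot]
    rw [← MonoidHom.mem_ker, QuotientGroup.ker_mk']
    exact hxQ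
  have hcomapN : ∀ x : X, π x ∈ Subgroup.normalizer (Wb : Set (X ⧸ Q)) → x ∈ M₂ := by
    intro x hx
    exact Subgroup.le_normalizer_comap π hx
  have hSM₂ : (S : Subgroup X) ≤ M₂ := by
    intro s hs
    apply hcomapN
    exact sylow_le_normalizer_W hW hscb ⟨s, hs, rfl⟩
  have ctlM₂ := ctl_sub_at hW S D hD M₂ hSM₂ (IHsub M₂ hM₂ne)
  have ctlQ := quot_ctl (W := W) Q S hQS D hD IHquot
  have hSN : (S : Subgroup X) ≤ Subgroup.normalizer ((W X D : Subgroup X) : Set X) :=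
    sylow_le_normalizer_W hW hD
  -- Claim 1 : tame targets
  have claim1 : ∀ B : Subgroup X, Q ≤ B → B ≤ (S : Subgroup X) → ∀ g : X,
      cj g B ≤ (S : Subgroup X) →
      ¬ p ∣ ((S : Subgroup X) ⊓ Subgroup.normalizer ((cj g B : Subgroup X) : Set X)).relIndex
        (Subgroup.normalizer ((cj g B : Subgroup X) : Set X)) →
      ∃ x ∈ Subgroup.normalizer ((W X D : Subgroup X) : Set X),
        ∀ b ∈ B, g * b * g⁻¹ = x * b * x⁻¹ := by
    intro B hQB hBS g hgB htame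
    have hgb : ∀ b ∈ (B : Set X), g * b * g⁻¹ ∈ (S : Subgroup X) :=
      fun b hb => hgB (conj_mem_cj hb)
    obtain ⟨n, hnN, hnb⟩ := ctlQ (B : Set X) g hBS hgb
    have hnM₂ : n ∈ M₂ := hcomapN n hnN
    -- Q ≤ cj g B
    have hQgB : Q ≤ cj g B := by
      intro q hq
      rw [mem_cj]
      exact hQB (by simpa using hQn.conj_mem q hq g⁻¹)
    have hdiff : ∀ b ∈ B, (g * b * g⁻¹) * (n * b * n⁻¹)⁻¹ ∈ Q := by
      intro b hb
      rw [← QuotientGroup.ker_mk' Q, MonoidHom.mem_ker]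
      show π ((g * b * g⁻¹) * (n * b * n⁻¹)⁻¹) = 1
      rw [map_mul, map_inv, hnb b hb, mul_inv_cancel]
    have hcjeq : cj n B = cj g B := by
      apply Subgroup.eq_of_le_of_card_ge
      · rintro _ ⟨b, hb, rfl⟩
        show n * b * n⁻¹ ∈ cj g B
        have h1 : g * b * g⁻¹ ∈ cj g B := conj_mem_cj hb
        have h2 := hQgB (hdiff b hb)
        have e : n * b * n⁻¹ = ((g * b * g⁻¹) * (n * b * n⁻¹)⁻¹)⁻¹ * (g * b * g⁻¹) := by group
        rw [e]
        exact Subgroup.mul_mem _ (Subgroup.inv_mem _ h2) h1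
      · rw [card_cj, card_cj]
    have hnb' : ∀ b ∈ (B : Set X), n * b * n⁻¹ ∈ (S : Subgroup X) := by
      intro b hb
      apply hgB
      rw [← hcjeq]
      exact conj_mem_cj hb
    obtain ⟨n₂, hn₂, hn₂b⟩ := ctlM₂ (B : Set X) n hnM₂ hBS hnb'
    have hhN : g * n⁻¹ ∈ Subgroup.normalizer ((cj g B : Subgroup X) : Set X) := by
      apply mem_normalizer_of_cj_eq
      rw [← cj_cj, ← hcjeq, cj_inv_cj, hcjeq]
    have hstab : ∀ b' ∈ cj g B, (g * n⁻¹) * b' * (g * n⁻¹)⁻¹ * b'⁻¹ ∈ Q := by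
      intro b' hb'
      rw [← hcjeq] at hb'
      obtain ⟨b, hb, rfl⟩ := hb'
      have := hdiff b hb
      have e : (g * n⁻¹) * ((MulAut.conj n).toMonoidHom b) * (g * n⁻¹)⁻¹ *
          ((MulAut.conj n).toMonoidHom b)⁻¹ = (g * b * g⁻¹) * (n * b * n⁻¹)⁻¹ := by
        simp only [MulEquiv.coe_toMonoidHom, MulAut.conj_apply]
        group
      rw [e]; exact this
    obtain ⟨s, hs, hsb⟩ := stab_claim S Q hQp hCS (cj g B) hgB htame (g * n⁻¹) hhN hstab
    refine ⟨s * n₂, Subgroup.mul_mem _ (hSN hs) hn₂.2, ?_⟩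
    intro b hb
    have h1 := hn₂b b hb
    have hnbB' : n * b * n⁻¹ ∈ cj g B := by
      rw [← hcjeq]; exact conj_mem_cj hb
    have h2 := hsb _ hnbB'
    calc g * b * g⁻¹ = (g * n⁻¹) * (n * b * n⁻¹) * (g * n⁻¹)⁻¹ := by group
      _ = s * (n * b * n⁻¹) * s⁻¹ := h2
      _ = s * (n₂ * b * n₂⁻¹) * s⁻¹ := by rw [h1]
      _ = s * n₂ * b * (s * n₂)⁻¹ := by group
  -- Claim 2 : general targets
  have claim2 : ∀ B : Subgroup X, Q ≤ B → B ≤ (S : Subgroup X) → ∀ g : X,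
      cj g B ≤ (S : Subgroup X) →
      ∃ x ∈ Subgroup.normalizer ((W X D : Subgroup X) : Set X),
        ∀ b ∈ B, g * b * g⁻¹ = x * b * x⁻¹ := by
    intro B hQB hBS g hgB
    set B' : Subgroup X := cj g B with hB'
    have hB'p : IsPGroup p B' := S.isPGroup'.to_le hgB
    obtain ⟨t, htS, htsyl⟩ := exists_cj_sylCond S B' B' Subgroup.le_normalizer hB'p
    rw [sylCond_iff] at htsyl
    have hQB' : Q ≤ B' := by
      intro q hq
      rw [hB', mem_cj]
      exact hQB (by simpa using hQn.conj_mem q hq g⁻¹)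
    have e1 : cj (t * g) B = cj t B' := (cj_cj t g B).symm
    obtain ⟨x₁, hx₁, hx₁b⟩ := claim1 B hQB hBS (t * g) (by rw [e1]; exact htS)
      (by rw [e1]; exact htsyl)
    obtain ⟨x₂, hx₂, hx₂b⟩ := claim1 B' hQB' hgB t htS htsyl
    refine ⟨x₂⁻¹ * x₁, Subgroup.mul_mem _ (Subgroup.inv_mem _ hx₂) hx₁, ?_⟩
    intro b hb
    have h1 := hx₁b b hb
    have h2 := hx₂b (g * b * g⁻¹) (conj_mem_cj hb)
    have e2 : t * g * b * (t * g)⁻¹ = t * (g * b * g⁻¹) * t⁻¹ := by group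
    rw [e2, h2] at h1
    calc g * b * g⁻¹ = x₂⁻¹ * (x₂ * (g * b * g⁻¹) * x₂⁻¹) * x₂ := by group
      _ = x₂⁻¹ * (x₁ * b * x₁⁻¹) * x₂ := by rw [h1]
      _ = x₂⁻¹ * x₁ * b * (x₂⁻¹ * x₁)⁻¹ := by group
  -- conclusion
  intro A g hA hAg
  set B : Subgroup X := Subgroup.closure A ⊔ Q with hB
  have hBS : B ≤ (S : Subgroup X) := sup_le ((Subgroup.closure_le _).mpr hA) hQS
  have hgB : cj g B ≤ (S : Subgroup X) := by
    rw [hB, cj_sup]
    apply sup_le
    · exact cj_closure_le g A _ hAg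
    · rw [cj_normal Q g]; exact hQS
  obtain ⟨x, hx, hxb⟩ := claim2 B le_sup_right hBS g hgB
  exact ⟨x, hx, fun a ha => hxb a ((le_sup_left : Subgroup.closure A ≤ B) (Subgroup.subset_closure ha))⟩

end Cfsg.Agent.Lib.Helper15.SCD
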