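import Mathlib
import Cfsg.Agent.Lib.Helper15.SCD2

/-!
Control of strong fusion in sections by `N(W(D))`, `D` strongly closed (helper15).
Part 3: the case `O_p(X) = 1` (local to global) and the main induction.
-/

set_option autoImplicit false
set_option linter.unusedSectionVars false
open Cfsg

universe u

namespace Cfsg.Agent.Lib.Helper15.SCD

open Cfsg.Agent.Lib.Helper29 Cfsg.Agent.Lib.Helper1 Cfsg.Agent.Lib.Helper16
open Cfsg.Agent.Lib.Lead.FunctorNPC Cfsg.Agent.Lib.Lead.FunctorNPCD
open Cfsg.Agent.Lib.Helper11.SFS (centralizer_le_of_inf_le card_quotient_lt)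
open Cfsg.Agent.Lib.Helper11.SCF (NormalD wD wD_conjFunctor wD_of_le)
open Cfsg.Agent.S2005 (IsSec)

variable {p : ℕ} [Fact p.Prime] {W : ∀ (H : Type u) [Group H], Subgroup H → Subgroup H}

/-- every section is `p`-stable in the normalizer form -/
def SecNPS (p : ℕ) (X : Type u) [Group X] : Prop :=
  ∀ (Y : Type u) [Group Y] [Finite Y], IsSec Y X → Cfsg.IsNormalizerPStable p Y

theorem SecNPS.subgroup {X : Type u} [Group X] (h : SecNPS p X) (H : Subgroup X) :
    SecNPS p H := fun Y _ _ hY => h Y (IsSec.of_subgroup H hY)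

theorem SecNPS.quotient {X : Type u} [Group X] (h : SecNPS p X) (N : Subgroup X) [N.Normal] :
    SecNPS p (X ⧸ N) := fun Y _ _ hY => h Y (IsSec.of_quotient N hY)

/-- the case `O_p(X) = 1`: local to global through well-placed subgroups -/
theorem case_local (hW : IsGoodFunctor p W) {X : Type u} [Group X] [Finite X]
    (S : Sylow p X) (D : Subgroup X) (hD : Cfsg.IsStronglyClosed D (S : Subgroup X))
    (hD0 : D ≠ ⊥)
    (IHsub : ∀ H : Subgroup X, H ≠ ⊤ → CtlD p W ↥H) (hQbot : Cfsg.pCore p X = ⊥) :
    CtlAtD W X (S : Subgroup X) D := by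
  classical
  have hconj := wD_conjFunctor (p := p) hW D
  have hloc : ∀ T : Subgroup X, T ≠ ⊥ → Cfsg.IsWellPlaced p (wD W D) (S : Subgroup X) T →
      Cfsg.ControlsStrongFusionIn p (wD W D) (Subgroup.normalizer ((T : Subgroup X) : Set X)) := by
    intro T hTne hwp
    set H : Subgroup X := Subgroup.normalizer (T : Set X) with hH
    have hne : H ≠ ⊤ := by
      intro htop
      have hTn : T.Normal := Subgroup.normalizer_eq_top_iff.mp htop
      have hTp : IsPGroup p T := S.isPGroup'.to_le hwp.1
      have := le_pCore hTn hTp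
      rw [hQbot] at this
      exact hTne (le_bot_iff.mp this)
    have htame : ¬ p ∣ ((S : Subgroup X) ⊓ H).relIndex H := hwp.2 0
    set PT : Subgroup X := (S : Subgroup X) ⊓ H with hPT
    have hPTS : PT ≤ (S : Subgroup X) := inf_le_left
    have hPTH : PT ≤ H := inf_le_right
    have hPTp : IsPGroup p PT := S.isPGroup'.to_le hPTS
    obtain ⟨E, hEPT, hEsc, hwE, -⟩ := wD_of_le W hD hPTS
    refine ⟨PT, hPTH, hPTp, htame, ?_⟩
    intro A h hh hA hAh
    obtain ⟨x, hx, hxa⟩ := ctl_sub_gen hW H PT E hPTH hPTp htame hEsc (IHsub H hne) A h hh hA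
      (fun a ha => hAh ⟨a, ha, rfl⟩)
    refine ⟨x, ?_, fun a ha => (hxa a ha).symm⟩
    rw [hwE]
    exact hx
  have htop := controls_strong_fusion_of_local S (wD W D) hconj hloc
  intro A g hA hAg
  have hAg' : (fun a => g * a * g⁻¹) '' A ⊆ ((S : Subgroup X) : Set X) := by
    rintro _ ⟨a, ha, rfl⟩
    exact hAg a ha
  obtain ⟨x, hx, hxa⟩ := controls_transport (wD W D) hconj ⊤ (S : Subgroup X) le_top S.isPGroup'
    (by rw [Subgroup.relIndex_top_right]; exact S.not_dvd_index) htop A g (Subgroup.mem_top g)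
    hA hAg'
  obtain ⟨E, -, -, hwE, hE⟩ := wD_of_le W hD (le_refl (S : Subgroup X))
  have hSD : (S : Subgroup X) ⊓ D = D := inf_eq_right.mpr hD.1
  have hE' : E = D := by
    rw [← hSD]
    exact hE (by rw [hSD]; exact hD0)
  rw [hwE, hE'] at hx
  exact ⟨x, hx.2, fun a ha => (hxa a ha).symm⟩

/-- trivial control when `W(D)` is normal -/
theorem ctlAtD_of_normal {X : Type u} [Group X] (S D : Subgroup X) (hn : (W X D).Normal) :
    CtlAtD W X S D := by
  intro A g _ _
  refine ⟨g, ?_, fun a _ => rfl⟩
  rw [Subgroup.normalizer_eq_top_iff.mpr hn]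
  exact Subgroup.mem_top g

/-- the main theorem -/
theorem main (hW : IsGoodFunctor p W) (hWn : NormalD p W) :
    ∀ (n : ℕ) (X : Type u) [Group X] [Finite X], Nat.card X ≤ n → SecNPS p X → CtlD p W X := by
  intro n
  induction n with
  | zero =>
    intro X _ _ hcard
    have : 0 < Nat.card X := Nat.card_pos
    omega
  | succ n ih =>
    intro X _ _ hcard hsec
    classical
    have IHsub : ∀ H : Subgroup X, H ≠ ⊤ → CtlD p W ↥H := by
      intro H hH
      apply ih ↥H _ (hsec.subgroup H)
      have := Cfsg.Agent.Lib.Helper20.card_lt_of_lt_top (lt_top_iff_ne_top.mpr hH)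
      omega
    have IHquot : ∀ (N : Subgroup X) [N.Normal], N ≠ ⊥ → CtlD p W (X ⧸ N) := by
      intro N _ hN
      apply ih (X ⧸ N) _ (hsec.quotient N)
      have := card_quotient_lt N hN
      omega
    intro S D hD
    set Q : Subgroup X := Cfsg.pCore p X with hQ
    haveI hQn : Q.Normal := pCore_normal p X
    have hQp : IsPGroup p Q := pCore_isPGroup p X
    have hQS : Q ≤ (S : Subgroup X) := pCore_le_sylow S
    by_cases hD0 : D = ⊥
    · apply ctlAtD_of_normal
      have h1 : W X D = ⊥ := by
        have := hW.le X D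
        rw [hD0] at this ⊢
        exact le_bot_iff.mp this
      rw [h1]
      exact Subgroup.normal_bot
    by_cases hQbot : Q = ⊥
    · exact case_local hW S D hD hD0 IHsub hQbot
    by_cases hDQ : D ≤ Q
    · -- `D` is normal
      have hDn : D.Normal := by
        constructor
        intro d hd g
        exact hD.2 d hd g (hQS (hQn.conj_mem d (hDQ hd) g))
      apply ctlAtD_of_normal
      have h1 : Subgroup.normalizer ((W X D : Subgroup X) : Set X) = ⊤ := by
        rw [eq_top_iff]
        exact (Subgroup.normalizer_eq_top_iff.mpr hDn).symm.le.trans (hW.normalizer_le D)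
      exact Subgroup.normalizer_eq_top_iff.mp h1
    by_cases hcon : Subgroup.centralizer ((Q : Subgroup X) : Set X) ≤ Q
    · -- constrained case
      apply ctlAtD_of_normal
      have hnps : Cfsg.IsNormalizerPStable p X := hsec X (IsSec.refl X)
      exact hWn X hcon
        (fun V _ hVp => Cfsg.Agent.Lib.Lead.GlaubermanZJD.isPStableOn_of_normalizerPStable hnps V hVp)
        S D hD
    · by_cases hK : Cfsg.pPrimeCore p X = ⊥
      · have hSC : ¬ (S : Subgroup X) ⊓ Subgroup.centralizer ((Q : Subgroup X) : Set X) ≤ Q :=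
          fun hle => hcon (centralizer_le_of_inf_le S hK hle)
        by_cases hCS : Subgroup.centralizer ((Q : Subgroup X) : Set X) ⊔ (S : Subgroup X) = ⊤
        · exact case_full hW S D hD hDQ IHsub (IHquot Q hQbot) hCS
        · exact case_proper hW S D hD IHsub hSC hCS
      · haveI : (Cfsg.pPrimeCore p X).Normal := Cfsg.Agent.Lib.Helper2.pPrimeCore_normal p
        exact lift_pprime hW (Cfsg.pPrimeCore p X) (Cfsg.Agent.Lib.Helper2.pPrimeCore_coprime p) S
          D hD (IHquot _ hK)

end Cfsg.Agent.Lib.Helper15.SCD
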