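import Mathlib
import Cfsg.Agent.Lib.Helper15.SCD3
import Cfsg.Agent.Lib.Helper1.QdConverseAssembly
import Cfsg.Agent.S3080

/-!
Control of strong fusion by `N(Z(J(D)))` and `N(Ω₁Z(J_e(D)))`, `D` strongly closed, in groups all
of whose sections are `p`-stable (helper15): the statement S3081 from the hub input `QdFreeNPS`.
-/

set_option autoImplicit false
open Cfsg

universe u

namespace Cfsg.Agent.Lib.Helper15.SCD

open Cfsg.Agent.Lib.Lead.FunctorNPC Cfsg.Agent.Lib.Lead.ZJFunctor Cfsg.Agent.Lib.Lead.ZJFunctorD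
open Cfsg.Agent.Lib.Lead.GlaubermanZJD Cfsg.Agent.Lib.Lead.GlaubermanZJ
open Cfsg.Agent.S2005 (IsSec)

/-- all sections `p`-stable ⇒ `N(Z(J(D)))` and `N(Ω₁Z(J_e(D)))` control strong fusion -/
theorem controls_of_sections_nps {G : Type u} [Group G] [Finite G] {p : ℕ} [Fact p.Prime]
    (hp : p ≠ 2) (P : Sylow p G) (D : Subgroup G)
    (hD : Cfsg.IsStronglyClosed D (P : Subgroup G))
    (hst : ∀ (K R : Subgroup G) [_hR : (R.subgroupOf K).Normal],
      Cfsg.IsNormalizerPStable p (↥K ⧸ R.subgroupOf K)) :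
    (∀ A : Set G, A ⊆ (P : Subgroup G) → Cfsg.ControlsStrongFusionOf
      (Subgroup.normalizer ((Cfsg.centerThompsonAOf D) : Set G)) (P : Subgroup G) A) ∧
    (∀ A : Set G, A ⊆ (P : Subgroup G) → Cfsg.ControlsStrongFusionOf
      (Subgroup.normalizer ((Cfsg.omegaOne p (Cfsg.centerThompsonOf p D)) : Set G))
      (P : Subgroup G) A) := by
  have hsec : SecNPS p G := fun Y _ _ hY => Cfsg.Agent.Lib.Helper11.NPSIso.nps_of_isSec hst Y hY
  constructor
  · intro A hA
    have := main (WZ_good p) (Cfsg.Agent.S3080.normalD_WZ hp) _ G le_rfl hsec P D hD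
    rw [centerThompsonAOf_eq]
    exact ⟨hA, fun g hg => this A g hA (fun a ha => hg ⟨a, ha, rfl⟩)⟩
  · intro A hA
    have := main (WEf_good p) (Cfsg.Agent.S3080.normalD_WEf hp) _ G le_rfl hsec P D hD
    rw [omegaOne_centerThompsonOf_eq]
    exact ⟨hA, fun g hg => this A g hA (fun a ha => hg ⟨a, ha, rfl⟩)⟩

/-- S3081 from the hub input -/
theorem s3081_of {p : ℕ} [Fact p.Prime] (h : Cfsg.Agent.Lib.Helper1.QdConv.QdFreeNPS.{u} p)
    (hp : p ≠ 2) {G : Type u} [Group G] [Finite G] (P : Sylow p G) (D : Subgroup G)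
    (hD : Cfsg.IsStronglyClosed D (P : Subgroup G)) (hqd : ¬ Cfsg.Involves ↥(Cfsg.qd p) G) :
    (∀ A : Set G, A ⊆ (P : Subgroup G) → Cfsg.ControlsStrongFusionOf
      (Subgroup.normalizer ((Cfsg.centerThompsonAOf D) : Set G)) (P : Subgroup G) A) ∧
    (∀ A : Set G, A ⊆ (P : Subgroup G) → Cfsg.ControlsStrongFusionOf
      (Subgroup.normalizer ((Cfsg.omegaOne p (Cfsg.centerThompsonOf p D)) : Set G))
      (P : Subgroup G) A) :=
  controls_of_sections_nps hp P D hD (h G hqd)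

end Cfsg.Agent.Lib.Helper15.SCD
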