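import Mathlib

set_option autoImplicit false

namespace Cfsg.Agent.Lib.Helper15

open scoped Pointwise

variable {G : Type*} [Group G]

theorem prodformula_aux1 (x y a b : G) (h : x * y = a * b) : x⁻¹ * a = y * b⁻¹ := by
  have : a = x * y * b⁻¹ := by rw [h]; group
  rw [this]; group

theorem prodformula_aux2 (x y a b : G) (h : x * y = a * b) : (x⁻¹ * a)⁻¹ * y = b := by
  have : (x⁻¹ * a)⁻¹ * y = a⁻¹ * (x * y) := by group
  rw [this, h]; group

/-- The product formula `|PQ| · |P ∩ Q| = |P| · |Q|`. -/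
theorem card_mul_set_mul_card_inf (P Q : Subgroup G) :
    Nat.card ↥((P : Set G) * (Q : Set G)) * Nat.card ↥(P ⊓ Q) = Nat.card P * Nat.card Q := by
  classical
  have hex : ∀ s : ↥((P : Set G) * (Q : Set G)), ∃ a b : G, a ∈ P ∧ b ∈ Q ∧ a * b = s.1 := by
    intro s
    obtain ⟨a, ha, b, hb, hab⟩ := Set.mem_mul.mp s.2
    exact ⟨a, b, ha, hb, hab⟩
  choose p₀ q₀ hp₀ hq₀ hpq using hex
  rw [← Nat.card_prod, ← Nat.card_prod]
  apply Nat.card_congr
  refine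
    { toFun := fun sz => (⟨p₀ sz.1 * sz.2.1, P.mul_mem (hp₀ _) sz.2.2.1⟩,
        ⟨sz.2.1⁻¹ * q₀ sz.1, Q.mul_mem (Q.inv_mem sz.2.2.2) (hq₀ _)⟩)
      invFun := fun ab => (⟨ab.1.1 * ab.2.1, Set.mul_mem_mul ab.1.2 ab.2.2⟩,
        ⟨(p₀ ⟨ab.1.1 * ab.2.1, Set.mul_mem_mul ab.1.2 ab.2.2⟩)⁻¹ * ab.1.1, ?_⟩)
      left_inv := ?_
      right_inv := ?_ }
  · refine ⟨P.mul_mem (P.inv_mem (hp₀ _)) ab.1.2, ?_⟩
    have h := hpq ⟨ab.1.1 * ab.2.1, Set.mul_mem_mul ab.1.2 ab.2.2⟩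
    rw [SetLike.mem_coe, prodformula_aux1 _ _ _ _ h]
    exact Q.mul_mem (hq₀ _) (Q.inv_mem ab.2.2)
  · rintro ⟨s, z⟩
    have key : ∀ s' : ↥((P : Set G) * (Q : Set G)), s' = s →
        (p₀ s')⁻¹ * (p₀ s * z.1) = z.1 := by
      rintro _ rfl; group
    apply Prod.ext
    · apply Subtype.ext
      show p₀ s * z.1 * (z.1⁻¹ * q₀ s) = s.1
      rw [← hpq s]; group
    · apply Subtype.ext
      apply key
      apply Subtype.ext
      show p₀ s * z.1 * (z.1⁻¹ * q₀ s) = s.1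
      rw [← hpq s]; group
  · rintro ⟨a, b⟩
    apply Prod.ext
    · apply Subtype.ext
      show p₀ _ * ((p₀ _)⁻¹ * a.1) = a.1
      group
    · apply Subtype.ext
      exact prodformula_aux2 _ _ _ _ (hpq ⟨a.1 * b.1, Set.mul_mem_mul a.2 b.2⟩)

/-- If `G = HK` then `|G| · |H ∩ K| = |H| · |K|`. -/
theorem card_mul_card_inf_of_factorization (H K : Subgroup G)
    (hHK : ∀ g : G, ∃ h ∈ H, ∃ k ∈ K, g = h * k) :
    Nat.card G * Nat.card ↥(H ⊓ K) = Nat.card H * Nat.card K := by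
  rw [← card_mul_set_mul_card_inf H K]
  congr 1
  have : (H : Set G) * (K : Set G) = Set.univ := by
    rw [Set.eq_univ_iff_forall]
    intro g
    obtain ⟨h, hh, k, hk, rfl⟩ := hHK g
    exact Set.mul_mem_mul hh hk
  rw [this]
  exact (Nat.card_congr (Equiv.Set.univ G)).symm

end Cfsg.Agent.Lib.Helper15
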