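import Mathlib
import Cfsg.Prelude.Def_TwoFusion
import Cfsg.Agent.Lib.Lead.FunctorNPCD
import Cfsg.Agent.Lib.Helper23.NPCTools
import Cfsg.Agent.Lib.Helper1.FusionLift

/-! Frobenius' normal `p`-complement criterion relative to a strongly closed subgroup `D`:
the hypothesis "`N_G(U)` has a normal `p`-complement for all `D`-centric `U ≤ D`" and its
transfer to subgroups, quotients and conjugates. (helper15) -/

set_option autoImplicit false

universe u

namespace Cfsg.Agent.Lib.Helper15.DCentric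

open Subgroup
open Cfsg.Agent.Lib.Helper13 Cfsg.Agent.Lib.Lead.FunctorNPCD

/-- the local hypothesis at the `D`-centric subgroups of `D` -/
def Hyp (p : ℕ) (G : Type*) [Group G] (D : Subgroup G) : Prop :=
  ∀ U : Subgroup G, U ≤ D → D ⊓ centralizer (U : Set G) ≤ U → NPC p ↥(normalizer (U : Set G))

section transfer

variable {G : Type*} [Group G] [Finite G] {p : ℕ} [hp : Fact p.Prime]

omit [Finite G] hp in
/-- pulling a centric subgroup of the image back to a centric subgroup of `D`. -/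
theorem centric_comap {H : Type*} [Group H] (f : G →* H) (D : Subgroup G) (Vb : Subgroup H)
    (hVb : Vb ≤ D.map f) (hc : D.map f ⊓ centralizer (Vb : Set H) ≤ Vb) :
    D ⊓ centralizer ((D ⊓ Vb.comap f : Subgroup G) : Set G) ≤ D ⊓ Vb.comap f ∧
      (D ⊓ Vb.comap f).map f = Vb := by
  constructor
  · intro c hcm
    obtain ⟨hcD, hcC⟩ := Subgroup.mem_inf.mp hcm
    refine Subgroup.mem_inf.mpr ⟨hcD, ?_⟩
    rw [Subgroup.mem_comap]
    apply hc
    refine Subgroup.mem_inf.mpr ⟨Subgroup.mem_map_of_mem _ hcD, ?_⟩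
    rw [Subgroup.mem_centralizer_iff]
    intro v hv
    obtain ⟨d, hd, rfl⟩ := Subgroup.mem_map.mp (hVb hv)
    have hdV : d ∈ D ⊓ Vb.comap f := Subgroup.mem_inf.mpr ⟨hd, Subgroup.mem_comap.mpr hv⟩
    have := (Subgroup.mem_centralizer_iff.mp hcC) d hdV
    rw [← map_mul, ← map_mul, this]
  · apply le_antisymm
    · rintro _ ⟨x, hx, rfl⟩
      exact (Subgroup.mem_inf.mp hx).2
    · intro v hv
      obtain ⟨d, hd, rfl⟩ := Subgroup.mem_map.mp (hVb hv)
      exact Subgroup.mem_map_of_mem _ (Subgroup.mem_inf.mpr ⟨hd, Subgroup.mem_comap.mpr hv⟩)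

/-- the hypothesis is invariant under isomorphisms -/
theorem Hyp.of_equiv {H : Type*} [Group H] [Finite H] (e : G ≃* H) (D : Subgroup G)
    (h : Hyp p G D) : Hyp p H (D.map e.toMonoidHom) := by
  intro U hU hc
  obtain ⟨h1, h2⟩ := centric_comap e.toMonoidHom D U hU hc
  have h3 := h _ inf_le_left h1
  apply NPC.of_comap_normalizer e.toMonoidHom e.surjective U _ le_rfl
  have h4 : U.comap e.toMonoidHom = D ⊓ U.comap e.toMonoidHom := by
    apply le_antisymm
    · intro x hx
      refine Subgroup.mem_inf.mpr ⟨?_, hx⟩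
      obtain ⟨d, hd, hdx⟩ := Subgroup.mem_map.mp (hU (Subgroup.mem_comap.mp hx))
      have : d = x := e.injective hdx
      rwa [← this]
    · exact inf_le_right
  rw [h4]
  exact h3

theorem Hyp.conj (g : G) (D : Subgroup G) (h : Hyp p G D) :
    Hyp p G (D.map (MulAut.conj g).toMonoidHom) :=
  Hyp.of_equiv (MulAut.conj g) D h

/-- the hypothesis for a subgroup `M` -/
theorem Hyp.subgroup (M E : Subgroup G) (hE : E ≤ M)
    (h : ∀ V : Subgroup G, V ≤ E → E ⊓ centralizer (V : Set G) ≤ V →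
      NPC p ↥(M ⊓ normalizer (V : Set G))) : Hyp p ↥M (E.subgroupOf M) := by
  intro V₀ hV₀ hc
  have hV : V₀.map M.subtype ≤ E := by
    rintro _ ⟨x, hx, rfl⟩
    exact Subgroup.mem_subgroupOf.mp (hV₀ hx)
  have hcen : E ⊓ centralizer ((V₀.map M.subtype : Subgroup G) : Set G) ≤ V₀.map M.subtype := by
    intro c hcm
    obtain ⟨hcE, hcC⟩ := Subgroup.mem_inf.mp hcm
    have hcM : c ∈ M := hE hcE
    have h1 : (⟨c, hcM⟩ : M) ∈ E.subgroupOf M ⊓ centralizer (V₀ : Set M) := by
      refine Subgroup.mem_inf.mpr ⟨Subgroup.mem_subgroupOf.mpr hcE, ?_⟩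
      rw [Subgroup.mem_centralizer_iff]
      intro v hv
      apply Subtype.ext
      have := (Subgroup.mem_centralizer_iff.mp hcC) (v : G) (Subgroup.mem_map_of_mem _ hv)
      simpa using this
    exact Subgroup.mem_map.mpr ⟨_, hc h1, rfl⟩
  have h1 := h _ hV hcen
  have h2 : (normalizer (V₀ : Set M)).map M.subtype ≤
      M ⊓ normalizer ((V₀.map M.subtype : Subgroup G) : Set G) :=
    le_inf (Subgroup.map_subtype_le _) (Subgroup.le_normalizer_map M.subtype)
  have h3 := NPC.of_le h2 h1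
  exact NPC.of_equiv (Subgroup.equivMapOfInjective _ M.subtype M.subtype_injective).symm h3

/-- the hypothesis passes to the quotient by a normal `p`-subgroup -/
theorem Hyp.quot_p (Q D P : Subgroup G) [Q.Normal] (hsc : Cfsg.IsStronglyClosed D P)
    (hQP : Q ≤ P) (h : Hyp p G D) : Hyp p (G ⧸ Q) (D.map (QuotientGroup.mk' Q)) := by
  intro Vb hVb hc
  obtain ⟨h1, h2⟩ := centric_comap (QuotientGroup.mk' Q) D Vb hVb hc
  have h3 := h _ inf_le_left h1
  apply NPC.of_comap_normalizer (QuotientGroup.mk' Q) (QuotientGroup.mk'_surjective Q) Vb _ le_rfl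
  refine NPC.of_le ?_ h3
  intro g hg
  apply mem_normalizer_of_conj_mem
  intro x hx
  obtain ⟨hxD, hxW⟩ := Subgroup.mem_inf.mp hx
  have hgW : g * x * g⁻¹ ∈ Vb.comap (QuotientGroup.mk' Q) :=
    (Subgroup.mem_normalizer_iff.mp hg x).mp hxW
  have hWP : Vb.comap (QuotientGroup.mk' Q) ≤ P := by
    have : Vb.comap (QuotientGroup.mk' Q) ≤
        (P.map (QuotientGroup.mk' Q)).comap (QuotientGroup.mk' Q) :=
      Subgroup.comap_mono (hVb.trans (Subgroup.map_mono hsc.1))
    rwa [Subgroup.comap_map_eq, QuotientGroup.ker_mk', sup_eq_left.mpr hQP] at this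
  exact Subgroup.mem_inf.mpr ⟨hsc.2 x hxD g (hWP hgW), hgW⟩

/-- the hypothesis passes to the quotient by a normal `p'`-subgroup -/
theorem Hyp.quot_coprime (K D : Subgroup G) [K.Normal] (hK : (Nat.card K).Coprime p)
    (hD : IsPGroup p D) (h : Hyp p G D) : Hyp p (G ⧸ K) (D.map (QuotientGroup.mk' K)) := by
  intro Vb hVb hc
  obtain ⟨h1, h2⟩ := centric_comap (QuotientGroup.mk' K) D Vb hVb hc
  have h3 := h _ inf_le_left h1
  have h4 := normalizer_map_le_of_coprime K hK _ (hD.to_le (inf_le_left :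
    D ⊓ Vb.comap (QuotientGroup.mk' K) ≤ D))
  rw [h2] at h4
  exact NPC.of_le h4 (NPC.map _ _ h3)

end transfer

end Cfsg.Agent.Lib.Helper15.DCentric
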