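import Mathlib
import Cfsg.Agent.Lib.Helper15.DCentric1

/-! Central extensions and the Frattini argument for the `D`-centric normal `p`-complement
criterion. (helper15) -/

set_option autoImplicit false

universe u

namespace Cfsg.Agent.Lib.Helper15.DCentric

open Subgroup
open Cfsg.Agent.Lib.Helper13 Cfsg.Agent.Lib.Lead.FunctorNPCD

section central

variable {G : Type*} [Group G] [Finite G] {p : ℕ} [hp : Fact p.Prime]

/-- a subgroup of `p`-power index together with a Sylow `p`-subgroup generates the group -/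
theorem sup_sylow_eq_top_of_index (K : Subgroup G) (k : ℕ) (hk : K.index = p ^ k)
    (P : Sylow p G) : K ⊔ (P : Subgroup G) = ⊤ := by
  rw [← Subgroup.index_eq_one]
  have h1 : (K ⊔ (P : Subgroup G)).index ∣ K.index := Subgroup.index_dvd_of_le le_sup_left
  have h2 : (K ⊔ (P : Subgroup G)).index ∣ (P : Subgroup G).index :=
    Subgroup.index_dvd_of_le le_sup_right
  rw [hk] at h1
  obtain ⟨j, -, hj⟩ := (Nat.dvd_prime_pow hp.out).mp h1
  rcases Nat.eq_zero_or_pos j with rfl | hj0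
  · rw [hj, pow_zero]
  · exfalso
    apply P.not_dvd_index
    refine dvd_trans ?_ h2
    rw [hj]
    exact dvd_pow_self p hj0.ne'

/-- a central extension of a `p`-nilpotent group by a `p`-group is `p`-nilpotent -/
theorem npc_of_central_quot (Z : Subgroup G) [hZn : Z.Normal] (hZc : Z ≤ center G)
    (hZp : IsPGroup p Z) (h : NPC p (G ⧸ Z)) : NPC p G := by
  obtain ⟨Kb, hKbn, hcop, k, hk⟩ := h
  obtain ⟨L, hLdef⟩ : ∃ L : Subgroup G, L = Kb.comap (QuotientGroup.mk' Z) := ⟨_, rfl⟩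
  have hLn : L.Normal := by rw [hLdef]; exact hKbn.comap _
  have hZL : Z ≤ L := by
    intro z hz
    rw [hLdef, Subgroup.mem_comap]
    have : QuotientGroup.mk' Z z = 1 := by
      rw [← MonoidHom.mem_ker, QuotientGroup.ker_mk']; exact hz
    rw [this]; exact Kb.one_mem
  have hLidx : L.index = p ^ k := by
    rw [hLdef, Subgroup.index_comap_of_surjective Kb (QuotientGroup.mk'_surjective Z), hk]
  have hLcard : Nat.card L = Nat.card Kb * Nat.card Z := by
    have h1 := Subgroup.card_mul_index L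
    have h2 := Subgroup.card_mul_index Kb
    have h3 := Subgroup.card_eq_card_quotient_mul_card_subgroup Z
    have hpos : 0 < Kb.index := Nat.pos_of_ne_zero Subgroup.index_ne_zero_of_finite
    rw [hLidx, ← hk] at h1
    have h5 : Nat.card L * Kb.index = (Nat.card Kb * Nat.card Z) * Kb.index := by
      rw [h1, h3, ← h2]; ring
    exact Nat.eq_of_mul_eq_mul_right hpos h5
  obtain ⟨a, ha⟩ := IsPGroup.iff_card.mp hZp
  have hZ'card : Nat.card (Z.subgroupOf L) = Nat.card Z :=
    Nat.card_congr (Subgroup.subgroupOfEquivOfLe hZL).toEquiv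
  have hZ'idx : (Z.subgroupOf L).index = Nat.card Kb := by
    have h1 := Subgroup.card_mul_index (Z.subgroupOf L)
    rw [hZ'card, hLcard] at h1
    have hpos : 0 < Nat.card Z := Nat.card_pos
    exact Nat.eq_of_mul_eq_mul_left hpos (by rw [h1, mul_comm])
  have hcop' : (Nat.card (Z.subgroupOf L)).Coprime (Z.subgroupOf L).index := by
    rw [hZ'card, hZ'idx, ha]
    exact Nat.Coprime.pow_left a hcop.symm
  obtain ⟨T, hT⟩ := Subgroup.exists_left_complement'_of_coprime hcop'
  have hTcard : Nat.card T = Nat.card Kb := by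
    rw [← hZ'idx]; exact hT.index_eq_card.symm
  have hTsup : T ⊔ Z.subgroupOf L = ⊤ := hT.sup_eq_top
  refine ⟨T.map L.subtype, ?_, ?_, k + a, ?_⟩
  · constructor
    rintro _ ⟨t, ht, rfl⟩ g
    have hmem : g * (t : G) * g⁻¹ ∈ L := hLn.conj_mem _ t.2 g
    have hin : (⟨g * (t : G) * g⁻¹, hmem⟩ : L) ∈ T ⊔ Z.subgroupOf L := by
      rw [hTsup]; trivial
    obtain ⟨t₁, ht₁, z, hz, hyz⟩ := Subgroup.mem_sup_of_normal_right.mp hin
    have hzZ : (z : G) ∈ Z := Subgroup.mem_subgroupOf.mp hz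
    have hyz' : (t₁ : G) * (z : G) = g * (t : G) * g⁻¹ := by
      have := congrArg Subtype.val hyz
      simpa using this
    have hpowT : ∀ s : L, s ∈ T → (s : G) ^ Nat.card T = 1 := by
      intro s hs
      have h1 : (⟨s, hs⟩ : T) ^ Nat.card T = 1 := pow_card_eq_one'
      have h2 : s ^ Nat.card T = 1 := by
        have := congrArg Subtype.val h1
        rwa [Subgroup.coe_pow, Subgroup.coe_one] at this
      have h3 := congrArg Subtype.val h2
      rwa [Subgroup.coe_pow, Subgroup.coe_one] at h3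
    have htpow : (t : G) ^ Nat.card T = 1 := hpowT t ht
    have ht₁pow : (t₁ : G) ^ Nat.card T = 1 := hpowT t₁ ht₁
    have hconjpow : (g * (t : G) * g⁻¹) ^ Nat.card T = 1 := by
      rw [conj_pow, htpow, mul_one, mul_inv_cancel]
    have hcomm : Commute (t₁ : G) (z : G) :=
      ((Subgroup.mem_center_iff.mp (hZc hzZ)) (t₁ : G))
    have hzpow : (z : G) ^ Nat.card T = 1 := by
      have := hcomm.mul_pow (Nat.card T)
      rw [hyz', hconjpow, ht₁pow, one_mul] at this
      exact this.symm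
    have hz1 : (z : G) = 1 := by
      apply eq_one_of_isPGroup_of_coprime hZp hzZ
      have h1 : orderOf (z : G) ∣ Nat.card T := orderOf_dvd_of_pow_eq_one hzpow
      rw [hTcard] at h1
      exact Nat.Coprime.coprime_dvd_left h1 hcop
    rw [hz1, mul_one] at hyz'
    refine Subgroup.mem_map.mpr ⟨t₁, ht₁, ?_⟩
    simpa using hyz'
  · rw [Subgroup.card_map_of_injective L.subtype_injective, hTcard]
    exact hcop
  · have h1 := Subgroup.card_mul_index (T.map L.subtype)
    have h2 := Subgroup.card_mul_index L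
    rw [Subgroup.card_map_of_injective L.subtype_injective, hTcard] at h1
    rw [hLcard, hLidx, ha] at h2
    have hpos : 0 < Nat.card Kb := Nat.card_pos
    apply Nat.eq_of_mul_eq_mul_left hpos
    rw [h1, ← h2]; ring

end central

section frattini

variable {G : Type*} [Group G] [Finite G] {p : ℕ} [hp : Fact p.Prime]

/-- If `U ≤ D` is normal in `G`, then `G = C_G(U) P`. -/
theorem sup_centralizer_eq_top (P : Sylow p G) (D : Subgroup G)
    (hsc : Cfsg.IsStronglyClosed D (P : Subgroup G)) (hyp : Hyp p G D)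
    (U : Subgroup G) [hUn : U.Normal] (hUD : U ≤ D) :
    centralizer (U : Set G) ⊔ (P : Subgroup G) = ⊤ := by
  obtain ⟨C, hCdef⟩ : ∃ C : Subgroup G, C = centralizer (U : Set G) := ⟨_, rfl⟩
  have hCn : C.Normal := by rw [hCdef]; infer_instance
  obtain ⟨N, hNdef⟩ : ∃ N : Subgroup G, N = U ⊔ C := ⟨_, rfl⟩
  have hNn : N.Normal := by rw [hNdef]; infer_instance
  have hUN : U ≤ N := by rw [hNdef]; exact le_sup_left
  have hCN : C ≤ N := by rw [hNdef]; exact le_sup_right
  have hUstar : D ⊓ centralizer ((D ⊓ N : Subgroup G) : Set G) ≤ D ⊓ N := by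
    intro c hc
    obtain ⟨hcD, hcC⟩ := Subgroup.mem_inf.mp hc
    refine Subgroup.mem_inf.mpr ⟨hcD, hCN ?_⟩
    rw [hCdef]
    exact Subgroup.centralizer_le (show ((U : Subgroup G) : Set G) ⊆ ((D ⊓ N : Subgroup G) : Set G)
      from fun x hx => Subgroup.mem_inf.mpr ⟨hUD hx, hUN hx⟩) hcC
  have hnpc := hyp _ inf_le_left hUstar
  obtain ⟨K, hKn, hcop, k, hk⟩ := hnpc
  have hPle : (P : Subgroup G) ≤ normalizer ((D ⊓ N : Subgroup G) : Set G) := by
    intro s hs
    apply mem_normalizer_of_conj_mem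
    intro x hx
    obtain ⟨hxD, hxN⟩ := Subgroup.mem_inf.mp hx
    exact Subgroup.mem_inf.mpr
      ⟨(Subgroup.mem_normalizer_iff.mp (sc_le_normalizer hsc hs) x).mp hxD, hNn.conj_mem x hxN s⟩
  have hUle : U ≤ normalizer ((D ⊓ N : Subgroup G) : Set G) :=
    (le_inf hUD hUN).trans Subgroup.le_normalizer
  have hPp : IsPGroup p (P : Subgroup G) := P.isPGroup'
  have hKC : K.map (normalizer ((D ⊓ N : Subgroup G) : Set G)).subtype ≤ C := by
    rintro _ ⟨κ, hκ, rfl⟩
    rw [hCdef, Subgroup.mem_centralizer_iff]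
    intro u hu
    set u' : ↥(normalizer ((D ⊓ N : Subgroup G) : Set G)) := ⟨u, hUle hu⟩ with hu'
    have hc1 : κ * (u' * κ⁻¹ * u'⁻¹) ∈ K :=
      K.mul_mem hκ (hKn.conj_mem _ (K.inv_mem hκ) u')
    have hc2 : ((κ * (u' * κ⁻¹ * u'⁻¹) : ↥(normalizer ((D ⊓ N : Subgroup G) : Set G))) : G) ∈ U := by
      have : ((κ * (u' * κ⁻¹ * u'⁻¹) : ↥(normalizer ((D ⊓ N : Subgroup G) : Set G))) : G) =
          ((κ : G) * u * (κ : G)⁻¹) * u⁻¹ := by
        simp only [Subgroup.coe_mul, Subgroup.coe_inv, hu']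
        group
      rw [this]
      exact U.mul_mem (hUn.conj_mem u hu _) (U.inv_mem hu)
    have hord : (orderOf ((κ * (u' * κ⁻¹ * u'⁻¹) :
        ↥(normalizer ((D ⊓ N : Subgroup G) : Set G))) : G)).Coprime p := by
      rw [Subgroup.orderOf_coe]
      exact Nat.Coprime.coprime_dvd_left (Subgroup.orderOf_dvd_natCard K hc1) hcop
    have h1 := eq_one_of_isPGroup_of_coprime (hPp.to_le (hUD.trans hsc.1)) hc2 hord
    have h2 : (κ : G) * (u * (κ : G)⁻¹ * u⁻¹) = 1 := by
      have : ((κ * (u' * κ⁻¹ * u'⁻¹) : ↥(normalizer ((D ⊓ N : Subgroup G) : Set G))) : G) =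
          (κ : G) * (u * (κ : G)⁻¹ * u⁻¹) := by
        simp only [Subgroup.coe_mul, Subgroup.coe_inv, hu']
      rw [← this]; exact h1
    have h3 : (κ : G) * u = u * (κ : G) := by
      have : (κ : G) * u = (κ : G) * (u * (κ : G)⁻¹ * u⁻¹) * (u * (κ : G)) := by group
      rw [this, h2, one_mul]
    exact h3.symm
  have hsup : normalizer ((D ⊓ N : Subgroup G) : Set G) ≤ C ⊔ (P : Subgroup G) := by
    intro m hm
    have h1 := sup_sylow_eq_top_of_index K k hk (P.subtype hPle)
    have h2 : (⟨m, hm⟩ : ↥(normalizer ((D ⊓ N : Subgroup G) : Set G))) ∈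
        K ⊔ ((P.subtype hPle : Sylow p _) : Subgroup _) := by rw [h1]; trivial
    have h3 : m ∈ (K ⊔ ((P.subtype hPle : Sylow p _) : Subgroup _)).map
        (normalizer ((D ⊓ N : Subgroup G) : Set G)).subtype := Subgroup.mem_map.mpr ⟨_, h2, rfl⟩
    rw [Subgroup.map_sup] at h3
    refine (sup_le_sup hKC ?_) h3
    rw [Sylow.coe_subtype, Subgroup.subgroupOf_map_subtype]
    exact inf_le_left
  rw [← hCdef, eq_top_iff]
  intro g _
  obtain ⟨m, hm, n, hn, rfl⟩ := Cfsg.Agent.Lib.Helper1.frattini_decomp P N g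
  apply Subgroup.mul_mem
  · apply hsup
    apply mem_normalizer_of_conj_mem
    intro x hx
    obtain ⟨hxD, hxN⟩ := Subgroup.mem_inf.mp hx
    have h1 : m * x * m⁻¹ ∈ (P : Subgroup G) ⊓ N :=
      (Subgroup.mem_normalizer_iff.mp hm x).mp (Subgroup.mem_inf.mpr ⟨hsc.1 hxD, hxN⟩)
    exact Subgroup.mem_inf.mpr ⟨hsc.2 x hxD m (Subgroup.mem_inf.mp h1).1, (Subgroup.mem_inf.mp h1).2⟩
  · have : N ≤ C ⊔ (P : Subgroup G) := by
      rw [hNdef]
      exact sup_le ((hUD.trans hsc.1).trans le_sup_right) le_sup_left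
    exact this hn

omit [Finite G] hp in
/-- a Sylow subgroup of `M` containing a given `p`-subgroup, of the form `P ∩ M` -/
theorem exists_sylow_inf (M X : Subgroup G) (hX : IsPGroup p X) (hXM : X ≤ M) :
    ∃ (R₀ : Sylow p M) (P : Sylow p G), X ≤ (R₀ : Subgroup M).map M.subtype ∧
      (R₀ : Subgroup M).map M.subtype = (P : Subgroup G) ⊓ M := by
  obtain ⟨R₀, hR₀⟩ := (hX.comap_subtype (K := M) : IsPGroup p (X.subgroupOf M)).exists_le_sylow
  have hRp : IsPGroup p ((R₀ : Subgroup M).map M.subtype) := R₀.isPGroup'.map _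
  obtain ⟨P, hRP⟩ := hRp.exists_le_sylow
  refine ⟨R₀, P, ?_, ?_⟩
  · intro x hx
    exact Subgroup.mem_map.mpr ⟨⟨x, hXM hx⟩, hR₀ (Subgroup.mem_subgroupOf.mpr hx), rfl⟩
  · apply le_antisymm
    · exact le_inf hRP (Subgroup.map_subtype_le _)
    · have h1 : IsPGroup p (((P : Subgroup G) ⊓ M).subgroupOf M) :=
        (P.isPGroup'.to_le inf_le_left).comap_subtype
      have h2 : (R₀ : Subgroup M) ≤ ((P : Subgroup G) ⊓ M).subgroupOf M := by
        intro r hr
        rw [Subgroup.mem_subgroupOf]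
        exact Subgroup.mem_inf.mpr ⟨hRP (Subgroup.mem_map_of_mem _ hr), r.2⟩
      have h3 := R₀.is_maximal' h1 h2
      intro x hx
      have hxM : x ∈ M := (Subgroup.mem_inf.mp hx).2
      have : (⟨x, hxM⟩ : M) ∈ ((P : Subgroup G) ⊓ M).subgroupOf M :=
        Subgroup.mem_subgroupOf.mpr hx
      rw [h3] at this
      exact Subgroup.mem_map.mpr ⟨_, this, rfl⟩

end frattini

end Cfsg.Agent.Lib.Helper15.DCentric
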