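import Mathlib
import Cfsg.Agent.Lib.Helper15.DCentric2
import Cfsg.Agent.Lib.Helper2.Cores
import Cfsg.Agent.S0072

/-! The `D`-centric Frobenius normal `p`-complement criterion: the induction. (helper15) -/

set_option autoImplicit false

universe u

namespace Cfsg.Agent.Lib.Helper15.DCentric

open Subgroup
open Cfsg.Agent.Lib.Helper13 Cfsg.Agent.Lib.Lead.FunctorNPCD

section induction

variable {p : ℕ} [hp : Fact p.Prime]

theorem card_quot_lt {G : Type u} [Group G] [Finite G] (K : Subgroup G) [K.Normal] (hne : K ≠ ⊥) :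
    Nat.card (G ⧸ K) < Nat.card G := by
  have h2 := Subgroup.card_eq_card_quotient_mul_card_subgroup K
  have h3 : 1 < Nat.card K := by
    rcases Nat.lt_or_ge 1 (Nat.card K) with h | h
    · exact h
    · exfalso
      apply hne
      have hpos : 0 < Nat.card K := Nat.card_pos
      exact Subgroup.card_eq_one.mp (by omega)
  have hpos : 0 < Nat.card (G ⧸ K) := Nat.card_pos
  rw [h2]
  nlinarith

theorem card_lt_of_ne_top {G : Type u} [Group G] [Finite G] (M : Subgroup G) (hM : M ≠ ⊤) :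
    Nat.card M < Nat.card G := by
  rcases lt_or_eq_of_le (Subgroup.card_le_card_group M) with h | h
  · exact h
  · exact absurd ((Subgroup.card_eq_iff_eq_top M).mp h) hM

/-- **The `D`-centric Frobenius criterion.** -/
theorem main : ∀ n : ℕ, ∀ (G : Type u) [Group G] [Finite G], Nat.card G = n →
    ∀ (P : Sylow p G) (D : Subgroup G), Cfsg.IsStronglyClosed D (P : Subgroup G) →
      Hyp p G D → NPC p G := by
  intro n
  induction n using Nat.strong_induction_on with
  | _ n ih =>
  intro G _ _ hn P₀ D₀ hsc₀ hyp₀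
  by_contra hG
  have hD₀1 : D₀ ≠ ⊥ := by
    intro h
    have h1 := hyp₀ ⊥ bot_le (by rw [h]; exact inf_le_left)
    have h2 : normalizer ((⊥ : Subgroup G) : Set G) = ⊤ := Subgroup.normalizer_eq_top _
    rw [h2] at h1
    exact hG (NPC.of_top h1)
  -- every Sylow subgroup carries a conjugate of `D₀`
  have hall : ∀ P : Sylow p G, ∃ g : G,
      (P : Subgroup G) = (P₀ : Subgroup G).map (MulAut.conj g).toMonoidHom := by
    intro P
    obtain ⟨g, hg⟩ := MulAction.exists_smul_eq G P₀ P
    exact ⟨g, by rw [← hg, Cfsg.Agent.Lib.Helper17.coe_smul_sylow_eq_map]⟩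
  have hOp' : ∀ K : Subgroup G, K.Normal → (Nat.card K).Coprime p → K = ⊥ := by
    intro K hK hcop
    by_contra hne
    have h1 : Nat.card (G ⧸ K) < n := by rw [← hn]; exact card_quot_lt K hne
    have hD₀p : IsPGroup p D₀ := P₀.isPGroup'.to_le hsc₀.1
    have h2 := ih _ h1 (G ⧸ K) rfl (P₀.mapSurjective (QuotientGroup.mk'_surjective K))
      (D₀.map (QuotientGroup.mk' K))
      (by rw [Sylow.coe_mapSurjective]; exact sc_quot_coprime hcop P₀.isPGroup' hsc₀)
      (Hyp.quot_coprime K D₀ hcop hD₀p hyp₀)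
    exact hG (NPC.of_quotient K hcop h2)
  -- quotients by nontrivial normal `p`-subgroups are `p`-nilpotent
  have hquotp : ∀ (Q : Subgroup G) [Q.Normal], Q ≤ (P₀ : Subgroup G) → Q ≠ ⊥ → NPC p (G ⧸ Q) := by
    intro Q hQn hQP hQne
    have h1 : Nat.card (G ⧸ Q) < n := by rw [← hn]; exact card_quot_lt Q hQne
    exact ih _ h1 (G ⧸ Q) rfl (P₀.mapSurjective (QuotientGroup.mk'_surjective Q))
      (D₀.map (QuotientGroup.mk' Q))
      (by rw [Sylow.coe_mapSurjective]; exact sc_quot_p hsc₀ hQP)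
      (Hyp.quot_p Q D₀ (P₀ : Subgroup G) hsc₀ hQP hyp₀)
  -- `O_p(G) = 1`
  have hOp : ∀ Q : Subgroup G, Q.Normal → IsPGroup p Q → Q = ⊥ := by
    intro Q₀ hQ₀n hQ₀p
    by_contra hQ₀ne
    obtain ⟨Q, hQdef⟩ : ∃ Q : Subgroup G, Q = Cfsg.pCore p G := ⟨_, rfl⟩
    have hQn : Q.Normal := by rw [hQdef]; exact Cfsg.Agent.Lib.Helper2.pCore_normal p
    have hQmax : ∀ R : Subgroup G, R.Normal → IsPGroup p R → R ≤ Q := by
      intro R hRn hRp; rw [hQdef]; exact Cfsg.Agent.Lib.Helper2.le_pCore hRn hRp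
    have hQP : Q ≤ (P₀ : Subgroup G) := by
      rw [hQdef]; exact Cfsg.Agent.Lib.Helper2.pCore_le_sylow p P₀
    have hQne : Q ≠ ⊥ := by
      intro h; apply hQ₀ne; rw [eq_bot_iff, ← h]; exact hQmax Q₀ hQ₀n hQ₀p
    have hquot := hquotp Q hQP hQne
    have hcent := centralizer_le_of_config Q hQmax hOp' hquot
    -- `U = D₀ ∩ Q`
    obtain ⟨U, hUdef⟩ : ∃ U : Subgroup G, U = D₀ ⊓ Q := ⟨_, rfl⟩
    have hUn : U.Normal := by
      constructor
      intro x hx g
      rw [hUdef] at hx ⊢
      obtain ⟨hxD, hxQ⟩ := Subgroup.mem_inf.mp hx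
      have h1 : g * x * g⁻¹ ∈ Q := hQn.conj_mem x hxQ g
      exact Subgroup.mem_inf.mpr ⟨hsc₀.2 x hxD g (hQP h1), h1⟩
    have hUD : U ≤ D₀ := by rw [hUdef]; exact inf_le_left
    have hUne : U ≠ ⊥ := by
      intro hU
      apply hD₀1
      have h1 : D₀ ≤ centralizer (Q : Set G) := by
        intro d hd
        rw [Subgroup.mem_centralizer_iff]
        intro q hq
        have h2 : d * q * d⁻¹ * q⁻¹ ∈ U := by
          rw [hUdef]
          refine Subgroup.mem_inf.mpr ⟨?_, Q.mul_mem (hQn.conj_mem q hq d) (Q.inv_mem hq)⟩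
          have h3 : q * d⁻¹ * q⁻¹ ∈ D₀ :=
            (Subgroup.mem_normalizer_iff.mp (sc_le_normalizer hsc₀ (hQP hq)) d⁻¹).mp
              (D₀.inv_mem hd)
          have : d * q * d⁻¹ * q⁻¹ = d * (q * d⁻¹ * q⁻¹) := by group
          rw [this]; exact D₀.mul_mem hd h3
        rw [hU, Subgroup.mem_bot] at h2
        have : q * d = d * q * d⁻¹ * q⁻¹ * (q * d) := by rw [h2, one_mul]
        rw [this]; group
      rw [eq_bot_iff, ← hU, hUdef]
      exact le_inf le_rfl (h1.trans hcent)
    have hsup := sup_centralizer_eq_top P₀ D₀ hsc₀ hyp₀ U hUD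
    -- a central element
    have hUsc : Cfsg.IsStronglyClosed U (P₀ : Subgroup G) :=
      ⟨hUD.trans hsc₀.1, fun x hx g _ => hUn.conj_mem x hx g⟩
    obtain ⟨x, hxU, hx1, hxc⟩ := exists_central_of_sc P₀.isPGroup' hUsc hUne
    have hxZ : x ∈ center G := by
      have h1 : centralizer (U : Set G) ⊔ (P₀ : Subgroup G) ≤ centralizer ({x} : Set G) := by
        apply sup_le
        · exact Subgroup.centralizer_le (Set.singleton_subset_iff.mpr hxU)
        · intro u hu
          rw [Subgroup.mem_centralizer_iff]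
          intro y hy
          rw [Set.mem_singleton_iff] at hy
          rw [hy]
          exact (hxc u hu).symm
      rw [hsup] at h1
      rw [Subgroup.mem_center_iff]
      intro g
      have := (Subgroup.mem_centralizer_iff.mp (h1 (Subgroup.mem_top g))) x rfl
      exact this.symm
    obtain ⟨Z, hZdef⟩ : ∃ Z : Subgroup G, Z = zpowers x := ⟨_, rfl⟩
    have hZc : Z ≤ center G := by rw [hZdef, zpowers_le]; exact hxZ
    have hZn : Z.Normal := by
      constructor
      intro z hz g
      have := (Subgroup.mem_center_iff.mp (hZc hz)) g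
      have h2 : g * z * g⁻¹ = z := by rw [this, mul_inv_cancel_right]
      rw [h2]; exact hz
    have hZD : Z ≤ D₀ := by rw [hZdef, zpowers_le]; exact hUD hxU
    have hZne : Z ≠ ⊥ := by
      intro h
      apply hx1
      have : x ∈ Z := by rw [hZdef]; exact mem_zpowers x
      rwa [h, Subgroup.mem_bot] at this
    have hZquot := hquotp Z (hZD.trans hsc₀.1) hZne
    exact hG (npc_of_central_quot Z hZc (P₀.isPGroup'.to_le (hZD.trans hsc₀.1)) hZquot)
  -- normalizers of nontrivial `p`-subgroups are proper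
  have hproper : ∀ X : Subgroup G, IsPGroup p X → X ≠ ⊥ → normalizer (X : Set G) ≠ ⊤ := by
    intro X hX hXne hN
    exact hXne (hOp X (Subgroup.normalizer_eq_top_iff.mp hN) hX)
  -- the induction step for a proper subgroup
  have hstep : ∀ (M : Subgroup G), M ≠ ⊤ → ∀ (R₀ : Sylow p M) (P : Sylow p G) (D : Subgroup G),
      (R₀ : Subgroup M).map M.subtype = (P : Subgroup G) ⊓ M →
      Cfsg.IsStronglyClosed D (P : Subgroup G) →
      (∀ V : Subgroup G, V ≤ (P : Subgroup G) ⊓ M ⊓ D →
        ((P : Subgroup G) ⊓ M ⊓ D) ⊓ centralizer (V : Set G) ≤ V →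
        NPC p ↥(M ⊓ normalizer (V : Set G))) → NPC p ↥M := by
    intro M hM R₀ P D hR hsc hV
    have hMlt : Nat.card M < n := by rw [← hn]; exact card_lt_of_ne_top M hM
    have hscM := sc_subgroup (M := M) (R₀ := (R₀ : Subgroup M)) hsc (by rw [hR]; exact inf_le_left)
    rw [hR] at hscM
    refine ih _ hMlt ↥M rfl R₀ _ hscM ?_
    exact Hyp.subgroup M _ (inf_le_left.trans inf_le_right) hV
  have hconj : ∀ P P' : Sylow p G, ∃ g : G,
      (P' : Subgroup G) = (P : Subgroup G).map (MulAut.conj g).toMonoidHom := by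
    intro P P'
    obtain ⟨g, hg⟩ := MulAction.exists_smul_eq G P P'
    exact ⟨g, by rw [← hg, Cfsg.Agent.Lib.Helper17.coe_smul_sylow_eq_map]⟩
  have hnormsup : ∀ A B : Subgroup G,
      normalizer (A : Set G) ⊓ normalizer (B : Set G) ≤ normalizer ((A ⊔ B : Subgroup G) : Set G) := by
    intro A B g hg
    obtain ⟨hgA, hgB⟩ := Subgroup.mem_inf.mp hg
    rw [Subgroup.mem_normalizer_iff_map_conj_eq] at hgA hgB ⊢
    rw [Subgroup.map_sup, hgA, hgB]
  -- Stage A: normalizers of nontrivial subgroups of `D`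
  have stageA : ∀ (P : Sylow p G) (D : Subgroup G), Cfsg.IsStronglyClosed D (P : Subgroup G) →
      Hyp p G D → ∀ U : Subgroup G, U ≠ ⊥ → U ≤ D → NPC p ↥(normalizer (U : Set G)) := by
    intro P D hsc hyp U hUne hUD
    have hUp : IsPGroup p U := P.isPGroup'.to_le (hUD.trans hsc.1)
    have hN := hproper U hUp hUne
    obtain ⟨R₀, P', hUR, hR⟩ := exists_sylow_inf (normalizer (U : Set G)) U hUp Subgroup.le_normalizer
    obtain ⟨g, hg⟩ := hconj P P'
    have hsc' : Cfsg.IsStronglyClosed (D.map (MulAut.conj g).toMonoidHom) (P' : Subgroup G) := by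
      rw [hg]; exact sc_conj hsc g
    have hyp' := Hyp.conj g D hyp
    have hUP' : U ≤ (P' : Subgroup G) := by
      intro u hu
      have := hUR hu
      rw [hR] at this
      exact (Subgroup.mem_inf.mp this).1
    have hUD' : U ≤ D.map (MulAut.conj g).toMonoidHom := by
      intro u hu
      have h1 : g * u * g⁻¹ ∈ D.map (MulAut.conj g).toMonoidHom :=
        Subgroup.mem_map.mpr ⟨u, hUD hu, rfl⟩
      have h2 : g⁻¹ * (g * u * g⁻¹) * g⁻¹⁻¹ = u := by group
      have h3 := hsc'.2 (g * u * g⁻¹) h1 g⁻¹ (by rw [h2]; exact hUP' hu)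
      rwa [h2] at h3
    apply hstep _ hN R₀ P' _ hR hsc'
    intro V hV hVc
    have hcen : D.map (MulAut.conj g).toMonoidHom ⊓ centralizer ((U ⊔ V : Subgroup G) : Set G) ≤
        U ⊔ V := by
      intro c hc
      obtain ⟨hcD, hcC⟩ := Subgroup.mem_inf.mp hc
      have hcU : c ∈ centralizer (U : Set G) :=
        Subgroup.centralizer_le (show ((U : Subgroup G) : Set G) ⊆ ((U ⊔ V : Subgroup G) : Set G)
          from fun x hx => (le_sup_left : U ≤ U ⊔ V) hx) hcC
      have hcV : c ∈ centralizer (V : Set G) :=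
        Subgroup.centralizer_le (show ((V : Subgroup G) : Set G) ⊆ ((U ⊔ V : Subgroup G) : Set G)
          from fun x hx => (le_sup_right : V ≤ U ⊔ V) hx) hcC
      have hcN : c ∈ normalizer (U : Set G) := Subgroup.centralizer_le_normalizer _ hcU
      have h1 : c ∈ ((P' : Subgroup G) ⊓ normalizer (U : Set G) ⊓
          D.map (MulAut.conj g).toMonoidHom) ⊓ centralizer (V : Set G) :=
        Subgroup.mem_inf.mpr ⟨Subgroup.mem_inf.mpr ⟨Subgroup.mem_inf.mpr ⟨hsc'.1 hcD, hcN⟩, hcD⟩, hcV⟩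
      exact (le_sup_right : V ≤ U ⊔ V) (hVc h1)
    have h1 := hyp' (U ⊔ V) (sup_le hUD' (hV.trans inf_le_right)) hcen
    exact NPC.of_le (hnormsup U V) h1
  -- Stage B: normalizers of arbitrary nontrivial `p`-subgroups
  have stageB : ∀ Q : Subgroup G, IsPGroup p Q → Q ≠ ⊥ → NPC p ↥(normalizer (Q : Set G)) := by
    intro Q hQ hQne
    have hN := hproper Q hQ hQne
    obtain ⟨R₀, P', hQR, hR⟩ := exists_sylow_inf (normalizer (Q : Set G)) Q hQ Subgroup.le_normalizer
    obtain ⟨g, hg⟩ := hconj P₀ P'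
    have hsc' : Cfsg.IsStronglyClosed (D₀.map (MulAut.conj g).toMonoidHom) (P' : Subgroup G) := by
      rw [hg]; exact sc_conj hsc₀ g
    have hyp' := Hyp.conj g D₀ hyp₀
    have hD'1 : D₀.map (MulAut.conj g).toMonoidHom ≠ ⊥ := by
      intro h
      exact hD₀1 ((Subgroup.map_eq_bot_iff_of_injective _ (MulAut.conj g).injective).mp h)
    have hQP' : Q ≤ (P' : Subgroup G) := by
      intro u hu
      have := hQR hu
      rw [hR] at this
      exact (Subgroup.mem_inf.mp this).1
    obtain ⟨x, hxD, hx1, hxc⟩ := exists_central_of_sc P'.isPGroup' hsc' hD'1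
    have hxN : x ∈ normalizer (Q : Set G) := by
      apply mem_normalizer_of_conj_mem
      intro q hq
      have : x * q * x⁻¹ = q := by
        rw [← hxc q (hQP' hq), mul_inv_cancel_right]
      rw [this]; exact hq
    apply hstep _ hN R₀ P' _ hR hsc'
    intro V hV hVc
    have hVne : V ≠ ⊥ := by
      intro hVbot
      apply hx1
      have h1 : x ∈ ((P' : Subgroup G) ⊓ normalizer (Q : Set G) ⊓
          D₀.map (MulAut.conj g).toMonoidHom) ⊓ centralizer (V : Set G) := by
        refine Subgroup.mem_inf.mpr ⟨Subgroup.mem_inf.mpr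
          ⟨Subgroup.mem_inf.mpr ⟨hsc'.1 hxD, hxN⟩, hxD⟩, ?_⟩
        rw [Subgroup.mem_centralizer_iff]
        intro y hy
        rw [hVbot] at hy
        have hy1 : y = 1 := Subgroup.mem_bot.mp hy
        rw [hy1, one_mul, mul_one]
      have h2 := hVc h1
      rwa [hVbot, Subgroup.mem_bot] at h2
    exact NPC.of_le inf_le_right (stageA P' _ hsc' hyp' V hVne (hV.trans inf_le_right))
  apply hG
  rw [← npc_iff, Cfsg.Agent.S0072.result p]
  intro Q hQ hne
  rw [npc_iff]
  exact stageB Q hQ hne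

end induction

end Cfsg.Agent.Lib.Helper15.DCentric
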