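import Mathlib

/-!
# Hall–Higman Theorem B in the abelian case: the averaging lemma (helper15)

`norm_ne_one`: a finite group `K` of automorphisms of a commutative group `V` normalized by an
automorphism `x` all of whose powers `x^i`, `0 < i < m`, act fixed-point-freely on `K`.  If `K ≠ 1`
and multiplication by `#K` is injective on `V`, then the norm `∏_{i<m} x^i` is not trivial on `V`.
-/

set_option autoImplicit false

namespace Cfsg.Agent.Lib.Helper15.HH

open Finset

variable {V : Type*} [CommGroup V]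

/-- the sum over the finite group `K` -/
noncomputable def avg (K : Subgroup (MulAut V)) [Fintype K] (v : V) : V :=
  ∏ c : K, (c : MulAut V) v

theorem avg_mul (K : Subgroup (MulAut V)) [Fintype K] (v w : V) :
    avg K (v * w) = avg K v * avg K w := by
  unfold avg
  rw [← Finset.prod_mul_distrib]
  apply Finset.prod_congr rfl
  intro c _
  exact map_mul _ _ _

theorem avg_inv (K : Subgroup (MulAut V)) [Fintype K] (v : V) :
    avg K v⁻¹ = (avg K v)⁻¹ := by
  unfold avg
  rw [← Finset.prod_inv_distrib]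
  apply Finset.prod_congr rfl
  intro c _
  exact map_inv _ _

theorem avg_apply (K : Subgroup (MulAut V)) [Fintype K] (k : MulAut V) (hk : k ∈ K) (v : V) :
    avg K (k v) = avg K v := by
  unfold avg
  let e : K ≃ K := Equiv.mulRight (⟨k, hk⟩ : K)
  rw [← Equiv.prod_comp e (fun c : K => (c : MulAut V) v)]
  apply Finset.prod_congr rfl
  intro c _
  rfl

/-- special elements `k v * v⁻¹` are killed by the average -/
theorem avg_special (K : Subgroup (MulAut V)) [Fintype K] (k : MulAut V) (hk : k ∈ K) (v : V) :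
    avg K (k v * v⁻¹) = 1 := by
  rw [avg_mul, avg_inv, avg_apply K k hk, mul_inv_cancel]

theorem norm_ne_one (K : Subgroup (MulAut V)) [Finite K] (x : MulAut V)
    (hx : ∀ c ∈ K, x * c * x⁻¹ ∈ K) (m : ℕ)
    (hfree : ∀ i, 0 < i → i < m → ∀ c ∈ K, c * x ^ i = x ^ i * c → c = 1)
    (hV : ∀ v : V, v ^ Nat.card K = 1 → v = 1)
    (k₀ : MulAut V) (hk₀ : k₀ ∈ K) (hk₀1 : k₀ ≠ 1) (hm : 0 < m) :
    ∃ v : V, ∏ i ∈ Finset.range m, (x ^ i) v ≠ 1 := by
  classical
  haveI : Fintype K := Fintype.ofFinite K
  by_contra hcon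
  push_neg at hcon
  apply hk₀1
  -- powers of x normalize K
  have hxi : ∀ i : ℕ, ∀ c ∈ K, x ^ i * c * (x ^ i)⁻¹ ∈ K := by
    intro i
    induction i with
    | zero => intro c hc; simpa using hc
    | succ i ih =>
      intro c hc
      have h1 := hx _ (ih c hc)
      have : x ^ (i + 1) * c * (x ^ (i + 1))⁻¹ = x * (x ^ i * c * (x ^ i)⁻¹) * x⁻¹ := by
        rw [pow_succ']; group
      rw [this]; exact h1
  -- every special element is trivial
  have key : ∀ v : V, k₀ v * v⁻¹ = 1 := by
    intro v
    set w := k₀ v * v⁻¹ with hw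
    apply hV
    -- the double product
    have h1 : ∏ c : K, (c : MulAut V) (∏ i ∈ Finset.range m, (x ^ i) ((c : MulAut V)⁻¹ w)) = 1 := by
      apply Finset.prod_eq_one
      intro c _
      rw [hcon, map_one]
    have h2 : ∀ c : K, (c : MulAut V) (∏ i ∈ Finset.range m, (x ^ i) ((c : MulAut V)⁻¹ w)) =
        ∏ i ∈ Finset.range m, ((c : MulAut V) * x ^ i * (c : MulAut V)⁻¹) w := by
      intro c
      rw [map_prod]
      rfl
    simp only [h2] at h1
    rw [Finset.prod_comm] at h1
    -- split off i = 0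
    have h3 : ∀ i ∈ Finset.range m, i ≠ 0 →
        ∏ c : K, ((c : MulAut V) * x ^ i * (c : MulAut V)⁻¹) w = 1 := by
      intro i hi hi0
      have hilt : i < m := Finset.mem_range.mp hi
      have hipos : 0 < i := Nat.pos_of_ne_zero hi0
      -- ν c = c x^i c⁻¹ x^{-i}
      have hν : ∀ c : K, (c : MulAut V) * x ^ i * (c : MulAut V)⁻¹ * (x ^ i)⁻¹ ∈ K := by
        intro c
        have : (c : MulAut V) * x ^ i * (c : MulAut V)⁻¹ * (x ^ i)⁻¹ =
            (c : MulAut V) * (x ^ i * (c : MulAut V)⁻¹ * (x ^ i)⁻¹) := by group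
        rw [this]
        exact K.mul_mem c.2 (hxi i _ (K.inv_mem c.2))
      let ν : K → K := fun c => ⟨_, hν c⟩
      have hνinj : Function.Injective ν := by
        intro c c' hcc
        have h : (c : MulAut V) * x ^ i * (c : MulAut V)⁻¹ * (x ^ i)⁻¹ =
            (c' : MulAut V) * x ^ i * (c' : MulAut V)⁻¹ * (x ^ i)⁻¹ := congrArg Subtype.val hcc
        have h' : (c : MulAut V) * x ^ i * (c : MulAut V)⁻¹ =
            (c' : MulAut V) * x ^ i * (c' : MulAut V)⁻¹ := mul_right_cancel h
        have hcomm : ((c' : MulAut V)⁻¹ * (c : MulAut V)) * x ^ i =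
            x ^ i * ((c' : MulAut V)⁻¹ * (c : MulAut V)) := by
          have : (c : MulAut V) * x ^ i = (c' : MulAut V) * x ^ i * (c' : MulAut V)⁻¹ * c := by
            rw [← h']; group
          calc ((c' : MulAut V)⁻¹ * (c : MulAut V)) * x ^ i
              = (c' : MulAut V)⁻¹ * ((c : MulAut V) * x ^ i) := by group
            _ = (c' : MulAut V)⁻¹ * ((c' : MulAut V) * x ^ i * (c' : MulAut V)⁻¹ * c) := by
                rw [this]
            _ = x ^ i * ((c' : MulAut V)⁻¹ * (c : MulAut V)) := by group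
        have h1 := hfree i hipos hilt _ (K.mul_mem (K.inv_mem c'.2) c.2) hcomm
        apply Subtype.ext
        have : (c : MulAut V) = (c' : MulAut V) * ((c' : MulAut V)⁻¹ * (c : MulAut V)) := by group
        rw [this, h1, mul_one]
      have hνbij : Function.Bijective ν := Finite.injective_iff_bijective.mp hνinj
      let e : K ≃ K := Equiv.ofBijective ν hνbij
      have h4 : ∀ c : K, ((c : MulAut V) * x ^ i * (c : MulAut V)⁻¹) w =
          ((e c : K) : MulAut V) ((x ^ i) w) := by
        intro c
        change _ = ((c : MulAut V) * x ^ i * (c : MulAut V)⁻¹ * (x ^ i)⁻¹) ((x ^ i) w)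
        simp only [MulAut.mul_apply, MulAut.inv_apply_self]
      simp only [h4]
      rw [Equiv.prod_comp e (fun c : K => (c : MulAut V) ((x ^ i) w))]
      -- (x^i) w is special
      have h5 : (x ^ i) w = (x ^ i * k₀ * (x ^ i)⁻¹) ((x ^ i) v) * ((x ^ i) v)⁻¹ := by
        rw [hw, map_mul, map_inv]
        congr 1
        rw [MulAut.mul_apply, MulAut.inv_apply_self, MulAut.mul_apply]
      rw [h5]
      exact avg_special K _ (hxi i k₀ hk₀) _
    rw [Finset.prod_eq_single_of_mem 0 (Finset.mem_range.mpr hm) h3] at h1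
    simp only [pow_zero, mul_one, mul_inv_cancel, MulAut.one_apply, Finset.prod_const,
      Finset.card_univ] at h1
    rw [Nat.card_eq_fintype_card]
    exact h1
  ext v
  have := key v
  rw [MulAut.one_apply]
  exact mul_inv_eq_one.mp this

end Cfsg.Agent.Lib.Helper15.HH
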