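import Mathlib
import Cfsg.Agent.Lib.Helper15.HHa

/-!
# Hall–Higman Theorem B, abelian case: the abstract contradiction (helper15)
-/

set_option autoImplicit false

namespace Cfsg.Agent.Lib.Helper15.HH

open Finset

variable {H : Type*} [Group H]

/-- membership of coprime powers in a normal subgroup -/
theorem mem_of_pow_mem_coprime (Q : Subgroup H) [Q.Normal] (g : H) (a b : ℕ) (hab : Nat.Coprime a b)
    (ha : g ^ a ∈ Q) (hb : g ^ b ∈ Q) : g ∈ Q := by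
  have h1 : (QuotientGroup.mk' Q g) ^ a = 1 := by
    rw [← map_pow]; exact (QuotientGroup.eq_one_iff _).mpr ha
  have h2 : (QuotientGroup.mk' Q g) ^ b = 1 := by
    rw [← map_pow]; exact (QuotientGroup.eq_one_iff _).mpr hb
  have h3 : orderOf (QuotientGroup.mk' Q g) ∣ Nat.gcd a b :=
    Nat.dvd_gcd (orderOf_dvd_of_pow_eq_one h1) (orderOf_dvd_of_pow_eq_one h2)
  rw [hab, Nat.dvd_one, orderOf_eq_one_iff] at h3
  exact (QuotientGroup.eq_one_iff _).mp h3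

section
variable (Q : Subgroup H) [hQn : Q.Normal] {V : Type*} [CommGroup V] (ρ : H →* MulAut V)
  (τ : ↥Q →* V)

/-- the partial products `w m ∈ Q` with `w m * x^m = (u x)^m` -/
noncomputable def wseq (x : H) (u : Q) : ℕ → Q
  | 0 => 1
  | m + 1 => wseq x u m * ⟨x ^ m * u * (x ^ m)⁻¹, hQn.conj_mem _ u.2 _⟩

theorem wseq_spec (x : H) (u : Q) (m : ℕ) : ((wseq Q x u m : Q) : H) * x ^ m = ((u : H) * x) ^ m := by
  induction m with
  | zero => simp [wseq]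
  | succ m ih =>
    rw [pow_succ ((u : H) * x), ← ih]
    simp only [wseq, Subgroup.coe_mul]
    rw [pow_succ]; group

theorem wseq_tau (heq : ∀ (g : H) (u : Q), τ ⟨g * u * g⁻¹, hQn.conj_mem _ u.2 _⟩ = ρ g (τ u))
    (x : H) (u : Q) (m : ℕ) :
    τ (wseq Q x u m) = ∏ i ∈ Finset.range m, ((ρ x) ^ i) (τ u) := by
  induction m with
  | zero => simp [wseq]
  | succ m ih =>
    rw [Finset.prod_range_succ, ← ih]
    simp only [wseq, map_mul]
    rw [heq (x ^ m) u, map_pow]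

end

/-- The abstract contradiction. -/
theorem core_abs [Finite H] {p : ℕ} [hp : Fact p.Prime] (Q : Subgroup H) [hQn : Q.Normal]
    (hQ : IsPGroup p Q) {V : Type*} [CommGroup V] (ρ : H →* MulAut V) (τ : ↥Q →* V)
    (hτ : Function.Surjective τ)
    (heq : ∀ (g : H) (u : Q), τ ⟨g * u * g⁻¹, hQn.conj_mem _ u.2 _⟩ = ρ g (τ u))
    (hB : ∀ g : H, ρ g = 1 → ∃ a : ℕ, g ^ (p ^ a) ∈ Q)
    (x : H) (m : ℕ) (hm : 0 < m) (hexp : ∀ u : Q, ((u : H) * x) ^ m = 1) (hxm : x ^ m = 1)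
    (K : Subgroup H) (q : ℕ) (hq : q.Prime) (hqp : q ≠ p)
    (k1 : ∀ c ∈ K, x * c * x⁻¹ ∈ K)
    (k2 : ∀ c ∈ K, ∃ r : ℕ, c ^ (q ^ r) ∈ Q)
    (k3 : ∀ i, 0 < i → i < m → ∀ c ∈ K, c * x ^ i * c⁻¹ * (x ^ i)⁻¹ ∈ Q → c ∈ Q)
    (k4 : ∃ k ∈ K, k ∉ Q) : False := by
  classical
  haveI : Fact q.Prime := ⟨hq⟩
  have hcop : ∀ a r : ℕ, Nat.Coprime (p ^ a) (q ^ r) := fun a r =>
    Nat.Coprime.pow a r ((Nat.coprime_primes hp.out hq).mpr (Ne.symm hqp))
  -- Q acts trivially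
  have hQker : ∀ u : H, u ∈ Q → ρ u = 1 := by
    intro u hu
    ext v
    obtain ⟨t, rfl⟩ := hτ v
    rw [← heq u t, MulAut.one_apply]
    have : (⟨u * t * u⁻¹, hQn.conj_mem _ t.2 _⟩ : Q) = ⟨u, hu⟩ * t * ⟨u, hu⟩⁻¹ := rfl
    rw [this, map_mul, map_mul, map_inv, mul_comm (τ ⟨u, hu⟩), mul_inv_cancel_right]
  -- elements of K outside Q act nontrivially
  have hKne : ∀ k ∈ K, ρ k = 1 → k ∈ Q := by
    intro k hk h1
    obtain ⟨a, ha⟩ := hB k h1
    obtain ⟨r, hr⟩ := k2 k hk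
    exact mem_of_pow_mem_coprime Q k _ _ (hcop a r) ha hr
  -- x^i normalizes K
  have hxi : ∀ i : ℕ, ∀ c ∈ K, x ^ i * c * (x ^ i)⁻¹ ∈ K := by
    intro i
    induction i with
    | zero => intro c hc; simpa using hc
    | succ i ih =>
      intro c hc
      have h1 := k1 _ (ih c hc)
      have : x ^ (i + 1) * c * (x ^ (i + 1))⁻¹ = x * (x ^ i * c * (x ^ i)⁻¹) * x⁻¹ := by
        rw [pow_succ']; group
      rw [this]; exact h1
  set K' : Subgroup (MulAut V) := K.map ρ with hK'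
  haveI : Finite K' := by
    rw [hK']
    exact Finite.of_surjective (fun c : K => (⟨ρ c, Subgroup.mem_map_of_mem ρ c.2⟩ : K.map ρ))
      (by rintro ⟨_, c, hc, rfl⟩; exact ⟨⟨c, hc⟩, rfl⟩)
  have hK'q : IsPGroup q K' := by
    rintro ⟨_, c, hc, rfl⟩
    obtain ⟨r, hr⟩ := k2 c hc
    refine ⟨r, Subtype.ext ?_⟩
    rw [Subgroup.coe_pow, Subgroup.coe_one]
    change (ρ c) ^ (q ^ r) = 1
    rw [← map_pow]
    exact hQker _ hr
  obtain ⟨s, hs⟩ := IsPGroup.iff_card.mp hK'q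
  obtain ⟨k, hkK, hkQ⟩ := k4
  have hVp : ∀ v : V, ∃ j : ℕ, v ^ (p ^ j) = 1 := by
    intro v
    obtain ⟨t, rfl⟩ := hτ v
    obtain ⟨j, hj⟩ := hQ t
    exact ⟨j, by rw [← map_pow, hj, map_one]⟩
  obtain ⟨v, hv⟩ := norm_ne_one K' (ρ x)
    (by
      rintro _ ⟨c, hc, rfl⟩
      refine ⟨x * c * x⁻¹, k1 c hc, ?_⟩
      rw [map_mul, map_mul, map_inv])
    m
    (by
      rintro i hi0 him _ ⟨c, hc, rfl⟩ hcomm
      have h1 : ρ (c * x ^ i * c⁻¹ * (x ^ i)⁻¹) = 1 := by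
        rw [map_mul, map_mul, map_mul, map_inv, map_inv, map_pow, hcomm]
        group
      have hgK : c * x ^ i * c⁻¹ * (x ^ i)⁻¹ ∈ K := by
        have : c * x ^ i * c⁻¹ * (x ^ i)⁻¹ = c * (x ^ i * c⁻¹ * (x ^ i)⁻¹) := by group
        rw [this]
        exact K.mul_mem hc (hxi i _ (K.inv_mem hc))
      have h2 := hKne _ hgK h1
      exact hQker c (k3 i hi0 him c hc h2))
    (by
      intro v hv
      obtain ⟨j, hj⟩ := hVp v
      rw [hs] at hv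
      have h1 : orderOf v ∣ Nat.gcd (p ^ j) (q ^ s) :=
        Nat.dvd_gcd (orderOf_dvd_of_pow_eq_one hj) (orderOf_dvd_of_pow_eq_one hv)
      rw [hcop j s, Nat.dvd_one, orderOf_eq_one_iff] at h1
      exact h1)
    (ρ k) (Subgroup.mem_map_of_mem ρ hkK) (fun h => hkQ (hKne k hkK h)) hm
  obtain ⟨u, rfl⟩ := hτ v
  apply hv
  rw [← wseq_tau Q ρ τ heq x u m]
  have h1 := wseq_spec Q x u m
  rw [hxm, mul_one, hexp u] at h1
  have : wseq Q x u m = 1 := Subtype.ext h1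
  rw [this, map_one]

end Cfsg.Agent.Lib.Helper15.HH
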