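import Mathlib
import Cfsg.Agent.Lib.Helper15.HHb
import Cfsg.Agent.Lib.Helper3.QuotAct
import Cfsg.Agent.Lib.Helper3.BurnsideFrattini
import Cfsg.Agent.Lib.Helper14.FrattiniQuot

/-!
# Hall–Higman Theorem B, abelian case: the concrete contradiction (helper15)
-/

set_option autoImplicit false

namespace Cfsg.Agent.Lib.Helper15.HH

open Subgroup

variable {H : Type*} [Group H]

/-- The concrete contradiction: `Q` a self-centralizing normal `p`-subgroup, `x` with all of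
`Q x` of exponent dividing `m`, `K ≥ Q`-like subgroup which modulo `Q` is a `q`-group normalized
by `x` on which `x^i`, `0 < i < m`, act fixed-point-freely. -/
theorem core_conc [Finite H] {p : ℕ} [hp : Fact p.Prime] (Q : Subgroup H) [hQn : Q.Normal]
    (hQ : IsPGroup p Q) (hcent : centralizer (Q : Set H) ≤ Q)
    (x : H) (m : ℕ) (hm : 0 < m) (hexp : ∀ u : Q, ((u : H) * x) ^ m = 1) (hxm : x ^ m = 1)
    (K : Subgroup H) (q : ℕ) (hq : q.Prime) (hqp : q ≠ p)
    (k1 : ∀ c ∈ K, x * c * x⁻¹ ∈ K)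
    (k2 : ∀ c ∈ K, ∃ r : ℕ, c ^ (q ^ r) ∈ Q)
    (k3 : ∀ i, 0 < i → i < m → ∀ c ∈ K, c * x ^ i * c⁻¹ * (x ^ i)⁻¹ ∈ Q → c ∈ Q)
    (k4 : ∃ k ∈ K, k ∉ Q) : False := by
  classical
  obtain ⟨Φ, hΦ⟩ : ∃ Φ : Subgroup H, Φ = (frattini ↥Q).map Q.subtype := ⟨_, rfl⟩
  haveI hΦn : Φ.Normal := by rw [hΦ]; exact ConjAct.normal_of_characteristic_of_normal
  have hΦsub : Φ.subgroupOf Q = frattini ↥Q := by
    rw [hΦ]; exact Subgroup.comap_map_eq_self_of_injective Q.subtype_injective (frattini ↥Q)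
  have hΦmem : ∀ u : Q, (u : H) ∈ Φ ↔ u ∈ frattini ↥Q := by
    intro u
    rw [← hΦsub, Subgroup.mem_subgroupOf]
  -- commutativity of the Frattini quotient
  have hcomm : IsMulCommutative (↥Q ⧸ Φ.subgroupOf Q) := by
    rw [Subgroup.Normal.quotient_commutative_iff_commutator_le, hΦsub]
    exact Cfsg.Agent.Lib.Helper14.commutator_le_frattini_of_isPGroup' hQ
  let instV : CommGroup (↥Q ⧸ Φ.subgroupOf Q) :=
    { (inferInstance : Group (↥Q ⧸ Φ.subgroupOf Q)) with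
      mul_comm := fun a b => mul_comm' a b }
  refine core_abs (p := p) Q hQ (V := ↥Q ⧸ Φ.subgroupOf Q)
    (Cfsg.Agent.Lib.Helper3.quotAct Φ Q) (QuotientGroup.mk' (Φ.subgroupOf Q))
    (QuotientGroup.mk'_surjective _) ?_ ?_ x m hm hexp hxm K q hq hqp k1 k2 k3 k4
  · intro g u
    exact (Cfsg.Agent.Lib.Helper3.quotAct_mk' Φ Q g (u : H) u.2).symm
  · intro g hg
    have h1 := (Cfsg.Agent.Lib.Helper3.quotAct_eq_one_iff Φ Q g).mp hg
    have h2 : (MulAut.conjNormal g : MulAut Q) ∈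
        Cfsg.Agent.Lib.Helper3.trivOnFrattiniQuot ↥Q := by
      intro u
      rw [← hΦmem]
      have := h1 (u : H) u.2
      simpa [MulAut.conjNormal_apply] using this
    obtain ⟨a, ha⟩ :=
      Cfsg.Agent.Lib.Helper3.exists_pow_eq_one_of_trivOnFrattiniQuot hQ _ h2
    refine ⟨a, hcent ?_⟩
    rw [Subgroup.mem_centralizer_iff]
    intro u hu
    have h3 : (MulAut.conjNormal (g ^ (p ^ a)) : MulAut Q) = 1 := by
      rw [map_pow]; exact ha
    have h4 := congrArg (fun α : MulAut Q => ((α ⟨u, hu⟩ : Q) : H)) h3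
    simp only [MulAut.conjNormal_apply, MulAut.one_apply] at h4
    -- g^k u (g^k)⁻¹ = u
    calc u * g ^ (p ^ a) = (g ^ (p ^ a) * u * (g ^ (p ^ a))⁻¹) * g ^ (p ^ a) := by rw [h4]
      _ = g ^ (p ^ a) * u := by group

end Cfsg.Agent.Lib.Helper15.HH
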