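import Mathlib

/-!
# Hall–Higman Theorem B, abelian case: finding the `q`-group `K` (helper15)
-/

set_option autoImplicit false

namespace Cfsg.Agent.Lib.Helper15.HH

open Subgroup
open scoped Pointwise

variable {X : Type*} [Group X]

/-- A `p`-element normalizes some Sylow `q`-subgroup of a normal `p'`-subgroup. -/
theorem exists_invariant_sylow [Finite X] {p q : ℕ} [hp : Fact p.Prime] [hq : Fact q.Prime]
    (R : Subgroup X) [hRn : R.Normal] (hRcop : (Nat.card R).Coprime p) (x : X)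
    (hx : ∃ j : ℕ, x ^ (p ^ j) = 1) :
    ∃ T : Sylow q R, ∀ t ∈ T, (MulAut.conjNormal x : MulAut R) t ∈ T := by
  classical
  obtain ⟨j, hj⟩ := hx
  have hA : IsPGroup p (zpowers x) := by
    rintro ⟨_, k, rfl⟩
    refine ⟨j, Subtype.ext ?_⟩
    simp only [Subgroup.coe_pow, Subgroup.coe_one]
    rw [← zpow_natCast, ← zpow_mul, mul_comm, zpow_mul, zpow_natCast, hj, one_zpow]
  letI : MulAction (zpowers x) (Sylow q R) :=
    MulAction.compHom _ ((MulAut.conjNormal (H := R)).comp (zpowers x).subtype)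
  have hnd : ¬ p ∣ Nat.card (Sylow q R) := by
    obtain ⟨T₀⟩ : Nonempty (Sylow q R) := inferInstance
    intro hdvd
    have h1 : Nat.card (Sylow q R) ∣ Nat.card R :=
      (T₀.card_dvd_index).trans (Subgroup.index_dvd_card _)
    have h2 : p ∣ Nat.card R := hdvd.trans h1
    have h3 := Nat.Coprime.eq_one_of_dvd hRcop.symm h2
    exact hp.out.one_lt.ne' h3
  obtain ⟨T, hT⟩ := hA.nonempty_fixed_point_of_prime_not_dvd_card (Sylow q R) hnd
  refine ⟨T, ?_⟩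
  have h1 : (MulAut.conjNormal x : MulAut R) • T = T := hT ⟨x, mem_zpowers x⟩
  have h2 : (MulAut.conjNormal x : MulAut R) • (T : Subgroup R) = (T : Subgroup R) := by
    rw [← Sylow.pointwise_smul_def, h1]
  intro t ht
  have h3 := Subgroup.smul_mem_pointwise_smul t (MulAut.conjNormal x : MulAut R)
    (T : Subgroup R) ht
  rw [h2] at h3
  exact h3

end Cfsg.Agent.Lib.Helper15.HH

namespace Cfsg.Agent.Lib.Helper15.HH

open Subgroup

variable {X : Type*} [Group X]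

/-- the commutator map `t ↦ t (x₀ t⁻¹ x₀⁻¹)` on an abelian `x₀`-invariant subgroup -/
noncomputable def thetaHom (T' : Subgroup X) (x₀ : X)
    (hinv : ∀ t ∈ T', x₀ * t * x₀⁻¹ ∈ T') (hcomm : ∀ a ∈ T', ∀ b ∈ T', a * b = b * a) :
    T' →* X :=
  MonoidHom.mk' (fun t => (t : X) * (x₀ * (t : X)⁻¹ * x₀⁻¹)) (by
    intro s t
    have hb : x₀ * (t : X)⁻¹ * x₀⁻¹ ∈ T' := hinv _ (T'.inv_mem t.2)
    have hc : x₀ * (s : X)⁻¹ * x₀⁻¹ ∈ T' := hinv _ (T'.inv_mem s.2)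
    have e1 : x₀ * ((s * t : T') : X)⁻¹ * x₀⁻¹ =
        (x₀ * (t : X)⁻¹ * x₀⁻¹) * (x₀ * (s : X)⁻¹ * x₀⁻¹) := by
      rw [Subgroup.coe_mul]; group
    have e2 := hcomm _ hc _ t.2
    have e3 := hcomm _ hc _ hb
    change ((s * t : T') : X) * (x₀ * ((s * t : T') : X)⁻¹ * x₀⁻¹) =
      (s : X) * (x₀ * (s : X)⁻¹ * x₀⁻¹) * ((t : X) * (x₀ * (t : X)⁻¹ * x₀⁻¹))
    rw [e1, Subgroup.coe_mul]
    calc (s : X) * t * (x₀ * (t : X)⁻¹ * x₀⁻¹ * (x₀ * (s : X)⁻¹ * x₀⁻¹))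
        = (s : X) * (t * ((x₀ * (t : X)⁻¹ * x₀⁻¹) * (x₀ * (s : X)⁻¹ * x₀⁻¹))) := by group
      _ = (s : X) * (t * ((x₀ * (s : X)⁻¹ * x₀⁻¹) * (x₀ * (t : X)⁻¹ * x₀⁻¹))) := by rw [e3]
      _ = (s : X) * ((t * (x₀ * (s : X)⁻¹ * x₀⁻¹)) * (x₀ * (t : X)⁻¹ * x₀⁻¹)) := by group
      _ = (s : X) * (((x₀ * (s : X)⁻¹ * x₀⁻¹) * t) * (x₀ * (t : X)⁻¹ * x₀⁻¹)) := by rw [e2]
      _ = _ := by group)

theorem thetaHom_apply (T' : Subgroup X) (x₀ : X)
    (hinv : ∀ t ∈ T', x₀ * t * x₀⁻¹ ∈ T') (hcomm : ∀ a ∈ T', ∀ b ∈ T', a * b = b * a) (t : T') :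
    thetaHom T' x₀ hinv hcomm t = (t : X) * (x₀ * (t : X)⁻¹ * x₀⁻¹) := rfl

theorem exists_K [Finite X] {p : ℕ} [hp : Fact p.Prime] (R : Subgroup X) [hRn : R.Normal]
    (hRcop : (Nat.card R).Coprime p) (hRself : centralizer (R : Set X) ≤ R)
    (hab : ∀ (q : ℕ) [Fact q.Prime], q ≠ p → ∀ S : Sylow q X, ∀ a ∈ S, ∀ b ∈ S, a * b = b * a)
    (x : X) (n : ℕ) (hx1 : x ^ (p ^ (n + 1)) = 1) (hx0 : x ^ (p ^ n) ≠ 1) :
    ∃ (K : Subgroup X) (q : ℕ), q.Prime ∧ q ≠ p ∧ IsPGroup q K ∧ K ≠ ⊥ ∧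
      (∀ c ∈ K, x * c * x⁻¹ ∈ K) ∧
      (∀ i, 0 < i → i < p ^ (n + 1) → ∀ c ∈ K, c * x ^ i = x ^ i * c → c = 1) := by
  classical
  obtain ⟨x₀, hx₀⟩ : ∃ x₀ : X, x₀ = x ^ (p ^ n) := ⟨_, rfl⟩
  have hx₀ne : x₀ ≠ 1 := by rw [hx₀]; exact hx0
  have hx₀p : x₀ ^ p = 1 := by rw [hx₀, ← pow_mul, ← pow_succ]; exact hx1
  have hord : orderOf x₀ = p := orderOf_eq_prime hx₀p hx₀ne
  have hxx₀ : Commute x x₀ := by rw [hx₀]; exact Commute.pow_right (Commute.refl x) _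
  -- (1) x₀ does not centralize R
  have h1 : x₀ ∉ centralizer (R : Set X) := by
    intro h
    have hR : x₀ ∈ R := hRself h
    have hd1 : orderOf (⟨x₀, hR⟩ : R) ∣ Nat.card R := orderOf_dvd_natCard _
    rw [Subgroup.orderOf_mk, hord] at hd1
    have := Nat.Coprime.eq_one_of_dvd hRcop.symm hd1
    exact hp.out.one_lt.ne' this
  -- (2) the prime q
  obtain ⟨C₀, hC₀⟩ : ∃ C₀ : Subgroup R, C₀ = (centralizer ({x₀} : Set X)).subgroupOf R := ⟨_, rfl⟩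
  have hC₀top : C₀ ≠ ⊤ := by
    intro h
    apply h1
    rw [Subgroup.mem_centralizer_iff]
    intro r hr
    have : (⟨r, hr⟩ : R) ∈ C₀ := by rw [h]; trivial
    rw [hC₀, Subgroup.mem_subgroupOf, Subgroup.mem_centralizer_iff] at this
    exact (this x₀ (Set.mem_singleton x₀)).symm
  have hidx : C₀.index ≠ 1 := fun h => hC₀top (Subgroup.index_eq_one.mp h)
  obtain ⟨q, hqdef⟩ : ∃ q : ℕ, q = Nat.minFac C₀.index := ⟨_, rfl⟩
  have hq : q.Prime := by rw [hqdef]; exact Nat.minFac_prime hidx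
  have hqd : q ∣ C₀.index := by rw [hqdef]; exact Nat.minFac_dvd _
  have hqp : q ≠ p := by
    intro h
    have h2 : p ∣ Nat.card R := by rw [← h]; exact hqd.trans (Subgroup.index_dvd_card _)
    have := Nat.Coprime.eq_one_of_dvd hRcop.symm h2
    exact hp.out.one_lt.ne' this
  haveI : Fact q.Prime := ⟨hq⟩
  -- (3) invariant Sylow
  obtain ⟨T, hTinv⟩ := exists_invariant_sylow (p := p) (q := q) R hRcop x ⟨n + 1, hx1⟩
  obtain ⟨T', hT'⟩ : ∃ T' : Subgroup X, T' = (T : Subgroup R).map R.subtype := ⟨_, rfl⟩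
  have hT'q : IsPGroup q T' := by rw [hT']; exact T.isPGroup'.map _
  have hT'inv : ∀ t ∈ T', x * t * x⁻¹ ∈ T' := by
    intro t ht
    rw [hT'] at ht ⊢
    obtain ⟨t0, ht0, rfl⟩ := ht
    exact ⟨_, hTinv t0 ht0, by simp [MulAut.conjNormal_apply]⟩
  have hT'pow : ∀ j : ℕ, ∀ t ∈ T', x ^ j * t * (x ^ j)⁻¹ ∈ T' := by
    intro j
    induction j with
    | zero => intro t ht; simpa using ht
    | succ j ih =>
      intro t ht
      have h2 := hT'inv _ (ih t ht)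
      have : x ^ (j + 1) * t * (x ^ (j + 1))⁻¹ = x * (x ^ j * t * (x ^ j)⁻¹) * x⁻¹ := by
        rw [pow_succ']; group
      rw [this]; exact h2
  have hT'inv₀ : ∀ t ∈ T', x₀ * t * x₀⁻¹ ∈ T' := by
    intro t ht; rw [hx₀]; exact hT'pow _ t ht
  -- (5) abelian
  obtain ⟨S, hS⟩ := IsPGroup.exists_le_sylow hT'q
  have hcomm : ∀ a ∈ T', ∀ b ∈ T', a * b = b * a := fun a ha b hb =>
    hab q hqp S a (hS ha) b (hS hb)
  -- (6) x₀ moves T'
  have h6 : ∃ t₁ ∈ T', x₀ * t₁ ≠ t₁ * x₀ := by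
    by_contra hcon
    push Not at hcon
    have hle : (T : Subgroup R) ≤ C₀ := by
      intro t ht
      rw [hC₀, Subgroup.mem_subgroupOf, Subgroup.mem_centralizer_iff]
      intro y hy
      rw [Set.mem_singleton_iff] at hy
      subst hy
      have : (t : X) ∈ T' := by rw [hT']; exact ⟨t, ht, rfl⟩
      exact hcon _ this
    have hdvd : C₀.index ∣ (T : Subgroup R).index := Subgroup.index_dvd_of_le hle
    exact T.not_dvd_index (hqd.trans hdvd)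
  obtain ⟨t₁, ht₁, hne₁⟩ := h6
  -- (7) K
  obtain ⟨θ, hθ⟩ : ∃ θ : T' →* X, θ = thetaHom T' x₀ hT'inv₀ hcomm := ⟨_, rfl⟩
  have hθa : ∀ t : T', θ t = (t : X) * (x₀ * (t : X)⁻¹ * x₀⁻¹) := by
    intro t; rw [hθ]; rfl
  refine ⟨θ.range, q, hq, hqp, ?_, ?_, ?_, ?_⟩
  · -- q-group
    apply hT'q.to_le
    rintro _ ⟨t, rfl⟩
    rw [hθa]
    exact T'.mul_mem t.2 (hT'inv₀ _ (T'.inv_mem t.2))
  · -- nontrivial
    intro hbot
    have : θ ⟨t₁, ht₁⟩ ∈ θ.range := ⟨_, rfl⟩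
    rw [hbot, Subgroup.mem_bot, hθa] at this
    apply hne₁
    have h2 : t₁ = (x₀ * t₁⁻¹ * x₀⁻¹)⁻¹ := eq_inv_of_mul_eq_one_left this
    have h3 : (x₀ * t₁⁻¹ * x₀⁻¹)⁻¹ = x₀ * t₁ * x₀⁻¹ := by group
    rw [h3] at h2
    calc x₀ * t₁ = (x₀ * t₁ * x₀⁻¹) * x₀ := by group
      _ = t₁ * x₀ := by rw [← h2]
  · -- x-invariant
    rintro _ ⟨t, rfl⟩
    refine ⟨⟨x * t * x⁻¹, hT'inv _ t.2⟩, ?_⟩
    rw [hθa, hθa]
    simp only
    have hc : x₀ * x = x * x₀ := hxx₀.eq.symm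
    have hc' : x⁻¹ * x₀⁻¹ = x₀⁻¹ * x⁻¹ := by
      rw [← mul_inv_rev, ← mul_inv_rev, hc]
    calc x * (t : X) * x⁻¹ * (x₀ * (x * (t : X) * x⁻¹)⁻¹ * x₀⁻¹)
        = x * (t : X) * x⁻¹ * ((x₀ * x) * (t : X)⁻¹ * (x⁻¹ * x₀⁻¹)) := by group
      _ = x * (t : X) * x⁻¹ * ((x * x₀) * (t : X)⁻¹ * (x₀⁻¹ * x⁻¹)) := by rw [hc, hc']
      _ = x * ((t : X) * (x₀ * (t : X)⁻¹ * x₀⁻¹)) * x⁻¹ := by group
  · -- fixed-point-freeness
    rintro i hi0 hilt _ ⟨t, rfl⟩ hci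
    set c := θ t with hc
    -- step a: c commutes with x₀
    obtain ⟨a, b, hb, hiab⟩ := Nat.exists_eq_pow_mul_and_not_dvd (Nat.pos_iff_ne_zero.mp hi0) p
      hp.out.one_lt.ne'
    have han : a ≤ n := by
      by_contra hcon
      push Not at hcon
      have h2 : p ^ (n + 1) ≤ p ^ a := Nat.pow_le_pow_right hp.out.pos hcon
      have hbpos : 0 < b := by
        rcases Nat.eq_zero_or_pos b with h | h
        · exfalso; apply hb; rw [h]; exact dvd_zero p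
        · exact h
      have h3 : p ^ a ≤ i := by rw [hiab]; exact Nat.le_mul_of_pos_right _ hbpos
      omega
    have hcomm_i : Commute c (x ^ i) := hci
    have h4 : Commute c (x₀ ^ b) := by
      have h5 : (x ^ i) ^ (p ^ (n - a)) = x₀ ^ b := by
        rw [hx₀, ← pow_mul, ← pow_mul, hiab]
        congr 1
        have : p ^ n = p ^ a * p ^ (n - a) := by rw [← pow_add]; congr 1; omega
        rw [this]; ring
      rw [← h5]
      exact hcomm_i.pow_right _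
    have hbcop : Nat.Coprime b (orderOf x₀) := by
      rw [hord]
      exact ((Nat.Prime.coprime_iff_not_dvd hp.out).mpr hb).symm
    obtain ⟨e, he⟩ := exists_pow_eq_self_of_coprime hbcop
    have hcx₀ : Commute c x₀ := by
      rw [← he]; exact h4.pow_right _
    -- step b: c^p = 1
    have hσt : x₀ * (t : X) * x₀⁻¹ = c⁻¹ * t := by
      have h5 : c = (t : X) * (x₀ * (t : X)⁻¹ * x₀⁻¹) := hθa t
      have h6 : c * (x₀ * (t : X) * x₀⁻¹) = t := by rw [h5]; group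
      calc x₀ * (t : X) * x₀⁻¹ = c⁻¹ * (c * (x₀ * (t : X) * x₀⁻¹)) := by group
        _ = c⁻¹ * t := by rw [h6]
    have hpow : ∀ j : ℕ, x₀ ^ j * (t : X) * (x₀ ^ j)⁻¹ = (c⁻¹) ^ j * t := by
      intro j
      induction j with
      | zero => simp
      | succ j ih =>
        have hcj : x₀ * (c⁻¹) ^ j * x₀⁻¹ = (c⁻¹) ^ j := by
          have : Commute x₀ ((c⁻¹) ^ j) := (hcx₀.symm.inv_right).pow_right j
          rw [this.eq]; group
        calc x₀ ^ (j + 1) * (t : X) * (x₀ ^ (j + 1))⁻¹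
            = x₀ * (x₀ ^ j * (t : X) * (x₀ ^ j)⁻¹) * x₀⁻¹ := by rw [pow_succ']; group
          _ = x₀ * ((c⁻¹) ^ j * t) * x₀⁻¹ := by rw [ih]
          _ = (x₀ * (c⁻¹) ^ j * x₀⁻¹) * (x₀ * (t : X) * x₀⁻¹) := by group
          _ = (c⁻¹) ^ j * (c⁻¹ * t) := by rw [hcj, hσt]
          _ = (c⁻¹) ^ (j + 1) * t := by rw [pow_succ]; group
    have hcp : c ^ p = 1 := by
      have h5 := hpow p
      rw [hx₀p, one_mul, inv_one, mul_one] at h5
      have h6 : (c⁻¹) ^ p = 1 := by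
        have : (c⁻¹) ^ p * (t : X) = 1 * t := by rw [one_mul]; exact h5.symm
        exact mul_right_cancel this
      rw [inv_pow, inv_eq_one] at h6
      exact h6
    -- step c
    have hcT : c ∈ T' := by
      rw [hc, hθa]
      exact T'.mul_mem t.2 (hT'inv₀ _ (T'.inv_mem t.2))
    obtain ⟨r, hr⟩ := hT'q ⟨c, hcT⟩
    have hr' : c ^ (q ^ r) = 1 := by
      have := congrArg Subtype.val hr
      simpa using this
    have hd : orderOf c ∣ Nat.gcd p (q ^ r) :=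
      Nat.dvd_gcd (orderOf_dvd_of_pow_eq_one hcp) (orderOf_dvd_of_pow_eq_one hr')
    have hg : Nat.gcd p (q ^ r) = 1 :=
      Nat.Coprime.pow_right r ((Nat.coprime_primes hp.out hq).mpr (Ne.symm hqp))
    rw [hg, Nat.dvd_one, orderOf_eq_one_iff] at hd
    exact hd

end Cfsg.Agent.Lib.Helper15.HH
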