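import Mathlib
import Cfsg.Agent.Lib.Helper15.HHc
import Cfsg.Agent.Lib.Helper15.HHd
import Cfsg.Agent.Lib.Helper14.DualHH
import Cfsg.Agent.Lib.Helper1.ThompsonA7
import Cfsg.Agent.Lib.Helper2.Cores
import Cfsg.Agent.Lib.Helper3.PSolvable

/-!
# Hall–Higman: `x^{p^n} ∈ O_p(H)` when all `p`-elements have order dividing `p^{n+1}` and the
Sylow `q`-subgroups (`q ≠ p`) are abelian (helper15)
-/

set_option autoImplicit false

namespace Cfsg.Agent.Lib.Helper15.HH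

open Subgroup Cfsg

variable {H : Type*} [Group H]

theorem pow_mem_pCore [Finite H] {p : ℕ} [hp : Fact p.Prime] (hsol : IsPSolvable p H)
    (hcent : centralizer (pCore p H : Set H) ≤ pCore p H)
    (hab : ∀ (q : ℕ) [Fact q.Prime], q ≠ p → ∀ S : Sylow q H, ∀ a ∈ S, ∀ b ∈ S, a * b = b * a)
    (n : ℕ) (hexp : ∀ y : H, (∃ j : ℕ, y ^ (p ^ j) = 1) → y ^ (p ^ (n + 1)) = 1)
    (x : H) (hx : ∃ j : ℕ, x ^ (p ^ j) = 1) : x ^ (p ^ n) ∈ pCore p H := by
  classical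
  by_contra hnot
  obtain ⟨Q, hQdef⟩ : ∃ Q : Subgroup H, Q = pCore p H := ⟨_, rfl⟩
  rw [← hQdef] at hcent hnot
  haveI hQn : Q.Normal := by rw [hQdef]; exact Cfsg.Agent.Lib.Helper2.pCore_normal p
  have hQp : IsPGroup p Q := by rw [hQdef]; exact Cfsg.Agent.Lib.Helper2.pCore_isPGroup p
  have hOp : ∀ R : Subgroup H, R.Normal → IsPGroup p R → R ≤ Q := by
    intro R hRn hRp; rw [hQdef]; exact Cfsg.Agent.Lib.Helper2.le_pCore hRn hRp
  have hOq : pCore p (H ⧸ Q) = ⊥ :=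
    Cfsg.Agent.Lib.Helper1.ThompsonA.pCore_quotient_eq_bot Q hQp hOp
  have hPSq : IsPSolvable p (H ⧸ Q) :=
    Cfsg.Agent.Lib.Helper3.isPSolvable_quotient hp.out hsol Q
  obtain ⟨R, hRdef⟩ : ∃ R : Subgroup (H ⧸ Q), R = pPrimeCore p (H ⧸ Q) := ⟨_, rfl⟩
  haveI hRn : R.Normal := by rw [hRdef]; exact Cfsg.Agent.Lib.Helper2.pPrimeCore_normal p
  have hRcop : (Nat.card R).Coprime p := by
    rw [hRdef]; exact Cfsg.Agent.Lib.Helper2.pPrimeCore_coprime p
  have hRself : centralizer (R : Set (H ⧸ Q)) ≤ R := by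
    rw [hRdef]; exact Cfsg.Agent.Lib.Helper14.centralizer_pPrimeCore_le hPSq hOq
  obtain ⟨π, hπdef⟩ : ∃ π : H →* H ⧸ Q, π = QuotientGroup.mk' Q := ⟨_, rfl⟩
  have hπs : Function.Surjective π := by rw [hπdef]; exact QuotientGroup.mk'_surjective Q
  have hker : ∀ g : H, π g = 1 ↔ g ∈ Q := by
    intro g; rw [hπdef]; exact QuotientGroup.eq_one_iff g
  -- Sylow q-subgroups of the quotient are abelian
  have habX : ∀ (q : ℕ) [Fact q.Prime], q ≠ p → ∀ S : Sylow q (H ⧸ Q),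
      ∀ a ∈ S, ∀ b ∈ S, a * b = b * a := by
    intro q _ hqp S a ha b hb
    obtain ⟨S₀, hS₀⟩ := Sylow.mapSurjective_surjective hπs q S
    have ha' : a ∈ ((S₀.mapSurjective hπs : Sylow q (H ⧸ Q)) : Subgroup (H ⧸ Q)) := by
      rw [hS₀]; exact ha
    have hb' : b ∈ ((S₀.mapSurjective hπs : Sylow q (H ⧸ Q)) : Subgroup (H ⧸ Q)) := by
      rw [hS₀]; exact hb
    rw [Sylow.coe_mapSurjective] at ha' hb'
    obtain ⟨a0, ha0, rfl⟩ := ha'
    obtain ⟨b0, hb0, rfl⟩ := hb'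
    rw [← map_mul, ← map_mul, hab q hqp S₀ a0 ha0 b0 hb0]
  have hxm : x ^ (p ^ (n + 1)) = 1 := hexp x hx
  have hx1 : (π x) ^ (p ^ (n + 1)) = 1 := by rw [← map_pow, hxm, map_one]
  have hx0 : (π x) ^ (p ^ n) ≠ 1 := by
    rw [← map_pow]
    intro h
    exact hnot ((hker _).mp h)
  obtain ⟨K', q, hq, hqp, hKq, hKne, hKinv, hKfree⟩ :=
    exists_K (p := p) R hRcop hRself habX (π x) n hx1 hx0
  refine core_conc (p := p) Q hQp hcent x (p ^ (n + 1)) (pow_pos hp.out.pos _) ?_ hxm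
    (K'.comap π) q hq hqp ?_ ?_ ?_ ?_
  · -- exponent on the coset Q x
    intro u
    apply hexp
    have h1 : π ((u : H) * x) = π x := by
      rw [map_mul, (hker _).mpr u.2, one_mul]
    have h2 : ((u : H) * x) ^ (p ^ (n + 1)) ∈ Q := by
      rw [← hker, map_pow, h1, hx1]
    obtain ⟨r, hr⟩ := hQp ⟨_, h2⟩
    have hr' : (((u : H) * x) ^ (p ^ (n + 1))) ^ (p ^ r) = 1 := by
      have := congrArg Subtype.val hr
      simpa using this
    exact ⟨n + 1 + r, by rw [pow_add, pow_mul]; exact hr'⟩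
  · intro c hc
    rw [Subgroup.mem_comap] at hc ⊢
    rw [map_mul, map_mul, map_inv]
    exact hKinv _ hc
  · intro c hc
    rw [Subgroup.mem_comap] at hc
    obtain ⟨r, hr⟩ := hKq ⟨π c, hc⟩
    refine ⟨r, ?_⟩
    rw [← hker, map_pow]
    have := congrArg Subtype.val hr
    simpa using this
  · intro i hi0 hilt c hc h
    rw [Subgroup.mem_comap] at hc
    rw [← hker]
    apply hKfree i hi0 hilt _ hc
    have h1 := (hker _).mpr h
    rw [map_mul, map_mul, map_mul, map_inv, map_inv, map_pow] at h1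
    have h2 : π c * π x ^ i * (π c)⁻¹ = π x ^ i := by
      have := mul_inv_eq_one.mp h1
      exact this
    calc π c * π x ^ i = (π c * π x ^ i * (π c)⁻¹) * π c := by group
      _ = π x ^ i * π c := by rw [h2]
  · obtain ⟨⟨k'v, hk'm⟩, hk'1⟩ := (Subgroup.ne_bot_iff_exists_ne_one).mp hKne
    obtain ⟨k, hk⟩ := hπs k'v
    refine ⟨k, ?_, ?_⟩
    · rw [Subgroup.mem_comap, hk]; exact hk'm
    · intro hkQ
      apply hk'1
      have h1 := (hker k).mpr hkQ
      rw [hk] at h1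
      exact Subtype.ext h1

end Cfsg.Agent.Lib.Helper15.HH
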