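import Mathlib
import Cfsg.Agent.Lib.Helper15.HHe
import Cfsg.Agent.Lib.Helper2.PLength
import Cfsg.Agent.S0634

/-!
# Hall–Higman: `p`-length at most `n` when the Sylow `p`-subgroups have exponent `p^n` and the
Sylow `q`-subgroups, `q ≠ p`, are abelian (helper15)
-/

set_option autoImplicit false

namespace Cfsg.Agent.Lib.Helper15.HH

open Subgroup Cfsg Cfsg.Agent.Lib.Helper2

universe u

/-- lifting a `p`-element along a surjection -/
theorem lift_p_element {G G' : Type*} [Group G] [Finite G] [Group G'] {p : ℕ} [hp : Fact p.Prime]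
    (f : G →* G') (hf : Function.Surjective f) (y' : G') (hy' : ∃ j : ℕ, y' ^ (p ^ j) = 1) :
    ∃ y : G, f y = y' ∧ ∃ j : ℕ, y ^ (p ^ j) = 1 := by
  obtain ⟨j, hj⟩ := hy'
  obtain ⟨y₀, hy₀⟩ := hf y'
  have hord : orderOf y₀ ≠ 0 := (orderOf_pos y₀).ne'
  obtain ⟨a, b, hb, hab⟩ := Nat.exists_eq_pow_mul_and_not_dvd hord p hp.out.one_lt.ne'
  have hdvd : orderOf y' ∣ p ^ j := orderOf_dvd_of_pow_eq_one hj
  obtain ⟨k, _, hk⟩ := (Nat.dvd_prime_pow hp.out).mp hdvd
  have hcop : Nat.Coprime b (orderOf y') := by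
    rw [hk]
    exact Nat.Coprime.pow_right k ((Nat.Prime.coprime_iff_not_dvd hp.out).mpr hb).symm
  obtain ⟨m, hm⟩ := exists_pow_eq_self_of_coprime hcop
  refine ⟨(y₀ ^ b) ^ m, ?_, a, ?_⟩
  · rw [map_pow, map_pow, hy₀, hm]
  · rw [← pow_mul, ← pow_mul]
    have : b * (m * p ^ a) = orderOf y₀ * m := by rw [hab]; ring
    rw [this, pow_mul, pow_orderOf_eq_one, one_pow]

theorem plength_le_aux {p : ℕ} [hp : Fact p.Prime] : ∀ (n : ℕ) (G : Type u) [Group G] [Finite G],
    IsPSolvable p G →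
    (∀ (q : ℕ) [Fact q.Prime], q ≠ p → ∀ S : Sylow q G, ∀ a ∈ S, ∀ b ∈ S, a * b = b * a) →
    (∀ y : G, (∃ j : ℕ, y ^ (p ^ j) = 1) → y ^ (p ^ n) = 1) → PLengthLE p n G := by
  intro n
  induction n with
  | zero =>
    intro G _ _ hsol hab hexp
    apply plength_zero_of_not_dvd
    intro hdvd
    obtain ⟨y, hy⟩ := exists_prime_orderOf_dvd_card' p hdvd
    have h1 : y ^ (p ^ 0) = 1 := hexp y ⟨1, by rw [pow_one, ← hy]; exact pow_orderOf_eq_one y⟩
    rw [pow_zero, pow_one] at h1
    rw [h1, orderOf_one] at hy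
    exact hp.out.one_lt.ne' hy.symm
  | succ n ih =>
    intro G _ _ hsol hab hexp
    apply PLengthLE.of_quot
    -- transfer of abelian Sylows to quotients
    have habq : ∀ (N : Subgroup G) [N.Normal] (q : ℕ) [Fact q.Prime], q ≠ p →
        ∀ S : Sylow q (G ⧸ N), ∀ a ∈ S, ∀ b ∈ S, a * b = b * a := by
      intro N _ q _ hqp S a ha b hb
      have hπs : Function.Surjective (QuotientGroup.mk' N) := QuotientGroup.mk'_surjective N
      obtain ⟨S₀, hS₀⟩ := Sylow.mapSurjective_surjective hπs q S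
      have ha' : a ∈ ((S₀.mapSurjective hπs : Sylow q (G ⧸ N)) : Subgroup (G ⧸ N)) := by
        rw [hS₀]; exact ha
      have hb' : b ∈ ((S₀.mapSurjective hπs : Sylow q (G ⧸ N)) : Subgroup (G ⧸ N)) := by
        rw [hS₀]; exact hb
      rw [Sylow.coe_mapSurjective] at ha' hb'
      obtain ⟨a0, ha0, rfl⟩ := ha'
      obtain ⟨b0, hb0, rfl⟩ := hb'
      rw [← map_mul, ← map_mul, hab q hqp S₀ a0 ha0 b0 hb0]
    refine ih (G ⧸ (upperPSeries p G 2).1)
      (Cfsg.Agent.Lib.Helper3.isPSolvable_quotient hp.out hsol _) (habq _) ?_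
    intro y' hy'
    obtain ⟨y, rfl, hy⟩ := lift_p_element (p := p) (QuotientGroup.mk' (upperPSeries p G 2).1)
      (QuotientGroup.mk'_surjective _) y' hy'
    rw [← map_pow, QuotientGroup.mk'_apply, QuotientGroup.eq_one_iff]
    -- the core claim in H = G / U₁
    have hU2 : (upperPSeries p G 2).1 =
        (pCore p (G ⧸ (upperPSeries p G 1).1)).comap (QuotientGroup.mk' _) :=
      upperPSeries_succ_of_odd p G 1 (by decide)
    have hπs : Function.Surjective (QuotientGroup.mk' (upperPSeries p G 1).1) :=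
      QuotientGroup.mk'_surjective _
    have hmap : (upperPSeries p G 2).1.map (QuotientGroup.mk' (upperPSeries p G 1).1) =
        pCore p (G ⧸ (upperPSeries p G 1).1) := by
      rw [hU2]; exact Subgroup.map_comap_eq_self_of_surjective hπs _
    have h634 : Subgroup.centralizer ((((upperPSeries p G 2).1.map
        (QuotientGroup.mk' (upperPSeries p G 1).1)) : Subgroup (G ⧸ (upperPSeries p G 1).1)) :
          Set (G ⧸ (upperPSeries p G 1).1)) ≤
        (upperPSeries p G 2).1.map (QuotientGroup.mk' (upperPSeries p G 1).1) :=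
      Cfsg.Agent.S0634.result hsol 0
    rw [hmap] at h634
    rw [hU2, Subgroup.mem_comap, map_pow]
    apply pow_mem_pCore (p := p)
      (Cfsg.Agent.Lib.Helper3.isPSolvable_quotient hp.out hsol _) h634 (habq _) n
    · intro z' hz'
      obtain ⟨z, rfl, hz⟩ := lift_p_element (p := p) (QuotientGroup.mk' (upperPSeries p G 1).1)
        hπs z' hz'
      rw [← map_pow, hexp z hz, map_one]
    · obtain ⟨j, hj⟩ := hy
      exact ⟨j, by rw [← map_pow, hj, map_one]⟩

end Cfsg.Agent.Lib.Helper15.HH
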