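import Mathlib

/-!
# An irreducible action of a cyclic group of prime order `p` on an elementary abelian `q`-group

If `σ` is an endomorphism of a finite `ZMod q`-module `V` with `σ ^ p = 1`, `σ ≠ 1`, leaving no
proper nonzero submodule invariant, then `|V| = q ^ e` with `e` the multiplicative order of `q`
modulo `p`.
-/

set_option autoImplicit false

namespace Cfsg.Agent.Lib.Helper15

open scoped IsMulCommutative

theorem natDegree_X_pow_sub_X_of_nontrivial (R : Type*) [CommRing R] [Nontrivial R] {N : ℕ}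
    (hN : 1 < N) : (Polynomial.X ^ N - Polynomial.X : Polynomial R).natDegree = N := by
  have h1 : (Polynomial.X : Polynomial R).degree < (Polynomial.X ^ N : Polynomial R).degree := by
    rw [Polynomial.degree_X_pow, Polynomial.degree_X]
    exact mod_cast hN
  rw [Polynomial.natDegree_eq_of_degree_eq (Polynomial.degree_sub_eq_left_of_degree_lt h1),
    Polynomial.natDegree_X_pow]

/-- A finite commutative domain all of whose elements satisfy `k ^ N = k` has at most `N`
elements. -/
theorem card_le_of_forall_pow_eq (K : Type*) [CommRing K] [IsDomain K] [Finite K] (N : ℕ)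
    (hN : 1 < N) (h : ∀ k : K, k ^ N = k) : Nat.card K ≤ N := by
  classical
  haveI : Fintype K := Fintype.ofFinite K
  have hdeg := natDegree_X_pow_sub_X_of_nontrivial K hN
  have hne : (Polynomial.X ^ N - Polynomial.X : Polynomial K) ≠ 0 := by
    apply Polynomial.ne_zero_of_natDegree_gt (n := 1)
    rw [hdeg]; exact hN
  calc Nat.card K = Fintype.card K := Nat.card_eq_fintype_card
    _ = (Finset.univ : Finset K).card := rfl
    _ ≤ (Polynomial.X ^ N - Polynomial.X : Polynomial K).roots.toFinset.card := by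
        apply Finset.card_le_card
        intro k _
        rw [Multiset.mem_toFinset, Polynomial.mem_roots hne]
        simp [h k]
    _ ≤ Multiset.card (Polynomial.X ^ N - Polynomial.X : Polynomial K).roots :=
        Multiset.toFinset_card_le _
    _ ≤ _ := Polynomial.card_roots' _
    _ = N := hdeg

section
variable {q : ℕ} [hq : Fact q.Prime] {V : Type*} [AddCommGroup V] [Module (ZMod q) V] [Finite V]

theorem finite_end : Finite (Module.End (ZMod q) V) :=
  Finite.of_injective (fun f : Module.End (ZMod q) V => (f : V → V)) DFunLike.coe_injective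

/-- Every element of `(ZMod q)[σ]` is fixed by `k ↦ k ^ (q ^ e)` when `σ` is. -/
theorem pow_eq_self_of_mem_adjoin [Nontrivial V] (σ : Module.End (ZMod q) V) (e : ℕ)
    (hσN : σ ^ (q ^ e) = σ) :
    ∀ k ∈ Algebra.adjoin (ZMod q) ({σ} : Set (Module.End (ZMod q) V)), k ^ (q ^ e) = k := by
  haveI : CharP (Module.End (ZMod q) V) q :=
    charP_of_injective_algebraMap (algebraMap (ZMod q) (Module.End (ZMod q) V)).injective q
  intro k hk
  induction hk using Algebra.adjoin_induction with
  | mem x hx => rw [Set.mem_singleton_iff.mp hx]; exact hσN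
  | algebraMap r => rw [← map_pow, ZMod.pow_card_pow]
  | add x y hx hy ihx ihy =>
    rw [add_pow_char_pow_of_commute _ _ (setLike_mul_comm hx hy), ihx, ihy]
  | mul x y hx hy ihx ihy =>
    have hc : Commute x y := setLike_mul_comm hx hy
    rw [hc.mul_pow, ihx, ihy]

/-- For a commutative subalgebra `K` of `End V` containing `σ`, with `σ` irreducible: `K` has no
zero divisors and `|V| ≤ |K|`. -/
theorem card_le_card_subalgebra [Nontrivial V] (σ : Module.End (ZMod q) V)
    (K : Subalgebra (ZMod q) (Module.End (ZMod q) V)) [IsMulCommutative K] (hσK : σ ∈ K)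
    (hirr : ∀ W : Submodule (ZMod q) V, (∀ w ∈ W, σ w ∈ W) → W = ⊥ ∨ W = ⊤) :
    NoZeroDivisors K ∧ Nat.card V ≤ Nat.card K := by
  have hcomm : ∀ k ∈ K, k * σ = σ * k := fun k hk => setLike_mul_comm hk hσK
  have hker : ∀ k ∈ K, k ≠ 0 → LinearMap.ker k = ⊥ := by
    intro k hk hk0
    rcases hirr (LinearMap.ker k) (by
      intro w hw
      rw [LinearMap.mem_ker] at hw ⊢
      have h1 : k (σ w) = (k * σ) w := rfl
      rw [h1, hcomm k hk]
      change σ (k w) = 0
      rw [hw, map_zero]) with h | h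
    · exact h
    · exfalso; apply hk0; exact LinearMap.ker_eq_top.mp h
  haveI := finite_end (q := q) (V := V)
  constructor
  · refine ⟨?_⟩
    rintro ⟨a, ha⟩ ⟨b, hb⟩ hab
    by_contra hcon
    push Not at hcon
    have ha0 : a ≠ 0 := fun h => hcon.1 (Subtype.ext h)
    have hb0 : b ≠ 0 := fun h => hcon.2 (Subtype.ext h)
    have hab' : a * b = 0 := congrArg Subtype.val hab
    have hbinj : Function.Injective b := LinearMap.ker_eq_bot.mp (hker b hb hb0)
    have hbsurj : Function.Surjective b := Finite.surjective_of_injective hbinj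
    apply ha0
    ext v
    obtain ⟨w, rfl⟩ := hbsurj v
    exact LinearMap.congr_fun hab' w
  · obtain ⟨v₀, hv₀⟩ := exists_ne (0 : V)
    obtain ⟨W, hW⟩ : ∃ W : Submodule (ZMod q) V, ∀ v, v ∈ W ↔ ∃ k ∈ K, k v₀ = v := by
      refine ⟨{ carrier := {v | ∃ k ∈ K, k v₀ = v}
                zero_mem' := ⟨0, Subalgebra.zero_mem _, rfl⟩
                add_mem' := ?_
                smul_mem' := ?_ }, fun v => Iff.rfl⟩
      · rintro _ _ ⟨k₁, hk₁, rfl⟩ ⟨k₂, hk₂, rfl⟩
        exact ⟨k₁ + k₂, Subalgebra.add_mem _ hk₁ hk₂, rfl⟩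
      · rintro c _ ⟨k, hk, rfl⟩
        exact ⟨c • k, Subalgebra.smul_mem _ hk c, rfl⟩
    have hWtop : W = ⊤ := by
      rcases hirr W (by
        intro w hw
        obtain ⟨k, hk, rfl⟩ := (hW w).mp hw
        exact (hW _).mpr ⟨σ * k, Subalgebra.mul_mem _ hσK hk, rfl⟩) with h | h
      · exfalso
        have : v₀ ∈ W := (hW v₀).mpr ⟨1, Subalgebra.one_mem _, rfl⟩
        rw [h, Submodule.mem_bot] at this
        exact hv₀ this
      · exact h
    have hsurj : Function.Surjective (fun k : K => (k : Module.End (ZMod q) V) v₀) := by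
      intro v
      have : v ∈ W := by rw [hWtop]; trivial
      obtain ⟨k, hk, rfl⟩ := (hW v).mp this
      exact ⟨⟨k, hk⟩, rfl⟩
    haveI : Finite K := Finite.of_injective (fun k : K => (k : Module.End (ZMod q) V))
      Subtype.val_injective
    exact Nat.card_le_card_of_surjective _ hsurj

/-- If `σ` acts irreducibly on `V` and `σ ^ N = σ` with `N = q ^ e > 1`, then `|V| ≤ N`. -/
theorem card_le_of_irreducible [Nontrivial V] (σ : Module.End (ZMod q) V) (e : ℕ)
    (hN1 : 1 < q ^ e) (hσN : σ ^ (q ^ e) = σ)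
    (hirr : ∀ W : Submodule (ZMod q) V, (∀ w ∈ W, σ w ∈ W) → W = ⊥ ∨ W = ⊤) :
    Nat.card V ≤ q ^ e := by
  have hfrob := pow_eq_self_of_mem_adjoin σ e hσN
  obtain ⟨K, hK⟩ : ∃ K, K = Algebra.adjoin (ZMod q) ({σ} : Set (Module.End (ZMod q) V)) :=
    ⟨_, rfl⟩
  rw [← hK] at hfrob
  haveI : IsMulCommutative K := by rw [hK]; infer_instance
  have hσK : σ ∈ K := by rw [hK]; exact Algebra.self_mem_adjoin_singleton _ σ
  obtain ⟨hnzd, hle⟩ := card_le_card_subalgebra σ K hσK hirr
  haveI : Nontrivial K := ⟨⟨0, 1, fun h => zero_ne_one (congrArg Subtype.val h)⟩⟩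
  haveI : IsDomain K := NoZeroDivisors.to_isDomain _
  haveI := finite_end (q := q) (V := V)
  haveI : Finite K := Finite.of_injective (fun k : K => (k : Module.End (ZMod q) V))
    Subtype.val_injective
  have h2 : Nat.card K ≤ q ^ e :=
    card_le_of_forall_pow_eq K (q ^ e) hN1 (fun k => Subtype.ext (hfrob k.1 k.2))
  exact hle.trans h2

/-- `|V| ≡ 1 mod p` when `σ` of order `p` acts irreducibly and nontrivially. -/
theorem card_modEq_one {p : ℕ} [hp : Fact p.Prime] (σ : Module.End (ZMod q) V) (hσp : σ ^ p = 1)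
    (hσ1 : σ ≠ 1)
    (hirr : ∀ W : Submodule (ZMod q) V, (∀ w ∈ W, σ w ∈ W) → W = ⊥ ∨ W = ⊤) :
    Nat.card V ≡ 1 [MOD p] := by
  have hp1 : p - 1 + 1 = p := Nat.sub_add_cancel hp.out.one_le
  obtain ⟨u, hu⟩ : ∃ u : (Module.End (ZMod q) V)ˣ, (u : Module.End (ZMod q) V) = σ :=
    ⟨⟨σ, σ ^ (p - 1), by rw [← pow_succ', hp1, hσp], by rw [← pow_succ, hp1, hσp]⟩, rfl⟩
  have hup : u ^ p = 1 := Units.ext (by rw [Units.val_pow_eq_pow_val, hu, hσp]; rfl)
  have hG : IsPGroup p (Subgroup.zpowers u) := by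
    rintro ⟨g, hg⟩
    obtain ⟨z, rfl⟩ := Subgroup.mem_zpowers_iff.mp hg
    refine ⟨1, Subtype.ext ?_⟩
    change (u ^ z) ^ (p ^ 1) = 1
    rw [pow_one, ← zpow_natCast, ← zpow_mul, mul_comm, zpow_mul, zpow_natCast, hup, one_zpow]
  have hmod := hG.card_modEq_card_fixedPoints V
  have hfix : MulAction.fixedPoints (Subgroup.zpowers u) V = {0} := by
    ext v
    rw [MulAction.mem_fixedPoints, Set.mem_singleton_iff]
    constructor
    · intro h
      have hσv : σ v = v := by
        have := h ⟨u, Subgroup.mem_zpowers u⟩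
        rw [← hu]; exact this
      rcases hirr (LinearMap.ker (σ - 1)) (by
        intro w hw
        rw [LinearMap.mem_ker, LinearMap.sub_apply, sub_eq_zero] at hw ⊢
        rw [Module.End.one_apply] at hw ⊢
        rw [hw]; exact hw) with hb | ht
      · have hv : v ∈ LinearMap.ker (σ - 1) := by
          rw [LinearMap.mem_ker, LinearMap.sub_apply, sub_eq_zero, Module.End.one_apply]
          exact hσv
        rw [hb] at hv
        exact (Submodule.mem_bot _).mp hv
      · exfalso; apply hσ1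
        have := LinearMap.ker_eq_top.mp ht
        exact sub_eq_zero.mp this
    · rintro rfl g
      exact smul_zero g
  rw [hfix] at hmod
  simpa using hmod

/-- **Main linear lemma.** If `σ ∈ End V` has `σ ^ p = 1`, `σ ≠ 1` and acts irreducibly on the
finite `ZMod q`-module `V` (`q ≠ p` primes), then `|V| = q ^ ord_p(q)`. -/
theorem card_eq_pow_orderOf_of_irreducible {p : ℕ} [hp : Fact p.Prime] (hqp : q ≠ p)
    (σ : Module.End (ZMod q) V) (hσp : σ ^ p = 1) (hσ1 : σ ≠ 1)
    (hirr : ∀ W : Submodule (ZMod q) V, (∀ w ∈ W, σ w ∈ W) → W = ⊥ ∨ W = ⊤) :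
    Nat.card V = q ^ orderOf (q : ZMod p) := by
  haveI : Nontrivial V := by
    by_contra h
    rw [not_nontrivial_iff_subsingleton] at h
    apply hσ1; ext v; exact Subsingleton.elim _ _
  haveI : Fintype V := Fintype.ofFinite V
  have hcard : Nat.card V = q ^ Module.finrank (ZMod q) V := by
    rw [Nat.card_eq_fintype_card, Module.card_eq_pow_finrank (K := ZMod q), ZMod.card]
  obtain ⟨n, hn⟩ : ∃ n, n = Module.finrank (ZMod q) V := ⟨_, rfl⟩
  rw [← hn] at hcard
  have hq0 : (q : ZMod p) ≠ 0 := by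
    rw [Ne, ZMod.natCast_eq_zero_iff]
    intro h; exact hqp ((Nat.prime_dvd_prime_iff_eq hp.out hq.out).mp h).symm
  have hfin : IsOfFinOrder (q : ZMod p) := isOfFinOrder_iff_pow_eq_one.mpr
    ⟨p - 1, Nat.sub_pos_of_lt hp.out.one_lt, ZMod.pow_card_sub_one_eq_one hq0⟩
  obtain ⟨e, hedef⟩ : ∃ e, e = orderOf (q : ZMod p) := ⟨_, rfl⟩
  rw [← hedef]
  have he : 0 < e := by rw [hedef]; exact hfin.orderOf_pos
  have hqe : (q : ZMod p) ^ e = 1 := by rw [hedef]; exact pow_orderOf_eq_one _
  have h1 := card_modEq_one σ hσp hσ1 hirr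
  rw [hcard] at h1
  have h2 : (q : ZMod p) ^ n = 1 := by
    have := (ZMod.natCast_eq_natCast_iff _ _ _).mpr h1
    simpa using this
  have hen : e ∣ n := by rw [hedef]; exact orderOf_dvd_of_pow_eq_one h2
  have hpos : 1 ≤ q ^ e := Nat.one_le_pow _ _ hq.out.pos
  have h3 : p ∣ q ^ e - 1 := by
    have : ((q ^ e - 1 : ℕ) : ZMod p) = 0 := by
      rw [Nat.cast_sub hpos]; simp [hqe]
    exact (ZMod.natCast_eq_zero_iff _ _).mp this
  obtain ⟨t, ht⟩ := h3
  have hσN : σ ^ (q ^ e) = σ := by
    have : q ^ e = p * t + 1 := by omega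
    rw [this, pow_succ, pow_mul, hσp, one_pow, one_mul]
  have hN1 : 1 < q ^ e := Nat.one_lt_pow he.ne' hq.out.one_lt
  have hle := card_le_of_irreducible σ e hN1 hσN hirr
  rw [hcard] at hle
  have hne : n ≤ e := (Nat.pow_le_pow_iff_right hq.out.one_lt).mp hle
  have hn0 : 0 < n := by
    rcases Nat.eq_zero_or_pos n with h | h
    · exfalso
      rw [h, pow_zero] at hcard
      have := Finite.one_lt_card (α := V)
      omega
    · exact h
  have : n = e := le_antisymm hne (Nat.le_of_dvd hn0 hen)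
  rw [hcard, this]

end

theorem card_eq_pow_orderOf_of_monoidHom_aux {A : Type*} [CommGroup A] [Finite A] {p q : ℕ}
    [hp : Fact p.Prime] [hq : Fact q.Prime] [Module (ZMod q) (Additive A)] (hqp : q ≠ p)
    (f : A →* A) (hfp : ∀ a, f^[p] a = a) (hf1 : ∃ a, f a ≠ a)
    (hirr : ∀ B : Subgroup A, (∀ b ∈ B, f b ∈ B) → B = ⊥ ∨ B = ⊤) :
    Nat.card A = q ^ orderOf (q : ZMod p) := by
  obtain ⟨σ, hσ⟩ : ∃ σ : Additive A →ₗ[ZMod q] Additive A,
      ∀ v, σ v = Additive.ofMul (f (Additive.toMul v)) :=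
    ⟨(MonoidHom.toAdditive f).toZModLinearMap q, fun v => rfl⟩
  have hσpow : ∀ n v, (σ ^ n) v = Additive.ofMul (f^[n] (Additive.toMul v)) := by
    intro n
    induction n with
    | zero => intro v; rfl
    | succ n ih =>
      intro v
      rw [pow_succ', Module.End.mul_apply, ih, hσ, Function.iterate_succ_apply']
      rfl
  have key := card_eq_pow_orderOf_of_irreducible (V := Additive A) hqp σ ?_ ?_ ?_
  · exact key
  · ext v
    rw [hσpow, hfp]
    rfl
  · intro h
    obtain ⟨a, ha⟩ := hf1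
    apply ha
    have := hσ (Additive.ofMul a)
    rw [h] at this
    exact (congrArg Additive.toMul this).symm
  · intro W hW
    obtain ⟨B, hB⟩ : ∃ B : Subgroup A, ∀ a, a ∈ B ↔ Additive.ofMul a ∈ W :=
      ⟨{ carrier := {a | Additive.ofMul a ∈ W}
         one_mem' := W.zero_mem
         mul_mem' := fun {a b} ha hb => W.add_mem ha hb
         inv_mem' := fun {a} ha => W.neg_mem ha }, fun a => Iff.rfl⟩
    rcases hirr B (by
      intro b hb
      rw [hB] at hb ⊢
      have := hW _ hb
      rw [hσ] at this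
      exact this) with h | h
    · left
      rw [eq_bot_iff]
      intro v hv
      have : Additive.toMul v ∈ B := (hB _).mpr hv
      rw [h, Subgroup.mem_bot] at this
      rw [Submodule.mem_bot]
      exact congrArg Additive.ofMul this
    · right
      rw [eq_top_iff]
      intro v _
      have : Additive.toMul v ∈ B := by rw [h]; trivial
      exact (hB _).mp this

/-- **Abstract group version.** `A` a finite abelian group of exponent `q`, `f` an endomorphism
with `f^p = id`, `f ≠ id`, leaving no proper nontrivial subgroup invariant: `|A| = q ^ ord_p(q)`. -/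
theorem card_eq_pow_orderOf_of_monoidHom {A : Type*} [CommGroup A] [Finite A] {p q : ℕ}
    [hp : Fact p.Prime] [hq : Fact q.Prime] (hqp : q ≠ p) (hAq : ∀ a : A, a ^ q = 1)
    (f : A →* A) (hfp : ∀ a, f^[p] a = a) (hf1 : ∃ a, f a ≠ a)
    (hirr : ∀ B : Subgroup A, (∀ b ∈ B, f b ∈ B) → B = ⊥ ∨ B = ⊤) :
    Nat.card A = q ^ orderOf (q : ZMod p) :=
  @card_eq_pow_orderOf_of_monoidHom_aux A _ _ p q hp hq
    (AddCommGroup.zmodModule (fun v => by
      have := hAq (Additive.toMul v)
      exact congrArg Additive.ofMul this)) hqp f hfp hf1 hirr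

/-- **Subgroup version.** `A ⊴ G` abelian of exponent `q`, `x ∈ G` with `x ^ p = 1` not
centralizing `A`, and no proper nontrivial subgroup of `A` is normalized by `x`:
`|A| = q ^ ord_p(q)`. -/
theorem card_eq_pow_orderOf_of_conj {G : Type*} [Group G] [Finite G] {p q : ℕ}
    [hp : Fact p.Prime] [hq : Fact q.Prime] (hqp : q ≠ p) (A : Subgroup G) [hAn : A.Normal]
    (hAc : ∀ a ∈ A, ∀ b ∈ A, a * b = b * a) (hAq : ∀ a ∈ A, a ^ q = 1)
    (x : G) (hxp : x ^ p = 1) (hxA : ∃ a ∈ A, x * a ≠ a * x)
    (hirr : ∀ B : Subgroup G, B ≤ A → (∀ b ∈ B, x * b * x⁻¹ ∈ B) → B = ⊥ ∨ B = A) :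
    Nat.card A = q ^ orderOf (q : ZMod p) := by
  letI : CommGroup A := { (inferInstance : Group A) with
    mul_comm := fun a b => Subtype.ext (hAc a a.2 b b.2) }
  obtain ⟨f, hf⟩ : ∃ f : A →* A, ∀ a : A, (f a : G) = x * a * x⁻¹ :=
    ⟨{ toFun := fun a => ⟨x * a * x⁻¹, hAn.conj_mem a a.2 x⟩
       map_one' := Subtype.ext (by simp)
       map_mul' := fun a b => Subtype.ext (by simp) }, fun a => rfl⟩
  have hfpow : ∀ n (a : A), ((f^[n] a : A) : G) = x ^ n * a * (x ^ n)⁻¹ := by
    intro n
    induction n with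
    | zero => intro a; simp
    | succ n ih =>
      intro a
      rw [Function.iterate_succ_apply', hf, ih, pow_succ']
      group
  refine card_eq_pow_orderOf_of_monoidHom hqp (fun a => Subtype.ext (hAq a a.2)) f ?_ ?_ ?_
  · intro a
    apply Subtype.ext
    rw [hfpow, hxp]
    simp
  · obtain ⟨a, ha, hxa⟩ := hxA
    refine ⟨⟨a, ha⟩, fun h => hxa ?_⟩
    have := congrArg Subtype.val h
    rw [hf] at this
    calc x * a = x * a * x⁻¹ * x := by group
      _ = a * x := by rw [this]
  · intro B hB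
    rcases hirr (B.map A.subtype) (Subgroup.map_subtype_le B) (by
      rintro _ ⟨b, hb, rfl⟩
      exact ⟨f b, hB b hb, hf b⟩) with h | h
    · left
      rw [eq_bot_iff]
      intro b hb
      have : (b : G) ∈ B.map A.subtype := ⟨b, hb, rfl⟩
      rw [h, Subgroup.mem_bot] at this
      rw [Subgroup.mem_bot]
      exact Subtype.ext this
    · right
      rw [eq_top_iff]
      intro b _
      have : (b : G) ∈ B.map A.subtype := by rw [h]; exact b.2
      obtain ⟨b', hb', hbb'⟩ := this
      have : b' = b := Subtype.ext hbb'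
      rw [← this]; exact hb'

end Cfsg.Agent.Lib.Helper15
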