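import Mathlib
import Cfsg.Prelude.Def_OddOrderLocal
import Cfsg.Agent.Lib.Helper20.Cores

/-!
# Internal form of the Puig series of a subgroup

For `K ≤ G` we describe `(Cfsg.puigSeq ↥K n).map K.subtype` as a series of subgroups of `G`.
-/

namespace Cfsg.Agent.Lib.Helper15.PuigInternal

open Subgroup

variable {G : Type*} [Group G]

/-- `L_K(X)` inside `G`: generated by the abelian subgroups of `K` normalized by `X`. -/
def LK (K X : Subgroup G) : Subgroup G :=
  sSup {A : Subgroup G | A ≤ K ∧ IsMulCommutative A ∧ X ≤ normalizer (A : Set G)}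

theorem LK_le (K X : Subgroup G) : LK K X ≤ K :=
  sSup_le (fun _ hA => hA.1)

theorem LK_mono {K K' X X' : Subgroup G} (hK : K ≤ K') (hX : X' ≤ X) : LK K X ≤ LK K' X' := by
  apply sSup_le
  intro A hA
  exact le_sSup ⟨hA.1.trans hK, hA.2.1, hX.trans hA.2.2⟩

theorem le_LK {K X A : Subgroup G} (h1 : A ≤ K) (h2 : IsMulCommutative A)
    (h3 : X ≤ normalizer (A : Set G)) : A ≤ LK K X :=
  le_sSup ⟨h1, h2, h3⟩

/-- the internal Puig series of `K` -/
def seqK (K : Subgroup G) : ℕ → Subgroup G
  | 0 => ⊥
  | n + 1 => LK K (seqK K n)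

theorem seqK_zero (K : Subgroup G) : seqK K 0 = ⊥ := rfl

theorem seqK_succ (K : Subgroup G) (n : ℕ) : seqK K (n + 1) = LK K (seqK K n) := rfl

theorem seqK_le (K : Subgroup G) (n : ℕ) : seqK K n ≤ K := by
  cases n with
  | zero => exact bot_le
  | succ n => exact LK_le K _

theorem map_puigStep (K : Subgroup G) (X : Subgroup K) :
    (Cfsg.puigStep X).map K.subtype = LK K (X.map K.subtype) := by
  apply le_antisymm
  · rw [Subgroup.map_le_iff_le_comap]
    apply sSup_le
    intro A hA
    rw [← Subgroup.map_le_iff_le_comap]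
    haveI := hA.1
    refine le_LK (Subgroup.map_subtype_le A) inferInstance ?_
    exact (Subgroup.map_mono hA.2).trans (Subgroup.le_normalizer_map K.subtype)
  · apply sSup_le
    intro A hA
    obtain ⟨hAK, hAc, hAX⟩ := hA
    have h1 : (A.subgroupOf K).map K.subtype = A := by
      rw [Subgroup.subgroupOf_map_subtype, inf_eq_left]
      exact hAK
    rw [← h1]
    apply Subgroup.map_mono
    apply le_sSup
    haveI := hAc
    refine ⟨inferInstance, ?_⟩
    intro x hx
    have hx' : (x : G) ∈ normalizer (A : Set G) := hAX ⟨x, hx, rfl⟩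
    rw [Subgroup.mem_normalizer_iff] at hx' ⊢
    intro y
    rw [Subgroup.mem_subgroupOf, Subgroup.mem_subgroupOf]
    exact hx' y

theorem map_puigSeq (K : Subgroup G) (n : ℕ) :
    (Cfsg.puigSeq ↥K n).map K.subtype = seqK K n := by
  induction n with
  | zero =>
    show (⊥ : Subgroup K).map K.subtype = ⊥
    exact Subgroup.map_bot _
  | succ n ih =>
    show (Cfsg.puigStep (Cfsg.puigSeq ↥K n)).map K.subtype = LK K (seqK K n)
    rw [map_puigStep, ih]

theorem map_puigLower (K : Subgroup G) :
    (Cfsg.puigLower ↥K).map K.subtype = ⨆ n : ℕ, seqK K (2 * n) := by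
  unfold Cfsg.puigLower
  rw [Subgroup.map_iSup]
  exact iSup_congr (fun n => map_puigSeq K _)

theorem map_puigSubgroup (K : Subgroup G) :
    (Cfsg.puigSubgroup ↥K).map K.subtype = ⨅ n : ℕ, seqK K (2 * n + 1) := by
  unfold Cfsg.puigSubgroup
  rw [Subgroup.map_iInf _ K.subtype_injective]
  exact iInf_congr (fun n => map_puigSeq K _)

/-- `L_K(X)` is characteristic when `K` and `X` are. -/
theorem LK_characteristic (K X : Subgroup G) [hK : K.Characteristic] [hX : X.Characteristic] :
    (LK K X).Characteristic := by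
  unfold LK
  apply Cfsg.Agent.Lib.Helper20.characteristic_sSup_of_invariant
  rintro A ⟨hAK, hAc, hAX⟩ φ
  haveI := hAc
  refine ⟨?_, inferInstance, ?_⟩
  · have h1 : K.map φ.toMonoidHom = K := Subgroup.characteristic_iff_map_eq.1 hK φ
    rw [← h1]
    exact Subgroup.map_mono hAK
  · have h1 : X.map φ.toMonoidHom = X := Subgroup.characteristic_iff_map_eq.1 hX φ
    rw [← h1]
    exact (Subgroup.map_mono hAX).trans (Subgroup.le_normalizer_map _)

theorem seqK_characteristic (K : Subgroup G) [hK : K.Characteristic] (n : ℕ) :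
    (seqK K n).Characteristic := by
  induction n with
  | zero => exact Subgroup.botCharacteristic
  | succ n ih =>
    exact @LK_characteristic _ _ K (seqK K n) hK ih

end Cfsg.Agent.Lib.Helper15.PuigInternal
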