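import Mathlib
import Cfsg.Prelude.Def_OddOrderLocal
import Cfsg.Agent.Lib.Helper15.PuigInternal
import Cfsg.Agent.S1467

/-!
# The Puig subgroup: limits, equivariance and the control lemma

Internal versions `Lstar K`, `Lsub K` of `L_*(K)`, `L(K)` for a subgroup `K ≤ G`,
the relations `L = L_K(L_*)`, `L_* = L_K(L)`, equivariance under homomorphisms injective on `K`,
and the control lemma: if `L(S) ≤ S₁ ≤ S` then `L(S₁) = L(S)`.
-/

namespace Cfsg.Agent.Lib.Helper15.PuigControl

open Subgroup Cfsg.Agent.Lib.Helper15.PuigInternal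

variable {G : Type*} [Group G]

/-- `L_*(K)` inside `G`. -/
def Lstar (K : Subgroup G) : Subgroup G := ⨆ n : ℕ, seqK K (2 * n)

/-- `L(K)` inside `G`. -/
def Lsub (K : Subgroup G) : Subgroup G := ⨅ n : ℕ, seqK K (2 * n + 1)

theorem map_puigLower' (K : Subgroup G) :
    (Cfsg.puigLower ↥K).map K.subtype = Lstar K := map_puigLower K

theorem map_puigSubgroup' (K : Subgroup G) :
    (Cfsg.puigSubgroup ↥K).map K.subtype = Lsub K := map_puigSubgroup K

theorem Lsub_le (K : Subgroup G) : Lsub K ≤ K :=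
  (iInf_le _ 0).trans (seqK_le K _)

theorem Lstar_le (K : Subgroup G) : Lstar K ≤ K :=
  iSup_le (fun n => seqK_le K _)

theorem seqK_even_le_Lstar (K : Subgroup G) (n : ℕ) : seqK K (2 * n) ≤ Lstar K :=
  le_iSup (fun n => seqK K (2 * n)) n

theorem Lsub_le_seqK_odd (K : Subgroup G) (n : ℕ) : Lsub K ≤ seqK K (2 * n + 1) :=
  iInf_le (fun n => seqK K (2 * n + 1)) n

section finite

variable [Finite G]

theorem Lstar_le_Lsub (K : Subgroup G) : Lstar K ≤ Lsub K := by
  rw [← map_puigLower', ← map_puigSubgroup']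
  exact Subgroup.map_mono (Cfsg.Agent.S1467.result (G := ↥K)).2.2.2.2.1

theorem LK_Lstar (K : Subgroup G) : LK K (Lstar K) = Lsub K := by
  have h := (Cfsg.Agent.S1467.result (G := ↥K)).2.2.2.2.2.1
  rw [← map_puigLower', ← map_puigStep, h, map_puigSubgroup']

theorem LK_Lsub (K : Subgroup G) : LK K (Lsub K) = Lstar K := by
  have h := (Cfsg.Agent.S1467.result (G := ↥K)).2.2.2.2.2.2
  rw [← map_puigSubgroup', ← map_puigStep, h, map_puigLower']

theorem exists_stab (K : Subgroup G) :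
    ∃ k : ℕ, ∀ n : ℕ, k ≤ n → seqK K (2 * n) = Lstar K ∧ seqK K (2 * n + 1) = Lsub K := by
  obtain ⟨k, hk⟩ := (Cfsg.Agent.S1467.result (G := ↥K)).2.2.2.1
  refine ⟨k, fun n hn => ?_⟩
  obtain ⟨h1, h2⟩ := hk n hn
  refine ⟨?_, ?_⟩
  · rw [← map_puigSeq, h1, map_puigLower']
  · rw [← map_puigSeq, h2, map_puigSubgroup']

/-- an abelian subgroup of `K` normalized by `L_*(K)` lies in `L(K)`. -/
theorem le_Lsub {K A : Subgroup G} (h1 : A ≤ K) (h2 : IsMulCommutative A)
    (h3 : Lstar K ≤ normalizer (A : Set G)) : A ≤ Lsub K := by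
  rw [← LK_Lstar]
  exact le_LK h1 h2 h3

/-- an abelian subgroup of `K` normalized by `L(K)` lies in `L_*(K)`. -/
theorem le_Lstar {K A : Subgroup G} (h1 : A ≤ K) (h2 : IsMulCommutative A)
    (h3 : Lsub K ≤ normalizer (A : Set G)) : A ≤ Lstar K := by
  rw [← LK_Lsub]
  exact le_LK h1 h2 h3

/-- **Control lemma**: if `L(S) ≤ S₁ ≤ S` then `L(S₁) = L(S)`. -/
theorem Lsub_eq_of_le {S S₁ : Subgroup G} (h1 : S₁ ≤ S) (h2 : Lsub S ≤ S₁) :
    Lsub S₁ = Lsub S := by
  have hstar : Lstar S ≤ S₁ := (Lstar_le_Lsub S).trans h2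
  -- abelian subgroups of `S` normalized by `L_*(S)` are inside `L_{S₁}(X)` for `X ≤ L_*(S)`
  have keyA : ∀ X : Subgroup G, X ≤ Lstar S → Lsub S ≤ LK S₁ X := by
    intro X hX
    rw [← LK_Lstar S]
    apply sSup_le
    rintro A ⟨hAS, hAc, hAn⟩
    have hA1 : A ≤ S₁ := (le_Lsub hAS hAc hAn).trans h2
    exact le_LK hA1 hAc (hX.trans hAn)
  have first : ∀ n : ℕ, seqK S₁ (2 * n) ≤ Lstar S ∧ Lsub S ≤ seqK S₁ (2 * n + 1) := by
    intro n
    induction n with
    | zero =>
      refine ⟨?_, ?_⟩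
      · show (⊥ : Subgroup G) ≤ _
        exact bot_le
      · show Lsub S ≤ LK S₁ (seqK S₁ 0)
        exact keyA _ (by show (⊥ : Subgroup G) ≤ _; exact bot_le)
    | succ n ih =>
      obtain ⟨ih1, ih2⟩ := ih
      have e1 : 2 * (n + 1) = (2 * n + 1) + 1 := by ring
      have e2 : 2 * (n + 1) + 1 = (2 * n + 1) + 1 + 1 := by ring
      have hA : seqK S₁ (2 * n + 1 + 1) ≤ Lstar S := by
        rw [seqK_succ, ← LK_Lsub S]
        exact LK_mono h1 ih2
      refine ⟨by rw [e1]; exact hA, ?_⟩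
      rw [e2, seqK_succ]
      exact keyA _ hA
  have second : ∀ n : ℕ, seqK S (2 * n) ≤ seqK S₁ (2 * n) ∧
      seqK S₁ (2 * n + 1) ≤ seqK S (2 * n + 1) := by
    intro n
    induction n with
    | zero =>
      refine ⟨?_, ?_⟩
      · show (⊥ : Subgroup G) ≤ _
        exact bot_le
      · show LK S₁ (seqK S₁ 0) ≤ LK S (seqK S 0)
        exact LK_mono h1 le_rfl
    | succ n ih =>
      obtain ⟨ih1, ih2⟩ := ih
      have e1 : 2 * (n + 1) = (2 * n + 1) + 1 := by ring
      have e2 : 2 * (n + 1) + 1 = (2 * n + 1) + 1 + 1 := by ring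
      have hA : seqK S (2 * n + 1 + 1) ≤ seqK S₁ (2 * n + 1 + 1) := by
        rw [seqK_succ S]
        apply sSup_le
        rintro A ⟨hAS, hAc, hAn⟩
        have hA0 : A ≤ seqK S (2 * n + 1 + 1) := le_LK hAS hAc hAn
        have hA1 : A ≤ S₁ := by
          have : seqK S (2 * n + 1 + 1) ≤ Lstar S := by
            rw [← e1]; exact seqK_even_le_Lstar S (n + 1)
          exact (hA0.trans this).trans hstar
        rw [seqK_succ S₁]
        exact le_LK hA1 hAc (ih2.trans hAn)
      refine ⟨by rw [e1]; exact hA, ?_⟩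
      rw [e2, seqK_succ, seqK_succ S]
      exact LK_mono h1 hA
  apply le_antisymm
  · exact iInf_mono (fun n => (second n).2)
  · exact le_iInf (fun n => (first n).2)

end finite

/-! ### equivariance -/

theorem LK_map_of_injOn {H : Type*} [Group H] (f : G →* H) (K X : Subgroup G)
    (hinj : Set.InjOn f (K : Set G)) (hX : X ≤ K) :
    LK (K.map f) (X.map f) = (LK K X).map f := by
  apply le_antisymm
  · apply sSup_le
    rintro B ⟨hBK, hBc, hBn⟩
    set A : Subgroup G := B.comap f ⊓ K with hA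
    have hAB : A.map f = B := by
      apply le_antisymm
      · rw [Subgroup.map_le_iff_le_comap]
        exact inf_le_left
      · intro b hb
        obtain ⟨k, hk, rfl⟩ := hBK hb
        exact ⟨k, ⟨hb, hk⟩, rfl⟩
    have hAc : IsMulCommutative A := by
      constructor; constructor
      rintro ⟨a, ha⟩ ⟨b, hb⟩
      apply Subtype.ext
      show a * b = b * a
      apply hinj (K.mul_mem ha.2 hb.2) (K.mul_mem hb.2 ha.2)
      rw [map_mul, map_mul]
      have := hBc.is_comm.comm ⟨f a, ha.1⟩ ⟨f b, hb.1⟩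
      exact congrArg Subtype.val this
    have hAn : X ≤ normalizer (A : Set G) := by
      intro x hx
      have hfx : f x ∈ normalizer (B : Set H) := hBn ⟨x, hx, rfl⟩
      have hxK : x ∈ K := hX hx
      rw [Subgroup.mem_normalizer_iff] at hfx ⊢
      intro a
      constructor
      · rintro ⟨ha1, ha2⟩
        refine ⟨?_, K.mul_mem (K.mul_mem hxK ha2) (K.inv_mem hxK)⟩
        show f (x * a * x⁻¹) ∈ B
        rw [map_mul, map_mul, map_inv]
        exact (hfx (f a)).1 ha1
      · rintro ⟨ha1, ha2⟩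
        have haK : a ∈ K := by
          have : a = x⁻¹ * (x * a * x⁻¹) * x := by group
          rw [this]
          exact K.mul_mem (K.mul_mem (K.inv_mem hxK) ha2) hxK
        refine ⟨?_, haK⟩
        show f a ∈ B
        have h1 : f (x * a * x⁻¹) ∈ B := ha1
        rw [map_mul, map_mul, map_inv] at h1
        exact (hfx (f a)).2 h1
    rw [← hAB]
    exact Subgroup.map_mono (le_LK inf_le_right hAc hAn)
  · rw [Subgroup.map_le_iff_le_comap]
    apply sSup_le
    rintro A ⟨hAK, hAc, hAn⟩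
    rw [← Subgroup.map_le_iff_le_comap]
    haveI := hAc
    exact le_LK (Subgroup.map_mono hAK) inferInstance
      ((Subgroup.map_mono hAn).trans (Subgroup.le_normalizer_map f))

theorem seqK_map_of_injOn {H : Type*} [Group H] (f : G →* H) (K : Subgroup G)
    (hinj : Set.InjOn f (K : Set G)) (n : ℕ) :
    seqK (K.map f) n = (seqK K n).map f := by
  induction n with
  | zero =>
    show (⊥ : Subgroup H) = (⊥ : Subgroup G).map f
    rw [Subgroup.map_bot]
  | succ n ih =>
    rw [seqK_succ, seqK_succ, ih]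
    exact LK_map_of_injOn f K _ hinj (seqK_le K n)

theorem Lsub_map_of_injOn [Finite G] {H : Type*} [Group H] [Finite H] (f : G →* H) (K : Subgroup G)
    (hinj : Set.InjOn f (K : Set G)) :
    Lsub (K.map f) = (Lsub K).map f := by
  obtain ⟨k1, hk1⟩ := exists_stab K
  obtain ⟨k2, hk2⟩ := exists_stab (K.map f)
  have h1 := (hk1 (max k1 k2) (le_max_left _ _)).2
  have h2 := (hk2 (max k1 k2) (le_max_right _ _)).2
  rw [← h1, ← h2]
  exact seqK_map_of_injOn f K hinj _

/-! ### the centre of the Puig subgroup -/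

/-- `Z(L(K))` inside `G`. -/
def ZL (K : Subgroup G) : Subgroup G := Lsub K ⊓ centralizer (Lsub K : Set G)

theorem map_center_map (K : Subgroup G) (H : Subgroup K) :
    ((Subgroup.center ↥H).map H.subtype).map K.subtype =
      H.map K.subtype ⊓ centralizer ((H.map K.subtype : Subgroup G) : Set G) := by
  ext x
  rw [Subgroup.mem_inf, Subgroup.mem_centralizer_iff]
  constructor
  · intro hx
    obtain ⟨y, hy, rfl⟩ := Subgroup.mem_map.1 hx
    obtain ⟨z, hz, rfl⟩ := Subgroup.mem_map.1 hy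
    refine ⟨Subgroup.mem_map.2 ⟨z.1, z.2, rfl⟩, ?_⟩
    intro h hh
    obtain ⟨w, hw, rfl⟩ := Subgroup.mem_map.1 hh
    have := (Subgroup.mem_center_iff.1 hz) ⟨w, hw⟩
    have h2 := congrArg (fun t : H => ((t : K) : G)) this
    exact h2
  · rintro ⟨hx, hc⟩
    obtain ⟨y, hy, rfl⟩ := Subgroup.mem_map.1 hx
    refine Subgroup.mem_map.2 ⟨y, Subgroup.mem_map.2 ⟨⟨y, hy⟩, ?_, rfl⟩, rfl⟩
    apply Subgroup.mem_center_iff.2
    rintro ⟨w, hw⟩
    apply Subtype.ext
    apply Subtype.ext
    exact hc _ (Subgroup.mem_map.2 ⟨w, hw, rfl⟩)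

theorem map_center_puig (K : Subgroup G) :
    ((Subgroup.center ↥(Cfsg.puigSubgroup ↥K)).map (Cfsg.puigSubgroup ↥K).subtype).map K.subtype
      = ZL K := by
  rw [map_center_map, map_puigSubgroup']
  rfl

theorem ZL_le (K : Subgroup G) : ZL K ≤ K := inf_le_left.trans (Lsub_le K)

theorem ZL_comm (K : Subgroup G) : IsMulCommutative (ZL K) := by
  constructor; constructor
  rintro ⟨a, ha⟩ ⟨b, hb⟩
  apply Subtype.ext
  have := (Subgroup.mem_centralizer_iff.1 hb.2) a ha.1
  exact this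

theorem ZL_map_of_injOn [Finite G] {H : Type*} [Group H] [Finite H] (f : G →* H) (K : Subgroup G)
    (hinj : Set.InjOn f (K : Set G)) :
    ZL (K.map f) = (ZL K).map f := by
  unfold ZL
  rw [Lsub_map_of_injOn f K hinj]
  ext y
  rw [Subgroup.mem_inf, Subgroup.mem_centralizer_iff]
  constructor
  · rintro ⟨hy, hc⟩
    obtain ⟨x, hx, rfl⟩ := Subgroup.mem_map.1 hy
    refine Subgroup.mem_map.2 ⟨x, ?_, rfl⟩
    apply Subgroup.mem_inf.2
    refine ⟨hx, ?_⟩
    apply Subgroup.mem_centralizer_iff.2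
    intro l hl
    have h1 := hc (f l) (Subgroup.mem_map.2 ⟨l, hl, rfl⟩)
    rw [← map_mul, ← map_mul] at h1
    exact hinj (K.mul_mem (Lsub_le K hl) (Lsub_le K hx)) (K.mul_mem (Lsub_le K hx) (Lsub_le K hl)) h1
  · intro hy
    obtain ⟨x, hx0, rfl⟩ := Subgroup.mem_map.1 hy
    obtain ⟨hx, hc0⟩ := Subgroup.mem_inf.1 hx0
    have hc := Subgroup.mem_centralizer_iff.1 hc0
    refine ⟨Subgroup.mem_map.2 ⟨x, hx, rfl⟩, ?_⟩
    intro h hh
    obtain ⟨l, hl, rfl⟩ := Subgroup.mem_map.1 hh
    rw [← map_mul, ← map_mul, hc l hl]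

theorem normalizer_le_normalizer_centralizer' (L : Subgroup G) :
    normalizer (L : Set G) ≤ normalizer ((centralizer (L : Set G) : Subgroup G) : Set G) := by
  intro g hg
  rw [Subgroup.mem_normalizer_iff] at hg ⊢
  intro x
  rw [Subgroup.mem_centralizer_iff, Subgroup.mem_centralizer_iff]
  constructor
  · intro hx l hl
    have h1 : g⁻¹ * l * g ∈ L := by
      rw [hg]
      have : g * (g⁻¹ * l * g) * g⁻¹ = l := by group
      rw [this]; exact hl
    have h2 := hx _ h1
    calc l * (g * x * g⁻¹) = g * ((g⁻¹ * l * g) * x) * g⁻¹ := by group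
      _ = g * (x * (g⁻¹ * l * g)) * g⁻¹ := by rw [h2]
      _ = g * x * g⁻¹ * l := by group
  · intro hx l hl
    have h1 : g * l * g⁻¹ ∈ L := (hg l).1 hl
    have h2 := hx _ h1
    have h3 : g * (l * x) * g⁻¹ = g * (x * l) * g⁻¹ := by
      calc g * (l * x) * g⁻¹ = (g * l * g⁻¹) * (g * x * g⁻¹) := by group
        _ = (g * x * g⁻¹) * (g * l * g⁻¹) := h2
        _ = g * (x * l) * g⁻¹ := by group
    exact mul_left_cancel (mul_right_cancel h3)

/-- elements normalizing `K` normalize `L(K)`. -/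
theorem normalizer_le_normalizer_Lsub [Finite G] (K : Subgroup G) :
    normalizer (K : Set G) ≤ normalizer (Lsub K : Set G) := by
  intro g hg
  have h1 : K.map (MulAut.conj g).toMonoidHom = K := by
    ext x
    rw [Subgroup.mem_map_equiv]
    rw [Subgroup.mem_normalizer_iff] at hg
    have := hg (g⁻¹ * x * g)
    simp only [MulAut.conj_symm_apply]
    rw [this]
    have e : g * (g⁻¹ * x * g) * g⁻¹ = x := by group
    rw [e]
  have h2 := Lsub_map_of_injOn (MulAut.conj g).toMonoidHom K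
    ((MulAut.conj g).injective.injOn)
  rw [h1] at h2
  rw [Subgroup.mem_normalizer_iff]
  intro x
  constructor
  · intro hx
    rw [h2]
    exact ⟨x, hx, by simp [MulAut.conj_apply]⟩
  · intro hx
    rw [h2] at hx
    obtain ⟨y, hy, hyx⟩ := hx
    have : y = x := by
      have h3 : g * y * g⁻¹ = g * x * g⁻¹ := by simpa [MulAut.conj_apply] using hyx
      have h4 : g * y = g * x := mul_right_cancel h3
      exact mul_left_cancel h4
    rw [← this]; exact hy

theorem normalizer_le_normalizer_ZL [Finite G] (K : Subgroup G) :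
    normalizer (K : Set G) ≤ normalizer (ZL K : Set G) := by
  intro g hg
  have h1 := normalizer_le_normalizer_Lsub K hg
  have h2 : g ∈ normalizer ((centralizer (Lsub K : Set G) : Subgroup G) : Set G) :=
    normalizer_le_normalizer_centralizer' _ h1
  rw [Subgroup.mem_normalizer_iff] at h1 h2 ⊢
  intro x
  unfold ZL
  rw [Subgroup.mem_inf, Subgroup.mem_inf, h1 x, h2 x]

theorem ZL_le_Lstar [Finite G] (K : Subgroup G) : ZL K ≤ Lstar K :=
  le_Lstar (ZL_le K) (ZL_comm K)
    ((Lsub_le K).trans (Subgroup.le_normalizer.trans (normalizer_le_normalizer_ZL K)))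

end Cfsg.Agent.Lib.Helper15.PuigControl
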