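import Mathlib
import Cfsg.Agent.S0649
import Cfsg.Agent.S0650

set_option autoImplicit false

namespace Cfsg.Agent.Lib.Helper15

variable {S : Type*} [Group S]

theorem card_lt_card_of_lt [Finite S] {H K : Subgroup S} (h : H < K) : Nat.card H < Nat.card K := by
  by_contra hcon
  push_neg at hcon
  exact h.ne (Subgroup.eq_of_le_of_card_ge h.le hcon)

/-- Iterating Glauberman's replacement theorem. -/
theorem replacement_iterate [Finite S] {p : ℕ} [Fact p.Prime] (hS : IsPGroup p S) (hp : p ≠ 2)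
    (D : Subgroup S) [hDn : D.Normal] (B : Subgroup S) [B.Normal]
    (P : Subgroup S → Prop)
    (hP : ∀ U U' : Subgroup S, P U → U' ≤ D → IsMulCommutative U' → Nat.card U' = Nat.card U →
      Monoid.exponent U' ∣ Monoid.exponent U → P U')
    (U : Subgroup S) (hU : P U) (hUD : U ≤ D) (hUc : IsMulCommutative U) (hBU : ⁅B, B⁆ ≤ U)
    (hnBU : ¬ B ≤ U) :
    ∃ A : Subgroup S, P A ∧ ⁅B, B⁆ ≤ A ∧ ¬ B ≤ A ∧ B ≤ Subgroup.normalizer (A : Set S) := by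
  obtain ⟨n, hn⟩ : ∃ n : ℕ, Nat.card B - Nat.card ↥(U ⊓ B) = n := ⟨_, rfl⟩
  induction n using Nat.strong_induction_on generalizing U with
  | _ n ih =>
  by_cases hN : B ≤ Subgroup.normalizer (U : Set S)
  · exact ⟨U, hU, hBU, hnBU, hN⟩
  obtain ⟨b, hb, hbN, hbU⟩ := Cfsg.Agent.S0649.result hS B (fun h => absurd h hp) U hUc hBU hN
  obtain ⟨C1, C2, C3, C4, C5, -, -, -, -, C10⟩ :=
    Cfsg.Agent.S0650.result hS B (fun h => absurd h hp) U hUc hBU hN b hb hbN hbU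
  set U' : Subgroup S := (U ⊓ U.map (MulAut.conj (b⁻¹)).toMonoidHom) ⊔
    Subgroup.closure {g : S | ∃ a ∈ U, g = a * b⁻¹ * a⁻¹ * b} with hU'
  have hU'D : U' ≤ D := by
    apply sup_le (inf_le_left.trans hUD)
    rw [Subgroup.closure_le]
    rintro _ ⟨a, ha, rfl⟩
    have h1 : b⁻¹ * a⁻¹ * b⁻¹⁻¹ ∈ D := hDn.conj_mem _ (D.inv_mem (hUD ha)) b⁻¹
    have e : a * b⁻¹ * a⁻¹ * b = a * (b⁻¹ * a⁻¹ * b⁻¹⁻¹) := by group
    rw [SetLike.mem_coe, e]
    exact D.mul_mem (hUD ha) h1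
  have hPU' : P U' := hP U U' hU hU'D C2 C1 (C10 hp)
  have hnBU' : ¬ B ≤ U' := by
    intro h
    have : U' ⊓ B = B := inf_eq_right.mpr h
    exact C5.ne this
  have hlt : Nat.card ↥(U ⊓ B) < Nat.card ↥(U' ⊓ B) := card_lt_card_of_lt C4
  have hlt2 : Nat.card ↥(U' ⊓ B) < Nat.card B := card_lt_card_of_lt C5
  exact ih (Nat.card B - Nat.card ↥(U' ⊓ B)) (by omega) U' hPU' hU'D C2 C3 hnBU' rfl

end Cfsg.Agent.Lib.Helper15
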