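import Mathlib
import Cfsg.Prelude.Def_LocalEven
import Cfsg.Agent.Lib.Helper1.ThompsonA3

/-!
# `S₃` acting on an elementary abelian `2`-group gives `S₄` (helper15)

`core`: `V ⊴ H` of exponent two, `b` a `2`-element inverting `k`, `k³` centralizing `V`, `k` not
centralizing `V`: then `S₄` is involved in `H`.
-/

set_option autoImplicit false

namespace Cfsg.Agent.Lib.Helper15.S3S4

open Subgroup

variable {H : Type*} [Group H]

/-- exponent two implies commutative -/
theorem comm_of_sq {V : Subgroup H} (hV2 : ∀ x ∈ V, x * x = 1) {x y : H} (hx : x ∈ V)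
    (hy : y ∈ V) : x * y = y * x := by
  have h1 := hV2 (x * y) (V.mul_mem hx hy)
  have hxi : x⁻¹ = x := inv_eq_of_mul_eq_one_left (hV2 x hx)
  have hyi : y⁻¹ = y := inv_eq_of_mul_eq_one_left (hV2 y hy)
  calc x * y = (x * y)⁻¹ := (inv_eq_of_mul_eq_one_left h1).symm
    _ = y⁻¹ * x⁻¹ := mul_inv_rev x y
    _ = y * x := by rw [hxi, hyi]

/-- rearranging a product of six commuting elements -/
theorem rearr {V : Subgroup H} (hc : ∀ x ∈ V, ∀ y ∈ V, x * y = y * x) {a b c d e f : H}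
    (ha : a ∈ V) (hb : b ∈ V) (hc' : c ∈ V) (hd : d ∈ V) (he : e ∈ V) (hf : f ∈ V) :
    (a * d) * (b * e) * (c * f) = (a * b * c) * (d * e * f) := by
  letI : CommGroup ↥V :=
    { (inferInstance : Group ↥V) with
      mul_comm := fun x y => Subtype.ext (hc x x.2 y y.2) }
  have : ((⟨a, ha⟩ : V) * ⟨d, hd⟩) * (⟨b, hb⟩ * ⟨e, he⟩) * (⟨c, hc'⟩ * ⟨f, hf⟩) =
      (⟨a, ha⟩ * ⟨b, hb⟩ * ⟨c, hc'⟩) * (⟨d, hd⟩ * ⟨e, he⟩ * ⟨f, hf⟩) := by
    ac_rfl
  exact congrArg Subtype.val this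

/-- the kernel of the norm map `v ↦ v · v^k · v^{k²}` on `V` -/
def normKer (V : Subgroup H) (k : H) (hV2 : ∀ x ∈ V, x * x = 1)
    (hkV : ∀ x ∈ V, k * x * k⁻¹ ∈ V) : Subgroup H where
  carrier := {v | v ∈ V ∧ v * (k * v * k⁻¹) * (k * (k * v * k⁻¹) * k⁻¹) = 1}
  one_mem' := ⟨V.one_mem, by simp⟩
  mul_mem' := by
    rintro v w ⟨hv, hv1⟩ ⟨hw, hw1⟩
    refine ⟨V.mul_mem hv hw, ?_⟩
    have e1 : k * (v * w) * k⁻¹ = (k * v * k⁻¹) * (k * w * k⁻¹) := by group
    have e2 : k * ((k * v * k⁻¹) * (k * w * k⁻¹)) * k⁻¹ =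
        (k * (k * v * k⁻¹) * k⁻¹) * (k * (k * w * k⁻¹) * k⁻¹) := by group
    rw [e1, e2]
    have hc : ∀ x ∈ V, ∀ y ∈ V, x * y = y * x := fun x hx y hy => comm_of_sq hV2 hx hy
    rw [rearr hc hv (hkV v hv) (hkV _ (hkV v hv)) hw (hkV w hw) (hkV _ (hkV w hw)), hv1, hw1,
      one_mul]
  inv_mem' := by
    rintro v ⟨hv, hv1⟩
    have hvi : v⁻¹ = v := inv_eq_of_mul_eq_one_left (hV2 v hv)
    rw [Set.mem_ofPred_eq, hvi]
    exact ⟨hv, hv1⟩

theorem mem_normKer {V : Subgroup H} {k : H} {hV2 : ∀ x ∈ V, x * x = 1}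
    {hkV : ∀ x ∈ V, k * x * k⁻¹ ∈ V} {v : H} :
    v ∈ normKer V k hV2 hkV ↔
      v ∈ V ∧ v * (k * v * k⁻¹) * (k * (k * v * k⁻¹) * k⁻¹) = 1 := Iff.rfl


/-- a `2`-element normalizing a nontrivial `2`-group centralizes a nontrivial element of it -/
theorem exists_fixed [Finite H] (K : Subgroup H) (hK : IsPGroup 2 K) (hKne : K ≠ ⊥) (b : H)
    (j : ℕ) (hb : b ^ (2 ^ j) = 1) (hbK : b ∈ normalizer (K : Set H)) :
    ∃ v ∈ K, v ≠ 1 ∧ b * v * b⁻¹ = v := by
  haveI : Fact (Nat.Prime 2) := ⟨Nat.prime_two⟩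
  set b' : normalizer (K : Set H) := ⟨b, hbK⟩ with hb'
  have hΓ : IsPGroup 2 (zpowers b') := by
    rintro ⟨g, hg⟩
    obtain ⟨i, rfl⟩ := mem_zpowers_iff.mp hg
    refine ⟨j, Subtype.ext ?_⟩
    have h1 : b' ^ (2 ^ j) = 1 := Subtype.ext (by rw [Subgroup.coe_pow, Subgroup.coe_one]; exact hb)
    rw [Subgroup.coe_pow, Subgroup.coe_one]
    show (b' ^ i) ^ (2 ^ j) = 1
    rw [← zpow_natCast, ← zpow_mul, mul_comm, zpow_mul, zpow_natCast, h1, one_zpow]
  have hdvd : 2 ∣ Nat.card K := by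
    obtain ⟨n, hn⟩ := IsPGroup.iff_card.mp hK
    rcases Nat.eq_zero_or_pos n with h0 | hpos
    · exfalso
      rw [h0, pow_zero] at hn
      exact hKne ((Subgroup.card_eq_one).mp hn)
    · rw [hn]; exact dvd_pow_self 2 hpos.ne'
  have hone : (1 : K) ∈ MulAction.fixedPoints (zpowers b') K := by
    intro g
    exact smul_one g
  obtain ⟨x, hx, hne⟩ := hΓ.exists_fixed_point_of_prime_dvd_card_of_fixed_point ↥K hdvd hone
  refine ⟨x, x.2, ?_, ?_⟩
  · intro h
    exact hne (Subtype.ext h.symm)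
  · have := hx ⟨b', mem_zpowers b'⟩
    exact congrArg Subtype.val this


/-- the four-group `{1, v, v₁, v v₁}` -/
def four (v v1 : H) (hvv : v * v = 1) (h11 : v1 * v1 = 1) (hcomm : v * v1 = v1 * v) :
    Subgroup H where
  carrier := {x | x = 1 ∨ x = v ∨ x = v1 ∨ x = v * v1}
  one_mem' := Or.inl rfl
  mul_mem' := by
    have e1 : v * (v * v1) = v1 := by rw [← mul_assoc, hvv, one_mul]
    have e2 : v1 * (v * v1) = v := by rw [hcomm, ← mul_assoc, h11, one_mul]
    have e3 : v * v1 * v = v1 := by rw [hcomm, mul_assoc, hvv, mul_one]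
    have e4 : v * v1 * v1 = v := by rw [mul_assoc, h11, mul_one]
    have e5 : v * v1 * (v * v1) = 1 := by rw [mul_assoc, e2, hvv]
    rintro a b (rfl | rfl | rfl | rfl) (rfl | rfl | rfl | rfl)
    · left; rw [one_mul]
    · right; left; rw [one_mul]
    · right; right; left; rw [one_mul]
    · right; right; right; rw [one_mul]
    · right; left; rw [mul_one]
    · left; exact hvv
    · right; right; right; rfl
    · right; right; left; exact e1
    · right; right; left; rw [mul_one]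
    · right; right; right; exact hcomm.symm
    · left; exact h11
    · right; left; exact e2
    · right; right; right; rw [mul_one]
    · right; right; left; exact e3
    · right; left; exact e4
    · left; exact e5
  inv_mem' := by
    have e2 : v1 * (v * v1) = v := by rw [hcomm, ← mul_assoc, h11, one_mul]
    have e5 : v * v1 * (v * v1) = 1 := by rw [mul_assoc, e2, hvv]
    rintro a (rfl | rfl | rfl | rfl)
    · left; exact inv_one
    · right; left; exact inv_eq_of_mul_eq_one_left hvv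
    · right; right; left; exact inv_eq_of_mul_eq_one_left h11
    · right; right; right; exact inv_eq_of_mul_eq_one_left e5

theorem mem_four {v v1 : H} {hvv : v * v = 1} {h11 : v1 * v1 = 1} {hcomm : v * v1 = v1 * v}
    {x : H} : x ∈ four v v1 hvv h11 hcomm ↔ x = 1 ∨ x = v ∨ x = v1 ∨ x = v * v1 := Iff.rfl

theorem card_four {v v1 : H} {hvv : v * v = 1} {h11 : v1 * v1 = 1} {hcomm : v * v1 = v1 * v}
    (hv : v ≠ 1) (hv1 : v1 ≠ 1) (hne : v ≠ v1) : Nat.card (four v v1 hvv h11 hcomm) = 4 := by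
  classical
  have hset : ((four v v1 hvv h11 hcomm : Subgroup H) : Set H) = {1, v, v1, v * v1} := by
    ext x
    simp only [SetLike.mem_coe, mem_four, Set.mem_insert_iff, Set.mem_singleton_iff]
  change Nat.card (↑((four v v1 hvv h11 hcomm : Subgroup H) : Set H)) = 4
  rw [Nat.card_coe_set_eq, hset]
  have h1 : (1 : H) ∉ ({v, v1, v * v1} : Set H) := by
    simp only [Set.mem_insert_iff, Set.mem_singleton_iff, not_or]
    refine ⟨fun h => hv h.symm, fun h => hv1 h.symm, fun h => ?_⟩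
    -- v * v1 = 1 → v1 = v⁻¹ = v
    have : v1 = v⁻¹ := eq_inv_of_mul_eq_one_right h.symm
    rw [inv_eq_of_mul_eq_one_left hvv] at this
    exact hne this.symm
  have h2 : v ∉ ({v1, v * v1} : Set H) := by
    simp only [Set.mem_insert_iff, Set.mem_singleton_iff, not_or]
    refine ⟨hne, fun h => ?_⟩
    exact hv1 (by simpa using h.symm)
  have h3 : v1 ∉ ({v * v1} : Set H) := by
    simp only [Set.mem_singleton_iff]
    intro h
    exact hv (by simpa using h.symm)
  rw [Set.ncard_insert_of_notMem h1, Set.ncard_insert_of_notMem h2,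
    Set.ncard_insert_of_notMem h3, Set.ncard_singleton]

end Cfsg.Agent.Lib.Helper15.S3S4
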