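import Mathlib
import Cfsg.Agent.Lib.Helper15.S3S4a
import Cfsg.Agent.Lib.Helper15.QdSection
import Cfsg.Agent.Lib.Helper11.QuadFree

/-!
# `S₃` on a four-group gives `S₄` (helper15)
-/

set_option autoImplicit false

namespace Cfsg.Agent.Lib.Helper15.S3S4

open Subgroup
open Cfsg.Agent.Lib.Lead.GlaubermanRepl (card_sup_mul_card_inf)

variable {H : Type*} [Group H]

/-- a quotient isomorphic to `Y` is a section -/
theorem involves_of_quotient_equiv {X : Type*} [Group X] {Y : Type*} [Group Y] (N : Subgroup X)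
    [N.Normal] (e : X ⧸ N ≃* Y) : Cfsg.Involves Y X := by
  apply Cfsg.Agent.Lib.Helper15.QdSection.involves_of_surjective (⊤ : Subgroup X)
    ((e.toMonoidHom.comp (QuotientGroup.mk' N)).comp (⊤ : Subgroup X).subtype)
  intro y
  obtain ⟨q, rfl⟩ := e.surjective y
  obtain ⟨x, rfl⟩ := QuotientGroup.mk'_surjective N q
  exact ⟨⟨x, Subgroup.mem_top x⟩, rfl⟩

/-- the configuration: `k` cycles `v → v₁ → v v₁ → v`, `b` fixes `v` and swaps `v₁, v v₁`. -/
theorem config [Finite H] (k b v v1 : H)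
    (hvv : v * v = 1) (h11 : v1 * v1 = 1) (hcomm : v * v1 = v1 * v)
    (hv : v ≠ 1) (hv1 : v1 ≠ 1) (hne : v ≠ v1)
    (hbk : b * k * b⁻¹ = k⁻¹)
    (hkv : k * v * k⁻¹ = v1) (hkv1 : k * v1 * k⁻¹ = v * v1) (hkvv1 : k * (v * v1) * k⁻¹ = v)
    (hbv : b * v * b⁻¹ = v) (hbv1 : b * v1 * b⁻¹ = v * v1) (hbvv1 : b * (v * v1) * b⁻¹ = v1) :
    Cfsg.Involves (Equiv.Perm (Fin 4)) H := by
  obtain ⟨W, hWdef⟩ : ∃ W : Subgroup H, W = four v v1 hvv h11 hcomm := ⟨_, rfl⟩
  have hmemW : ∀ x, x ∈ W ↔ x = 1 ∨ x = v ∨ x = v1 ∨ x = v * v1 := by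
    intro x; rw [hWdef]; exact mem_four
  have hW4 : Nat.card W = 4 := by rw [hWdef]; exact card_four hv hv1 hne
  have hvW : v ∈ W := (hmemW v).mpr (Or.inr (Or.inl rfl))
  have hv1W : v1 ∈ W := (hmemW v1).mpr (Or.inr (Or.inr (Or.inl rfl)))
  have hvv1W : v * v1 ∈ W := (hmemW _).mpr (Or.inr (Or.inr (Or.inr rfl)))
  -- k and b normalize W
  have hkW : k ∈ normalizer (W : Set H) := by
    apply mem_normalizer_fintype
    intro n hn
    rcases (hmemW n).mp hn with rfl | rfl | rfl | rfl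
    · simp [W.one_mem]
    · rw [hkv]; exact hv1W
    · rw [hkv1]; exact hvv1W
    · rw [hkvv1]; exact hvW
  have hbW : b ∈ normalizer (W : Set H) := by
    apply mem_normalizer_fintype
    intro n hn
    rcases (hmemW n).mp hn with rfl | rfl | rfl | rfl
    · simp [W.one_mem]
    · rw [hbv]; exact hvW
    · rw [hbv1]; exact hvv1W
    · rw [hbvv1]; exact hv1W
  obtain ⟨D, hDdef⟩ : ∃ D : Subgroup H, D = closure ({k, b} : Set H) := ⟨_, rfl⟩
  have hkD : k ∈ D := by rw [hDdef]; exact subset_closure (by simp)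
  have hbD : b ∈ D := by rw [hDdef]; exact subset_closure (by simp)
  have hDW : D ≤ normalizer (W : Set H) := by
    rw [hDdef, closure_le]
    rintro x (rfl | rfl)
    · exact hkW
    · exact hbW
  -- zpowers k is normal in D
  have hDk : D ≤ normalizer ((zpowers k : Subgroup H) : Set H) := by
    rw [hDdef, closure_le]
    rintro x (rfl | rfl)
    · exact le_normalizer (mem_zpowers _)
    · apply mem_normalizer_fintype
      rintro n ⟨i, rfl⟩
      have : x * k ^ i * x⁻¹ = (x * k * x⁻¹) ^ i := by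
        rw [conj_zpow]
      rw [SetLike.mem_coe, this, hbk]
      exact zpow_mem (inv_mem (mem_zpowers k)) i
  -- D ∩ W = 1
  have hDWbot : D ⊓ W = ⊥ := by
    rw [eq_bot_iff]
    intro x hx
    rw [mem_bot]
    by_contra hx1
    obtain ⟨hxD, hxW⟩ := mem_inf.mp hx
    -- v ∈ D
    have hconj : ∀ y, y ∈ D ⊓ W → k * y * k⁻¹ ∈ D ⊓ W := by
      intro y hy
      obtain ⟨hyD, hyW⟩ := mem_inf.mp hy
      exact mem_inf.mpr ⟨D.mul_mem (D.mul_mem hkD hyD) (D.inv_mem hkD),
        (mem_normalizer_iff.mp hkW y).mp hyW⟩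
    have hvD : v ∈ D := by
      rcases (hmemW x).mp hxW with rfl | rfl | rfl | rfl
      · exact absurd rfl hx1
      · exact hxD
      · have h1 := hconj _ hx
        rw [hkv1] at h1
        have h2 := hconj _ h1
        rw [hkvv1] at h2
        exact (mem_inf.mp h2).1
      · have h1 := hconj _ hx
        rw [hkvv1] at h1
        exact (mem_inf.mp h1).1
    -- c = v k v⁻¹ k⁻¹ = v v1 ∈ zpowers k
    have hc1 : v * k * v⁻¹ ∈ zpowers k := (mem_normalizer_iff.mp (hDk hvD) k).mp (mem_zpowers k)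
    have hc2 : v * k * v⁻¹ * k⁻¹ ∈ zpowers k := mul_mem hc1 (inv_mem (mem_zpowers k))
    have hvi : v⁻¹ = v := inv_eq_of_mul_eq_one_left hvv
    have h1i : v1⁻¹ = v1 := inv_eq_of_mul_eq_one_left h11
    have hc3 : v * k * v⁻¹ * k⁻¹ = v * v1 := by
      calc v * k * v⁻¹ * k⁻¹ = v * (k * v * k⁻¹)⁻¹ := by group
        _ = v * v1 := by rw [hkv, h1i]
    rw [hc3] at hc2
    obtain ⟨i, hi⟩ := hc2
    -- v v1 commutes with k
    have hcm : k * (v * v1) * k⁻¹ = v * v1 := by
      rw [← hi]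
      have : Commute k (k ^ i) := (Commute.refl k).zpow_right i
      rw [this.eq, mul_inv_cancel_right]
    rw [hkvv1] at hcm
    -- v = v v1 → v1 = 1
    exact hv1 (by simpa using hcm.symm)
  -- the group L1 = D W
  obtain ⟨L1, hL1def⟩ : ∃ L1 : Subgroup H, L1 = D ⊔ W := ⟨_, rfl⟩
  have hDL : D ≤ L1 := by rw [hL1def]; exact le_sup_left
  have hWL : W ≤ L1 := by rw [hL1def]; exact le_sup_right
  have hcardL : Nat.card L1 = Nat.card D * 4 := by
    have := card_sup_mul_card_inf D W hDW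
    rw [hDWbot, Subgroup.card_bot, mul_one, hW4, ← hL1def] at this
    exact this
  -- the centralizer of W in D
  obtain ⟨C0, hC0def⟩ : ∃ C0 : Subgroup H, C0 = D ⊓ centralizer (W : Set H) := ⟨_, rfl⟩
  have hC0D : C0 ≤ D := by rw [hC0def]; exact inf_le_left
  have conj3 : ∀ w ∈ W, k * (k * (k * w * k⁻¹) * k⁻¹) * k⁻¹ = w := by
    intro w hw
    rcases (hmemW w).mp hw with rfl | rfl | rfl | rfl
    · group
    · rw [hkv, hkv1, hkvv1]
    · rw [hkv1, hkvv1, hkv]
    · rw [hkvv1, hkv, hkv1]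
  have conj2 : ∀ w ∈ W, b * (b * w * b⁻¹) * b⁻¹ = w := by
    intro w hw
    rcases (hmemW w).mp hw with rfl | rfl | rfl | rfl
    · group
    · rw [hbv, hbv]
    · rw [hbv1, hbvv1]
    · rw [hbvv1, hbv1]
  have hk3C : k ^ 3 ∈ C0 := by
    rw [hC0def]
    refine mem_inf.mpr ⟨D.pow_mem hkD 3, ?_⟩
    rw [mem_centralizer_iff]
    intro w hw
    have e3 : k ^ 3 = k * k * k := by rw [pow_succ, pow_succ, pow_one]
    rw [e3]
    calc w * (k * k * k) = k * k * k * (k⁻¹ * (k⁻¹ * (k⁻¹ * w * k) * k) * k) := by group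
      _ = k * k * k * w := by
        congr 1
        have h := conj3 w hw
        calc k⁻¹ * (k⁻¹ * (k⁻¹ * w * k) * k) * k
            = k⁻¹ * (k⁻¹ * (k⁻¹ * (k * (k * (k * w * k⁻¹) * k⁻¹) * k⁻¹) * k) * k) * k := by rw [h]
          _ = w := by group
  have hb2C : b ^ 2 ∈ C0 := by
    rw [hC0def]
    refine mem_inf.mpr ⟨D.pow_mem hbD 2, ?_⟩
    rw [mem_centralizer_iff]
    intro w hw
    have h := conj2 w hw
    have e2 : b ^ 2 = b * b := pow_two b
    rw [e2]
    calc w * (b * b) = b * b * (b⁻¹ * (b⁻¹ * w * b) * b) := by group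
      _ = b * b * w := by
        congr 1
        calc b⁻¹ * (b⁻¹ * w * b) * b
            = b⁻¹ * (b⁻¹ * (b * (b * w * b⁻¹) * b⁻¹) * b) * b := by rw [h]
          _ = w := by group
  have hkC : k ∉ C0 := by
    rw [hC0def]
    intro h
    have := (mem_centralizer_iff.mp (mem_inf.mp h).2) v hvW
    -- v * k = k * v → k v k⁻¹ = v
    apply hne
    rw [← hkv, ← this, mul_inv_cancel_right]
  have hbC : b ∉ C0 := by
    rw [hC0def]
    intro h
    have := (mem_centralizer_iff.mp (mem_inf.mp h).2) v1 hv1W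
    have h2 : b * v1 * b⁻¹ = v1 := by rw [← this, mul_inv_cancel_right]
    rw [hbv1] at h2
    exact hv (by simpa using h2)
  have h6 : 6 * Nat.card C0 ≤ Nat.card D := by
    haveI hn : (C0.subgroupOf D).Normal := by
      refine ⟨fun n hn g => ?_⟩
      rw [mem_subgroupOf] at hn ⊢
      rw [hC0def] at hn ⊢
      refine mem_inf.mpr ⟨(g * n * g⁻¹).2, ?_⟩
      rw [mem_centralizer_iff]
      intro w hw
      have hw' : (g : H)⁻¹ * w * (g : H) ∈ W := by
        have := (mem_normalizer_iff.mp (hDW (D.inv_mem g.2)) w).mp hw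
        simpa using this
      have hc := (mem_centralizer_iff.mp (mem_inf.mp hn).2) _ hw'
      show w * ((g : H) * (n : H) * (g : H)⁻¹) = (g : H) * (n : H) * (g : H)⁻¹ * w
      calc w * ((g : H) * (n : H) * (g : H)⁻¹)
          = (g : H) * (((g : H)⁻¹ * w * (g : H)) * (n : H)) * (g : H)⁻¹ := by group
        _ = (g : H) * ((n : H) * ((g : H)⁻¹ * w * (g : H))) * (g : H)⁻¹ := by rw [hc]
        _ = (g : H) * (n : H) * (g : H)⁻¹ * w := by group
    haveI : Fact (Nat.Prime 3) := ⟨Nat.prime_three⟩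
    haveI : Fact (Nat.Prime 2) := ⟨Nat.prime_two⟩
    set qk : D ⧸ C0.subgroupOf D := QuotientGroup.mk (⟨k, hkD⟩ : D) with hqk
    set qb : D ⧸ C0.subgroupOf D := QuotientGroup.mk (⟨b, hbD⟩ : D) with hqb
    have hqk3 : qk ^ 3 = 1 := by
      rw [hqk, ← QuotientGroup.mk_pow, QuotientGroup.eq_one_iff, mem_subgroupOf]
      exact hk3C
    have hqk1 : qk ≠ 1 := by
      rw [hqk, Ne, QuotientGroup.eq_one_iff, mem_subgroupOf]
      exact hkC
    have hqb2 : qb ^ 2 = 1 := by
      rw [hqb, ← QuotientGroup.mk_pow, QuotientGroup.eq_one_iff, mem_subgroupOf]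
      exact hb2C
    have hqb1 : qb ≠ 1 := by
      rw [hqb, Ne, QuotientGroup.eq_one_iff, mem_subgroupOf]
      exact hbC
    have ho3 : orderOf qk = 3 := orderOf_eq_prime hqk3 hqk1
    have ho2 : orderOf qb = 2 := orderOf_eq_prime hqb2 hqb1
    have hd3 : 3 ∣ Nat.card (D ⧸ C0.subgroupOf D) := by rw [← ho3]; exact orderOf_dvd_natCard qk
    have hd2 : 2 ∣ Nat.card (D ⧸ C0.subgroupOf D) := by rw [← ho2]; exact orderOf_dvd_natCard qb
    have hd6 : 6 ∣ Nat.card (D ⧸ C0.subgroupOf D) :=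
      Nat.Coprime.mul_dvd_of_dvd_of_dvd (by norm_num : Nat.Coprime 2 3) hd2 hd3
    have hle6 : 6 ≤ Nat.card (D ⧸ C0.subgroupOf D) := Nat.le_of_dvd Nat.card_pos hd6
    have hcard := Subgroup.card_eq_card_quotient_mul_card_subgroup (C0.subgroupOf D)
    have hC0' : Nat.card (C0.subgroupOf D) = Nat.card C0 :=
      Nat.card_congr (Subgroup.subgroupOfEquivOfLe hC0D).toEquiv
    rw [hcard, hC0']
    exact Nat.mul_le_mul_right _ hle6
  -- the coset action
  have hR4 : (D.subgroupOf L1).index = 4 := by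
    have h1 := Subgroup.card_mul_index (D.subgroupOf L1)
    have h2 : Nat.card (D.subgroupOf L1) = Nat.card D :=
      Nat.card_congr (Subgroup.subgroupOfEquivOfLe hDL).toEquiv
    rw [h2, hcardL] at h1
    exact Nat.eq_of_mul_eq_mul_left Nat.card_pos h1
  have hcore : Nat.card (D.subgroupOf L1).normalCore ≤ Nat.card C0 := by
    have hmem : ∀ x : L1, x ∈ (D.subgroupOf L1).normalCore → (x : H) ∈ C0 := by
      intro x hx
      have hxD : (x : H) ∈ D := by
        have := (D.subgroupOf L1).normalCore_le hx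
        exact mem_subgroupOf.mp this
      rw [hC0def]
      refine mem_inf.mpr ⟨hxD, ?_⟩
      rw [mem_centralizer_iff]
      intro w hw
      have h1 : (⟨w, hWL hw⟩ : L1) * x * (⟨w, hWL hw⟩ : L1)⁻¹ ∈ D.subgroupOf L1 := hx _
      have h2 : w * (x : H) * w⁻¹ ∈ D := by
        have := mem_subgroupOf.mp h1
        simpa using this
      have h3 : w * (x : H) * w⁻¹ * (x : H)⁻¹ ∈ D := D.mul_mem h2 (D.inv_mem hxD)
      have h4 : w * (x : H) * w⁻¹ * (x : H)⁻¹ ∈ W := by
        have h5 : (x : H) * w⁻¹ * (x : H)⁻¹ ∈ W :=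
          (mem_normalizer_iff.mp (hDW hxD) w⁻¹).mp (W.inv_mem hw)
        have : w * (x : H) * w⁻¹ * (x : H)⁻¹ = w * ((x : H) * w⁻¹ * (x : H)⁻¹) := by group
        rw [this]
        exact W.mul_mem hw h5
      have h6 : w * (x : H) * w⁻¹ * (x : H)⁻¹ ∈ D ⊓ W := mem_inf.mpr ⟨h3, h4⟩
      rw [hDWbot, mem_bot] at h6
      calc w * (x : H) = (w * (x : H) * w⁻¹ * (x : H)⁻¹) * ((x : H) * w) := by group
        _ = (x : H) * w := by rw [h6, one_mul]
    apply Nat.card_le_card_of_injective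
      (fun x : (D.subgroupOf L1).normalCore => (⟨((x : L1) : H), hmem x.1 x.2⟩ : C0))
    intro x y hxy
    have : ((x : L1) : H) = ((y : L1) : H) := congrArg (fun z : C0 => (z : H)) hxy
    exact Subtype.ext (Subtype.ext this)
  have hcore24 : 24 * Nat.card (D.subgroupOf L1).normalCore ≤ Nat.card L1 := by
    rw [hcardL]
    calc 24 * Nat.card (D.subgroupOf L1).normalCore ≤ 24 * Nat.card C0 :=
          Nat.mul_le_mul_left _ hcore
      _ = (6 * Nat.card C0) * 4 := by ring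
      _ ≤ Nat.card D * 4 := Nat.mul_le_mul_right _ h6
  obtain ⟨e⟩ := Cfsg.Agent.Lib.Helper1.ThompsonA.perm4_of_coset_action (D.subgroupOf L1) hR4 hcore24
  exact Cfsg.Agent.Lib.Helper11.QuadFree.involves_of_subgroup L1
    (involves_of_quotient_equiv (D.subgroupOf L1).normalCore e)

end Cfsg.Agent.Lib.Helper15.S3S4
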