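import Mathlib
import Cfsg.Agent.Lib.Helper15.S3S4b

/-!
# `S₃` acting on an elementary abelian normal `2`-subgroup gives `S₄` (helper15)
-/

set_option autoImplicit false

namespace Cfsg.Agent.Lib.Helper15.S3S4

open Subgroup

variable {H : Type*} [Group H]

/-- conjugation by an element inverting `k` preserves the kernel of the norm -/
theorem conj_mem_normKer (V : Subgroup H) (k : H) (hV2 : ∀ x ∈ V, x * x = 1)
    (hkV : ∀ x ∈ V, k * x * k⁻¹ ∈ V)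
    (hk3 : ∀ v ∈ V, k * (k * (k * v * k⁻¹) * k⁻¹) * k⁻¹ = v)
    (g : H) (hg : g * k * g⁻¹ = k⁻¹) (hgV : ∀ x ∈ V, g * x * g⁻¹ ∈ V)
    (v : H) (hv : v ∈ normKer V k hV2 hkV) : g * v * g⁻¹ ∈ normKer V k hV2 hkV := by
  obtain ⟨hvV, hN⟩ := hv
  have hkg : k * g = g * k⁻¹ := by
    calc k * g = (g * k * g⁻¹)⁻¹ * g := by rw [hg, inv_inv]
      _ = g * k⁻¹ := by group
  have cg : ∀ x : H, k * (g * x * g⁻¹) * k⁻¹ = g * (k⁻¹ * x * k) * g⁻¹ := by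
    intro x
    calc k * (g * x * g⁻¹) * k⁻¹ = (k * g) * x * (k * g)⁻¹ := by group
      _ = (g * k⁻¹) * x * (g * k⁻¹)⁻¹ := by rw [hkg]
      _ = g * (k⁻¹ * x * k) * g⁻¹ := by group
  obtain ⟨v1, hv1⟩ : ∃ v1, v1 = k * v * k⁻¹ := ⟨_, rfl⟩
  obtain ⟨v2, hv2⟩ : ∃ v2, v2 = k * v1 * k⁻¹ := ⟨_, rfl⟩
  have hv1V : v1 ∈ V := by rw [hv1]; exact hkV v hvV
  have hv2V : v2 ∈ V := by rw [hv2]; exact hkV v1 hv1V
  have h3 : k * v2 * k⁻¹ = v := by rw [hv2, hv1]; exact hk3 v hvV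
  rw [← hv1, ← hv2] at hN
  have e1 : k⁻¹ * v * k = v2 := by
    calc k⁻¹ * v * k = k⁻¹ * (k * v2 * k⁻¹) * k := by rw [h3]
      _ = v2 := by group
  have e2 : k⁻¹ * v2 * k = v1 := by rw [hv2]; group
  refine ⟨hgV v hvV, ?_⟩
  rw [cg v, e1, cg v2, e2]
  have hc : v2 * v1 = v1 * v2 := comm_of_sq hV2 hv2V hv1V
  calc g * v * g⁻¹ * (g * v2 * g⁻¹) * (g * v1 * g⁻¹) = g * (v * (v2 * v1)) * g⁻¹ := by group
    _ = g * (v * v1 * v2) * g⁻¹ := by rw [hc, ← mul_assoc v v1 v2]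
    _ = 1 := by rw [hN]; group

/-- **`S₄` from an `S₃` acting on an elementary abelian normal `2`-subgroup.** -/
theorem core [Finite H] (V : Subgroup H) [hVn : V.Normal] (hV2 : ∀ x ∈ V, x * x = 1)
    (k b : H) (hbk : b * k * b⁻¹ = k⁻¹) (j : ℕ) (hb : b ^ (2 ^ j) = 1)
    (hk3 : ∀ v ∈ V, k * (k * (k * v * k⁻¹) * k⁻¹) * k⁻¹ = v)
    (t : H) (htV : t ∈ V) (hkt : k * t * k⁻¹ ≠ t) :
    Cfsg.Involves (Equiv.Perm (Fin 4)) H := by
  have hinv : ∀ x ∈ V, x⁻¹ = x := fun x hx => inv_eq_of_mul_eq_one_left (hV2 x hx)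
  have hkV : ∀ x ∈ V, k * x * k⁻¹ ∈ V := fun x hx => hVn.conj_mem x hx k
  have hbV : ∀ x ∈ V, b * x * b⁻¹ ∈ V := fun x hx => hVn.conj_mem x hx b
  have hbiV : ∀ x ∈ V, b⁻¹ * x * b⁻¹⁻¹ ∈ V := fun x hx => hVn.conj_mem x hx b⁻¹
  obtain ⟨KN, hKN⟩ : ∃ KN : Subgroup H, KN = normKer V k hV2 hkV := ⟨_, rfl⟩
  have hKNne : KN ≠ ⊥ := by
    intro h
    have hu : t * (k * t * k⁻¹) ∈ KN := by
      rw [hKN]
      refine ⟨V.mul_mem htV (hkV t htV), ?_⟩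
      have e1 : k * (t * (k * t * k⁻¹)) * k⁻¹ = (k * t * k⁻¹) * (k * (k * t * k⁻¹) * k⁻¹) := by
        group
      have e2 : k * ((k * t * k⁻¹) * (k * (k * t * k⁻¹) * k⁻¹)) * k⁻¹ =
          (k * (k * t * k⁻¹) * k⁻¹) * (k * (k * (k * t * k⁻¹) * k⁻¹) * k⁻¹) := by group
      rw [e1, e2, hk3 t htV]
      obtain ⟨t1, ht1⟩ : ∃ t1, t1 = k * t * k⁻¹ := ⟨_, rfl⟩
      obtain ⟨t2, ht2⟩ : ∃ t2, t2 = k * t1 * k⁻¹ := ⟨_, rfl⟩
      rw [← ht1, ← ht2]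
      have h1 : t1 * t1 = 1 := by rw [ht1]; exact hV2 _ (hkV t htV)
      have h2 : t2 * t2 = 1 := by rw [ht2, ht1]; exact hV2 _ (hkV _ (hkV t htV))
      calc t * t1 * (t1 * t2) * (t2 * t) = t * (t1 * t1) * (t2 * t2) * t := by group
        _ = 1 := by rw [h1, h2, mul_one, mul_one, hV2 t htV]
    rw [h, mem_bot] at hu
    apply hkt
    rw [eq_inv_of_mul_eq_one_right hu, hinv t htV]
  have hKN2 : IsPGroup 2 KN := by
    rintro ⟨x, hx⟩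
    refine ⟨1, Subtype.ext ?_⟩
    rw [hKN] at hx
    rw [pow_one, pow_two, Subgroup.coe_mul, Subgroup.coe_one]
    exact hV2 x hx.1
  have hbKN : b ∈ normalizer (KN : Set H) := by
    apply mem_normalizer_fintype
    intro n hn
    rw [SetLike.mem_coe, hKN] at hn ⊢
    exact conj_mem_normKer V k hV2 hkV hk3 b hbk hbV n hn
  obtain ⟨v, hvKN, hv1', hbv⟩ := exists_fixed KN hKN2 hKNne b j hb hbKN
  rw [hKN] at hvKN
  obtain ⟨hvV, hN⟩ := hvKN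
  obtain ⟨v1, hv1def⟩ : ∃ v1, v1 = k * v * k⁻¹ := ⟨_, rfl⟩
  rw [← hv1def] at hN
  have hv1V : v1 ∈ V := by rw [hv1def]; exact hkV v hvV
  have hvv : v * v = 1 := hV2 v hvV
  have h11 : v1 * v1 = 1 := hV2 v1 hv1V
  have hcomm : v * v1 = v1 * v := comm_of_sq hV2 hvV hv1V
  have hvv1V : v * v1 ∈ V := V.mul_mem hvV hv1V
  have hkv1 : k * v1 * k⁻¹ = v * v1 := by
    rw [eq_inv_of_mul_eq_one_right hN, hinv _ hvv1V]
  have hkvv1 : k * (v * v1) * k⁻¹ = v := by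
    have := hk3 v hvV
    rw [← hv1def, hkv1] at this
    exact this
  have hv1ne : v1 ≠ 1 := by
    intro h
    apply hv1'
    rw [h] at hv1def
    have : k * v * k⁻¹ = k * 1 * k⁻¹ := by rw [← hv1def]; group
    exact mul_left_cancel (mul_right_cancel this)
  have hne : v ≠ v1 := by
    intro h
    apply hv1ne
    have h1 : k * v1 * k⁻¹ = v * v1 := hkv1
    rw [← h] at h1
    rw [← hv1def, hvv] at h1
    exact h1
  have hkv : k * v * k⁻¹ = v1 := hv1def.symm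
  have hbv1 : b * v1 * b⁻¹ = v * v1 := by
    calc b * v1 * b⁻¹ = (b * k * b⁻¹) * (b * v * b⁻¹) * (b * k * b⁻¹)⁻¹ := by
          rw [hv1def]; group
      _ = k⁻¹ * v * k := by rw [hbk, hbv, inv_inv]
      _ = k⁻¹ * (k * (v * v1) * k⁻¹) * k := by rw [hkvv1]
      _ = v * v1 := by group
  have hbvv1 : b * (v * v1) * b⁻¹ = v1 := by
    calc b * (v * v1) * b⁻¹ = (b * v * b⁻¹) * (b * v1 * b⁻¹) := by group
      _ = v * (v * v1) := by rw [hbv, hbv1]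
      _ = v1 := by rw [← mul_assoc, hvv, one_mul]
  exact config k b v v1 hvv h11 hcomm hv1' hv1ne hne hbk hkv hkv1 hkvv1 hbv hbv1 hbvv1

end Cfsg.Agent.Lib.Helper15.S3S4
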