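import Mathlib
import Cfsg.Agent.Lib.Helper15.S3S4c
import Cfsg.Agent.Lib.Helper3.BurnsideFrattini
import Cfsg.Agent.Lib.Helper11.PGroupFrattini
import Cfsg.Agent.Lib.Helper11.QuadFree2

/-!
# From an `S₃` acting on a `2`-group to `S₄` (helper15)

`bridge`: `T` a `2`-subgroup, `b` a `2`-element inverting `k`, both normalizing `T`, `k³`
centralizing `T` but `k` not: then `S₄` is involved (pass to `N(T)/Φ(T)` and apply `core`).
-/

set_option autoImplicit false

namespace Cfsg.Agent.Lib.Helper15.S3S4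

open Subgroup

variable {G : Type*} [Group G]

theorem bridge [Finite G] (T : Subgroup G) (hT : IsPGroup 2 T)
    (k b : G) (hkT : k ∈ normalizer (T : Set G)) (hbT : b ∈ normalizer (T : Set G))
    (hbk : b * k * b⁻¹ = k⁻¹) (j : ℕ) (hb : b ^ (2 ^ j) = 1)
    (hk3 : k ^ 3 ∈ centralizer (T : Set G)) (hkC : k ∉ centralizer (T : Set G)) :
    Cfsg.Involves (Equiv.Perm (Fin 4)) G := by
  haveI : Fact (Nat.Prime 2) := ⟨Nat.prime_two⟩
  -- the ambient group N = N_G(T)
  obtain ⟨TN, hTN⟩ : ∃ TN : Subgroup (normalizer (T : Set G)),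
      TN = T.subgroupOf (normalizer (T : Set G)) := ⟨_, rfl⟩
  haveI hTNn : TN.Normal := by rw [hTN]; exact Subgroup.normal_in_normalizer
  have hTN2 : IsPGroup 2 TN := by rw [hTN]; exact hT.comap_subtype
  obtain ⟨Φ, hΦ⟩ : ∃ Φ : Subgroup (normalizer (T : Set G)),
      Φ = (frattini TN).map TN.subtype := ⟨_, rfl⟩
  haveI hΦn : Φ.Normal := by rw [hΦ]; exact ConjAct.normal_of_characteristic_of_normal
  obtain ⟨V, hV⟩ : ∃ V : Subgroup (normalizer (T : Set G) ⧸ Φ),
      V = TN.map (QuotientGroup.mk' Φ) := ⟨_, rfl⟩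
  haveI hVn : V.Normal := by
    rw [hV]; exact Subgroup.Normal.map hTNn _ (QuotientGroup.mk'_surjective Φ)
  set k' : normalizer (T : Set G) := ⟨k, hkT⟩ with hk'
  set b' : normalizer (T : Set G) := ⟨b, hbT⟩ with hb'
  have hbk' : b' * k' * b'⁻¹ = k'⁻¹ := Subtype.ext (by
    simp only [Subgroup.coe_mul, Subgroup.coe_inv, hb', hk']; exact hbk)
  have hbpow : b' ^ (2 ^ j) = 1 := Subtype.ext (by
    rw [Subgroup.coe_pow, Subgroup.coe_one]; exact hb)
  -- squares of elements of T lie in Φ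
  have hV2 : ∀ x ∈ V, x * x = 1 := by
    intro x hx
    rw [hV] at hx
    obtain ⟨t, ht, rfl⟩ := hx
    have h1 := Cfsg.Agent.Lib.Helper11.pow_mem_frattini_of_isPGroup hTN2 (⟨t, ht⟩ : TN)
    have h2 : t * t ∈ Φ := by
      rw [hΦ]
      refine ⟨(⟨t, ht⟩ : TN) ^ 2, h1, ?_⟩
      simp [pow_two]
    rw [QuotientGroup.mk'_apply, ← QuotientGroup.mk_mul, QuotientGroup.eq_one_iff]
    exact h2
  -- k³ centralizes
  have hcent3 : ∀ t : normalizer (T : Set G), t ∈ TN →
      k' * (k' * (k' * t * k'⁻¹) * k'⁻¹) * k'⁻¹ = t := by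
    intro t ht
    rw [hTN, mem_subgroupOf] at ht
    have hc := (mem_centralizer_iff.mp hk3) (t : G) ht
    apply Subtype.ext
    simp only [Subgroup.coe_mul, Subgroup.coe_inv, hk']
    calc k * (k * (k * (t : G) * k⁻¹) * k⁻¹) * k⁻¹ = k ^ 3 * (t : G) * (k ^ 3)⁻¹ := by
          rw [pow_succ, pow_succ, pow_one]; group
      _ = (t : G) := by rw [← hc, mul_inv_cancel_right]
  have hk3V : ∀ v ∈ V, QuotientGroup.mk' Φ k' * (QuotientGroup.mk' Φ k' *
      (QuotientGroup.mk' Φ k' * v * (QuotientGroup.mk' Φ k')⁻¹) * (QuotientGroup.mk' Φ k')⁻¹) *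
      (QuotientGroup.mk' Φ k')⁻¹ = v := by
    intro v hv
    rw [hV] at hv
    obtain ⟨t, ht, rfl⟩ := hv
    simp only [← map_mul, ← map_inv]
    rw [hcent3 t ht]
  -- k acts nontrivially on V
  have hex : ∃ t ∈ TN, QuotientGroup.mk' Φ k' * QuotientGroup.mk' Φ t *
      (QuotientGroup.mk' Φ k')⁻¹ ≠ QuotientGroup.mk' Φ t := by
    by_contra hcon
    push_neg at hcon
    apply hkC
    -- the automorphism α of TN induced by k
    set α : MulAut TN := MulAut.conjNormal k' with hα
    have hαtriv : α ∈ Cfsg.Agent.Lib.Helper3.trivOnFrattiniQuot TN := by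
      rw [Cfsg.Agent.Lib.Helper3.mem_trivOnFrattiniQuot]
      intro x
      have h1 := hcon (x : normalizer (T : Set G)) x.2
      have h2 : (k' * (x : normalizer (T : Set G)) * k'⁻¹) * (x : normalizer (T : Set G))⁻¹ ∈ Φ := by
        rw [← QuotientGroup.eq_one_iff]
        have e : (((k' * (x : normalizer (T : Set G)) * k'⁻¹) *
            (x : normalizer (T : Set G))⁻¹ : normalizer (T : Set G)) :
            normalizer (T : Set G) ⧸ Φ) =
            QuotientGroup.mk' Φ k' * QuotientGroup.mk' Φ (x : normalizer (T : Set G)) *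
              (QuotientGroup.mk' Φ k')⁻¹ *
              (QuotientGroup.mk' Φ (x : normalizer (T : Set G)))⁻¹ := by
          simp
        rw [e, h1, mul_inv_cancel]
      rw [hΦ] at h2
      obtain ⟨y, hy, hyx⟩ := h2
      have : y = α x * x⁻¹ := by
        apply Subtype.ext
        rw [Subgroup.coe_mul, Subgroup.coe_inv, hα, MulAut.conjNormal_apply]
        exact hyx
      rw [← this]; exact hy
    obtain ⟨a, ha⟩ := Cfsg.Agent.Lib.Helper3.exists_pow_eq_one_of_trivOnFrattiniQuot hTN2 α hαtriv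
    have hα3 : α ^ 3 = 1 := by
      have e : α ^ 3 = MulAut.conjNormal (k' ^ 3) := by rw [hα, map_pow]
      rw [e]
      apply MulEquiv.ext
      intro x
      apply Subtype.ext
      rw [MulAut.conjNormal_apply, MulAut.one_apply]
      have := hcent3 (x : normalizer (T : Set G)) x.2
      calc k' ^ 3 * (x : normalizer (T : Set G)) * (k' ^ 3)⁻¹
          = k' * (k' * (k' * (x : normalizer (T : Set G)) * k'⁻¹) * k'⁻¹) * k'⁻¹ := by
            rw [pow_succ, pow_succ, pow_one]; group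
        _ = x := this
    have hα1 : α = 1 := by
      have h1 : orderOf α ∣ 2 ^ a := orderOf_dvd_of_pow_eq_one ha
      have h2 : orderOf α ∣ 3 := orderOf_dvd_of_pow_eq_one hα3
      have h3 : orderOf α ∣ Nat.gcd (2 ^ a) 3 := Nat.dvd_gcd h1 h2
      have h4 : Nat.gcd (2 ^ a) 3 = 1 := by
        apply Nat.Coprime.pow_left
        norm_num
      rw [h4, Nat.dvd_one] at h3
      exact orderOf_eq_one_iff.mp h3
    rw [mem_centralizer_iff]
    intro t ht
    have htN : (⟨t, le_normalizer ht⟩ : normalizer (T : Set G)) ∈ TN := by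
      rw [hTN, mem_subgroupOf]; exact ht
    have h1 : α ⟨⟨t, le_normalizer ht⟩, htN⟩ = ⟨⟨t, le_normalizer ht⟩, htN⟩ := by
      rw [hα1, MulAut.one_apply]
    have h2 := congrArg (fun z : TN => ((z : normalizer (T : Set G)) : G)) h1
    simp only [hα, MulAut.conjNormal_apply, Subgroup.coe_mul, Subgroup.coe_inv, hk'] at h2
    -- k t k⁻¹ = t
    calc t * k = (k * t * k⁻¹) * k := by rw [h2]
      _ = k * t := by group
  obtain ⟨t, ht, htne⟩ := hex
  have hcore := core V hV2 (QuotientGroup.mk' Φ k') (QuotientGroup.mk' Φ b')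
    (by rw [← map_mul, ← map_inv, ← map_mul, hbk', map_inv]) j
    (by rw [← map_pow, hbpow, map_one]) hk3V (QuotientGroup.mk' Φ t)
    (by rw [hV]; exact Subgroup.mem_map_of_mem _ ht) htne
  have h1 := Cfsg.Agent.Lib.Helper11.QuadFree.involves_of_surjective_hom (QuotientGroup.mk' Φ)
    (QuotientGroup.mk'_surjective Φ) hcore
  exact Cfsg.Agent.Lib.Helper11.QuadFree.involves_of_subgroup _ h1

end Cfsg.Agent.Lib.Helper15.S3S4
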