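import Mathlib
import Cfsg.Agent.Lib.Helper15.S3S4d
import Cfsg.Agent.Lib.Helper13.Coprime

/-!
# Extracting an inverted `3`-element from a surjection onto `S₃` (helper15)
-/

set_option autoImplicit false

namespace Cfsg.Agent.Lib.Helper15.S3S4

open Subgroup

variable {G : Type*} [Group G]

/-- `bridge` for a `3`-element `k` (replace `k` by a suitable power). -/
theorem bridge' [Finite G] (T : Subgroup G) (hT : IsPGroup 2 T)
    (k b : G) (hkT : k ∈ normalizer (T : Set G)) (hbT : b ∈ normalizer (T : Set G))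
    (hbk : b * k * b⁻¹ = k⁻¹) (j : ℕ) (hb : b ^ (2 ^ j) = 1)
    (i : ℕ) (hk : k ^ (3 ^ i) = 1) (hkC : k ∉ centralizer (T : Set G)) :
    Cfsg.Involves (Equiv.Perm (Fin 4)) G := by
  classical
  have hex : ∃ m : ℕ, k ^ (3 ^ m) ∈ centralizer (T : Set G) := ⟨i, by rw [hk]; exact one_mem _⟩
  have hm0 : Nat.find hex ≠ 0 := by
    intro h0
    have := Nat.find_spec hex
    rw [h0, pow_zero, pow_one] at this
    exact hkC this
  obtain ⟨m1, hm1⟩ := Nat.exists_eq_succ_of_ne_zero hm0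
  have hnot : k ^ (3 ^ m1) ∉ centralizer (T : Set G) :=
    Nat.find_min hex (by rw [hm1]; exact Nat.lt_succ_self m1)
  have h3 : (k ^ (3 ^ m1)) ^ 3 ∈ centralizer (T : Set G) := by
    have := Nat.find_spec hex
    rw [hm1, Nat.succ_eq_add_one, pow_succ, pow_mul] at this
    exact this
  have hbk' : b * k ^ (3 ^ m1) * b⁻¹ = (k ^ (3 ^ m1))⁻¹ := by
    rw [← conj_pow, hbk, inv_pow]
  exact bridge T hT (k ^ (3 ^ m1)) b (pow_mem hkT _) hbT hbk' j hb h3 hnot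

theorem s3_conj : ∀ σ τ : Equiv.Perm (Fin 3), Equiv.Perm.sign σ = 1 → Equiv.Perm.sign τ = -1 →
    τ * σ * τ⁻¹ = σ⁻¹ := by decide

theorem s3_sq : ∀ τ : Equiv.Perm (Fin 3), Equiv.Perm.sign τ = -1 → τ * τ = 1 := by decide

theorem s3_ne : ∀ σ : Equiv.Perm (Fin 3), Equiv.Perm.sign σ = 1 → σ ≠ 1 → σ⁻¹ * σ⁻¹ ≠ 1 := by
  decide

theorem s3_three : ∀ σ : Equiv.Perm (Fin 3), Equiv.Perm.sign σ = 1 → σ ^ 3 = 1 := by decide


theorem s3_cycle : ∃ c : Equiv.Perm (Fin 3), Equiv.Perm.sign c = 1 ∧ c ≠ 1 := by decide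

/-- from a surjection onto `S₃`: a `3`-element `k` outside the kernel inverted by a `2`-element -/
theorem exists_inverting {X : Type*} [Group X] [Finite X] (ψ : X →* Equiv.Perm (Fin 3))
    (hψ : Function.Surjective ψ) :
    ∃ k b : X, b * k * b⁻¹ = k⁻¹ ∧ (∃ j : ℕ, b ^ (2 ^ j) = 1) ∧ (∃ i : ℕ, k ^ (3 ^ i) = 1) ∧
      ψ k ≠ 1 := by
  classical
  haveI : Fact (Nat.Prime 3) := ⟨Nat.prime_three⟩
  haveI : Fact (Nat.Prime 2) := ⟨Nat.prime_two⟩
  obtain ⟨P⟩ : Nonempty (Sylow 3 X) := inferInstance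
  obtain ⟨sgn, hsgn⟩ : ∃ sgn : X →* ℤˣ, sgn = Equiv.Perm.sign.comp ψ := ⟨_, rfl⟩
  have hsgn' : ∀ x, sgn x = Equiv.Perm.sign (ψ x) := fun x => by rw [hsgn]; rfl
  have h3sign : ∀ x : X, ∀ n : ℕ, x ^ (3 ^ n) = 1 → sgn x = 1 := by
    intro x n hx
    rcases Int.units_eq_one_or (sgn x) with h | h
    · exact h
    · exfalso
      have h1 : (sgn x) ^ (3 ^ n) = 1 := by rw [← map_pow, hx, map_one]
      rw [h, Odd.neg_one_pow (Odd.pow (by decide : Odd 3))] at h1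
      exact absurd h1 (by decide)
  have hP3 : ∀ x ∈ (P : Subgroup X), ∃ n : ℕ, x ^ (3 ^ n) = 1 := by
    intro x hx
    obtain ⟨n, hn⟩ := P.isPGroup' ⟨x, hx⟩
    exact ⟨n, by simpa using congrArg Subtype.val hn⟩
  have hPM : (P : Subgroup X) ≤ sgn.ker := by
    intro x hx
    obtain ⟨n, hn⟩ := hP3 x hx
    exact MonoidHom.mem_ker.mpr (h3sign x n hn)
  have hfr : normalizer ((P : Subgroup X) : Set X) ⊔ sgn.ker = ⊤ :=
    Sylow.normalizer_sup_eq_top' P hPM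
  obtain ⟨x0, hx0⟩ := hψ (Equiv.swap 0 1)
  have hs0 : sgn x0 = -1 := by
    rw [hsgn' x0, hx0]; exact Equiv.Perm.sign_swap (by decide)
  have hx0mem : x0 ∈ normalizer ((P : Subgroup X) : Set X) ⊔ sgn.ker := by
    rw [hfr]; exact mem_top _
  obtain ⟨n0, hn0, m0, hm0, hnm⟩ := mem_sup_of_normal_right.mp hx0mem
  have hsn0 : sgn n0 = -1 := by
    have : sgn x0 = sgn n0 * sgn m0 := by rw [← hnm, map_mul]
    rw [MonoidHom.mem_ker.mp hm0, mul_one] at this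
    rw [← this]; exact hs0
  obtain ⟨e, m, hmodd, hom⟩ := Nat.exists_eq_two_pow_mul_odd (orderOf_pos n0).ne'
  obtain ⟨a, ha⟩ : ∃ a : X, a = n0 ^ m := ⟨_, rfl⟩
  have ha2 : a ^ (2 ^ e) = 1 := by
    rw [ha, ← pow_mul, mul_comm, ← hom]; exact pow_orderOf_eq_one n0
  have hasgn : sgn a = -1 := by
    rw [ha, map_pow, hsn0, hmodd.neg_one_pow]
  have haN : a ∈ normalizer ((P : Subgroup X) : Set X) := by rw [ha]; exact pow_mem hn0 m
  have hτ : Equiv.Perm.sign (ψ a) = -1 := by rw [← hsgn' a]; exact hasgn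
  have hτ2 : ψ (a * a) = 1 := by rw [map_mul]; exact s3_sq _ hτ
  -- an element of P outside the kernel
  obtain ⟨x, hxP, hxψ⟩ : ∃ x ∈ (P : Subgroup X), ψ x ≠ 1 := by
    obtain ⟨c, hc1, hc2⟩ := s3_cycle
    obtain ⟨y, hy⟩ := hψ c
    obtain ⟨e', m', hm', hoy⟩ := Nat.exists_eq_pow_mul_and_not_dvd (orderOf_pos y).ne' 3
      (by norm_num)
    obtain ⟨y', hy'⟩ : ∃ y' : X, y' = y ^ m' := ⟨_, rfl⟩
    have hy'3 : y' ^ (3 ^ e') = 1 := by
      rw [hy', ← pow_mul, mul_comm, ← hoy]; exact pow_orderOf_eq_one y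
    have hy'ψ : ψ y' ≠ 1 := by
      rw [hy', map_pow, hy]
      intro h
      have ho : orderOf c = 3 := orderOf_eq_prime (s3_three c hc1) hc2
      have := orderOf_dvd_of_pow_eq_one h
      rw [ho] at this
      exact hm' this
    have hz3 : IsPGroup 3 (zpowers y') := by
      rintro ⟨z, hz⟩
      obtain ⟨i, rfl⟩ := mem_zpowers_iff.mp hz
      refine ⟨e', Subtype.ext ?_⟩
      rw [Subgroup.coe_pow, Subgroup.coe_one]
      show (y' ^ i) ^ (3 ^ e') = 1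
      rw [← zpow_natCast, ← zpow_mul, mul_comm, zpow_mul, zpow_natCast, hy'3, one_zpow]
    obtain ⟨Q, hQ⟩ := hz3.exists_le_sylow
    obtain ⟨g, hg⟩ := MulAction.exists_smul_eq X P Q
    have hy'Q : y' ∈ (Q : Subgroup X) := hQ (mem_zpowers y')
    rw [← hg, Sylow.coe_subgroup_smul, mem_pointwise_smul_iff_inv_smul_mem] at hy'Q
    have hmem : g⁻¹ * y' * g ∈ (P : Subgroup X) := by
      have : (MulAut.conj g)⁻¹ • y' = g⁻¹ * y' * g := by
        rw [MulAut.smul_def, MulAut.conj_inv_apply]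
      rw [this] at hy'Q
      exact hy'Q
    refine ⟨g⁻¹ * y' * g, hmem, ?_⟩
    intro h
    apply hy'ψ
    rw [map_mul, map_mul, map_inv] at h
    calc ψ y' = ψ g * ((ψ g)⁻¹ * ψ y' * ψ g) * (ψ g)⁻¹ := by group
      _ = 1 := by rw [h]; group
  -- fixed points of a² in the coset
  obtain ⟨A, hA⟩ : ∃ A : Subgroup X, A = zpowers (a * a) := ⟨_, rfl⟩
  obtain ⟨N, hN⟩ : ∃ N : Subgroup X, N = (P : Subgroup X) ⊓ ψ.ker := ⟨_, rfl⟩
  have haaN : a * a ∈ normalizer ((P : Subgroup X) : Set X) := mul_mem haN haN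
  have hAK : A ≤ normalizer ((P : Subgroup X) : Set X) := by
    rw [hA, zpowers_le]; exact haaN
  have hAψ : ∀ z ∈ A, ψ z = 1 := by
    intro z hz
    rw [hA] at hz
    obtain ⟨i, rfl⟩ := mem_zpowers_iff.mp hz
    rw [map_zpow, hτ2, one_zpow]
  have hcop : (Nat.card A).Coprime (Nat.card (P : Subgroup X)) := by
    obtain ⟨n, hn⟩ := IsPGroup.iff_card.mp P.isPGroup'
    have h1 : orderOf (a * a) ∣ 2 ^ e := by
      apply orderOf_dvd_of_pow_eq_one
      rw [← pow_two, ← pow_mul, mul_comm, pow_mul, ha2, one_pow]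
    obtain ⟨f, -, hf⟩ := (Nat.dvd_prime_pow Nat.prime_two).mp h1
    rw [hA, Nat.card_zpowers, hf, hn]
    exact Nat.Coprime.pow _ _ (by norm_num)
  have hsolv : Group.IsSolvable A ∨ Group.IsSolvable (P : Subgroup X) := by
    right
    haveI := P.isPGroup'.isNilpotent
    infer_instance
  have hNK : N ≤ (P : Subgroup X) := by rw [hN]; exact inf_le_left
  have hNnormal : (P : Subgroup X) ≤ normalizer (N : Set X) := by
    intro q hq
    apply mem_normalizer_fintype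
    intro n hn
    rw [SetLike.mem_coe, hN] at hn ⊢
    obtain ⟨h1, h2⟩ := mem_inf.mp hn
    refine mem_inf.mpr ⟨mul_mem (mul_mem hq h1) (inv_mem hq), ?_⟩
    rw [MonoidHom.mem_ker] at h2 ⊢
    rw [map_mul, map_mul, h2, mul_one, map_inv, mul_inv_cancel]
  have hNA : A ≤ normalizer (N : Set X) := by
    intro z hz
    apply mem_normalizer_fintype
    intro n hn
    rw [SetLike.mem_coe, hN] at hn ⊢
    obtain ⟨h1, h2⟩ := mem_inf.mp hn
    refine mem_inf.mpr ⟨(mem_normalizer_iff.mp (hAK hz) n).mp h1, ?_⟩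
    rw [MonoidHom.mem_ker] at h2 ⊢
    rw [map_mul, map_mul, h2, mul_one, map_inv, mul_inv_cancel]
  have hfix : ∀ z ∈ A, z * x * z⁻¹ * x⁻¹ ∈ N := by
    intro z hz
    rw [hN]
    refine mem_inf.mpr ⟨mul_mem ((mem_normalizer_iff.mp (hAK hz) x).mp hxP) (inv_mem hxP), ?_⟩
    rw [MonoidHom.mem_ker, map_mul, map_mul, map_mul, map_inv, map_inv, hAψ z hz]
    group
  obtain ⟨c', hc', hxc'⟩ := Cfsg.Agent.Lib.Helper13.coprime_fixed_point_in_coset A
    (P : Subgroup X) hAK hcop hsolv N hNK hNnormal hNA x hxP hfix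
  obtain ⟨hc'P, hc'A⟩ := mem_inf.mp hc'
  have hc'ψ : ψ c' = ψ x := by
    rw [hN] at hxc'
    have := MonoidHom.mem_ker.mp (mem_inf.mp hxc').2
    rw [map_mul, map_inv] at this
    exact (inv_mul_eq_one.mp this).symm
  have hc2 : a * a * c' = c' * (a * a) := by
    have := (mem_centralizer_iff.mp hc'A) (a * a) (by rw [hA]; exact mem_zpowers _)
    exact this
  refine ⟨c'⁻¹ * (a * c' * a⁻¹), a, ?_, ⟨e, ha2⟩, ?_, ?_⟩
  · calc a * (c'⁻¹ * (a * c' * a⁻¹)) * a⁻¹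
        = (a * c' * a⁻¹)⁻¹ * ((a * a * c') * (a * a)⁻¹) := by group
      _ = (a * c' * a⁻¹)⁻¹ * (c' * (a * a) * (a * a)⁻¹) := by rw [hc2]
      _ = (c'⁻¹ * (a * c' * a⁻¹))⁻¹ := by group
  · exact hP3 _ (mul_mem (inv_mem hc'P) ((mem_normalizer_iff.mp haN c').mp hc'P))
  · rw [map_mul, map_mul, map_mul, map_inv, map_inv]
    have hσ : Equiv.Perm.sign (ψ c') = 1 := by
      rw [← hsgn' c']; exact MonoidHom.mem_ker.mp (hPM hc'P)
    rw [s3_conj (ψ c') (ψ a) hσ hτ]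
    apply s3_ne _ hσ
    rw [hc'ψ]; exact hxψ

end Cfsg.Agent.Lib.Helper15.S3S4
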