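import Mathlib
import Cfsg.Agent.Lib.Helper15.S3S4e

/-!
# `S₃` involved in `N(T)/C(T)` for a `2`-subgroup `T` forces `S₄` involved (helper15)
-/

set_option autoImplicit false

namespace Cfsg.Agent.Lib.Helper15.S3S4

open Subgroup

variable {G : Type*} [Group G]

/-- If `S₃` is involved in `N_G(T)/C_G(T)` for a `2`-subgroup `T`, then `S₄` is involved in `G`. -/
theorem of_section [Finite G] (T : Subgroup G) (hT : IsPGroup 2 T)
    (h : Cfsg.Involves (Equiv.Perm (Fin 3))
      (↥(normalizer (T : Set G)) ⧸
        (centralizer (T : Set G)).subgroupOf (normalizer (T : Set G)))) :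
    Cfsg.Involves (Equiv.Perm (Fin 4)) G := by
  classical
  obtain ⟨K', R', hn, ⟨e⟩⟩ := h
  have _ := hn
  let C' : Subgroup (normalizer (T : Set G)) :=
    (centralizer (T : Set G)).subgroupOf (normalizer (T : Set G))
  let π : ↥(normalizer (T : Set G)) →* (↥(normalizer (T : Set G)) ⧸ C') := QuotientGroup.mk' C'
  let X : Subgroup (normalizer (T : Set G)) := K'.comap π
  let φ : X →* K' := π.subgroupComap K'
  have hφ : Function.Surjective φ :=
    MonoidHom.subgroupComap_surjective_of_surjective π K' (QuotientGroup.mk'_surjective C')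
  let ψ0 : K' →* Equiv.Perm (Fin 3) :=
    e.toMonoidHom.comp (QuotientGroup.mk' (R'.subgroupOf K'))
  have hψ0 : Function.Surjective ψ0 :=
    e.surjective.comp (QuotientGroup.mk'_surjective _)
  let ψ : X →* Equiv.Perm (Fin 3) := ψ0.comp φ
  have hψ : Function.Surjective ψ := hψ0.comp hφ
  obtain ⟨k, b, hbk, ⟨j, hb⟩, ⟨i, hk⟩, hne⟩ := exists_inverting ψ hψ
  refine bridge' T hT ((k : normalizer (T : Set G)) : G) ((b : normalizer (T : Set G)) : G)
    (k : normalizer (T : Set G)).2 (b : normalizer (T : Set G)).2 ?_ j ?_ i ?_ ?_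
  · have := congrArg (fun x : X => ((x : normalizer (T : Set G)) : G)) hbk
    simpa using this
  · have := congrArg (fun x : X => ((x : normalizer (T : Set G)) : G)) hb
    simpa using this
  · have := congrArg (fun x : X => ((x : normalizer (T : Set G)) : G)) hk
    simpa using this
  · intro hC
    apply hne
    have h1 : (k : normalizer (T : Set G)) ∈ C' := by
      rw [Subgroup.mem_subgroupOf]; exact hC
    have h2 : π (k : normalizer (T : Set G)) = 1 := by
      rw [QuotientGroup.mk'_apply, QuotientGroup.eq_one_iff]; exact h1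
    have h3 : φ k = 1 := by
      apply Subtype.ext
      exact h2
    change ψ0 (φ k) = 1
    rw [h3, map_one]

end Cfsg.Agent.Lib.Helper15.S3S4
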