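import Mathlib

/-!
# An explicit surjection `S₄ → S₃` with kernel the four-group (helper15)
-/

set_option autoImplicit false

namespace Cfsg.Agent.Lib.Helper15.S3S4

open Equiv

/-- the translations of the four-group, indexed by the image of `0` -/
def vv : Fin 4 → Perm (Fin 4)
  | 0 => 1
  | 1 => swap 0 1 * swap 2 3
  | 2 => swap 0 2 * swap 1 3
  | 3 => swap 0 3 * swap 1 2

/-- projection of `S₄` onto the stabilizer of `0` along the four-group -/
def proj0 (σ : Perm (Fin 4)) : Perm (Fin 4) := σ * vv (σ⁻¹ 0)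

/-- the underlying function of `ρ σ` -/
def rhoFun (σ : Perm (Fin 4)) (i : Fin 3) : Fin 3 := Fin.predAbove 0 (proj0 σ i.succ)

set_option maxRecDepth 100000 in
theorem rhoFun_inv : ∀ σ : Perm (Fin 4), ∀ i : Fin 3, rhoFun σ⁻¹ (rhoFun σ i) = i := by decide

/-- `ρ σ` as a permutation of `Fin 3` -/
def rhoPerm (σ : Perm (Fin 4)) : Perm (Fin 3) where
  toFun := rhoFun σ
  invFun := rhoFun σ⁻¹
  left_inv := rhoFun_inv σ
  right_inv := fun i => by
    have := rhoFun_inv σ⁻¹ i
    rwa [inv_inv] at this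

set_option maxRecDepth 100000 in
theorem rhoPerm_mul : ∀ σ τ : Perm (Fin 4), rhoPerm (σ * τ) = rhoPerm σ * rhoPerm τ := by decide

set_option maxRecDepth 100000 in
theorem rhoPerm_surj : ∀ y : Perm (Fin 3), ∃ σ : Perm (Fin 4), rhoPerm σ = y := by decide

set_option maxRecDepth 100000 in
theorem rhoPerm_cent : ∀ σ : Perm (Fin 4),
    (∀ τ : Perm (Fin 4), rhoPerm τ = 1 → σ * τ = τ * σ) → rhoPerm σ = 1 := by decide

set_option maxRecDepth 100000 in
theorem rhoPerm_ker_sq : ∀ τ : Perm (Fin 4), rhoPerm τ = 1 → τ * τ = 1 := by decide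

/-- the surjection `S₄ → S₃` with kernel the four-group -/
def rho : Perm (Fin 4) →* Perm (Fin 3) := MonoidHom.mk' rhoPerm rhoPerm_mul

theorem rho_apply (σ : Perm (Fin 4)) : rho σ = rhoPerm σ := rfl

theorem rho_surjective : Function.Surjective rho := rhoPerm_surj

end Cfsg.Agent.Lib.Helper15.S3S4
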