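import Mathlib
import Cfsg.Agent.Lib.Helper15.S3S4g
import Cfsg.Agent.Lib.Helper15.QdSection
import Cfsg.Prelude.Def_LocalEven

/-!
# `S₄` involved forces `S₃` involved in some `N(T)/C(T)`, `T` a `2`-subgroup (helper15)
-/

set_option autoImplicit false

namespace Cfsg.Agent.Lib.Helper15.S3S4

open Subgroup

/-- Frattini argument: for a surjection `π` of a finite group onto `S₄` there is a `2`-subgroup `T`
whose normalizer covers `S₃ = S₄/V₄` and whose centralizer maps into `V₄`. -/
theorem exists_two_subgroup {H : Type*} [Group H] [Finite H] (π : H →* Equiv.Perm (Fin 4))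
    (hπ : Function.Surjective π) :
    ∃ T : Subgroup H, IsPGroup 2 T ∧
      (∀ y : Equiv.Perm (Fin 3), ∃ n ∈ normalizer (T : Set H), rho (π n) = y) ∧
      (∀ c ∈ centralizer (T : Set H), rho (π c) = 1) := by
  classical
  haveI : Fact (Nat.Prime 2) := ⟨Nat.prime_two⟩
  let ρπ : H →* Equiv.Perm (Fin 3) := rho.comp π
  let V : Subgroup H := ρπ.ker
  have hVmem : ∀ x : H, x ∈ V ↔ rho (π x) = 1 := fun x => MonoidHom.mem_ker
  obtain ⟨P⟩ : Nonempty (Sylow 2 V) := inferInstance
  refine ⟨(P : Subgroup V).map V.subtype, P.isPGroup'.map _, ?_, ?_⟩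
  · intro y
    obtain ⟨x, hx⟩ := (rho_surjective.comp hπ) y
    have hF := Sylow.normalizer_sup_eq_top P
    have hx' : x ∈ normalizer (((P : Subgroup V).map V.subtype : Subgroup H) : Set H) ⊔ V := by
      rw [hF]; trivial
    rw [← SetLike.mem_coe, Subgroup.mul_normal] at hx'
    obtain ⟨n, hn, v, hv, rfl⟩ := Set.mem_mul.mp hx'
    refine ⟨n, hn, ?_⟩
    have hv1 : rho (π v) = 1 := (hVmem v).mp hv
    rw [← hx]
    change rho (π n) = rho (π (n * v))
    rw [map_mul, map_mul, hv1, mul_one]
  · intro c hc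
    apply rhoPerm_cent
    intro τ hτ
    -- `τ = π t` for some `t ∈ T`
    let πV : V →* Equiv.Perm (Fin 4) := π.comp V.subtype
    have hsurj : Function.Surjective πV.rangeRestrict := πV.rangeRestrict_surjective
    have hp2 : IsPGroup 2 πV.range := by
      rintro ⟨_, ⟨v, rfl⟩⟩
      refine ⟨1, ?_⟩
      apply Subtype.ext
      have hv1 : rho (π (v : H)) = 1 := (hVmem v).mp v.2
      have := rhoPerm_ker_sq (π (v : H)) hv1
      rw [pow_one, pow_two]
      exact this
    have htop : (⊤ : Subgroup πV.range) = (P.mapSurjective hsurj : Subgroup πV.range) :=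
      (P.mapSurjective hsurj).is_maximal' (hp2.to_subgroup _) le_top
    obtain ⟨y, rfl⟩ := hπ τ
    have hyV : y ∈ V := (hVmem y).mpr hτ
    have hmem : (⟨π y, ⟨⟨y, hyV⟩, rfl⟩⟩ : πV.range) ∈
        (P.mapSurjective hsurj : Subgroup πV.range) := by
      rw [← htop]; trivial
    rw [Sylow.coe_mapSurjective] at hmem
    obtain ⟨p, hpP, hpe⟩ := Subgroup.mem_map.mp hmem
    have hpe' : π (p : H) = π y := congrArg Subtype.val hpe
    have hpT : (p : H) ∈ (P : Subgroup V).map V.subtype := Subgroup.mem_map_of_mem _ hpP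
    have hcomm := Subgroup.mem_centralizer_iff.mp hc (p : H) hpT
    rw [← hpe', ← map_mul, ← map_mul, hcomm]

variable {G : Type*} [Group G]

/-- A surjection from a subgroup of `N(T)` killing `C(T)` gives a section of `N(T)/C(T)`. -/
theorem involves_NC_of_hom {Y : Type*} [Group Y] (T Γ : Subgroup G)
    (hΓ : Γ ≤ normalizer (T : Set G)) (φ : Γ →* Y) (hφ : Function.Surjective φ)
    (hker : ∀ x : Γ, (x : G) ∈ centralizer (T : Set G) → φ x = 1) :
    Cfsg.Involves Y (↥(normalizer (T : Set G)) ⧸
      (centralizer (T : Set G)).subgroupOf (normalizer (T : Set G))) := by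
  let f : Γ →* (↥(normalizer (T : Set G)) ⧸
      (centralizer (T : Set G)).subgroupOf (normalizer (T : Set G))) :=
    (QuotientGroup.mk' _).comp (Subgroup.inclusion hΓ)
  have hfk : f.ker ≤ φ.ker := by
    intro x hx
    rw [MonoidHom.mem_ker] at hx ⊢
    apply hker
    have h1 : (Subgroup.inclusion hΓ x) ∈
        (centralizer (T : Set G)).subgroupOf (normalizer (T : Set G)) := by
      rw [← QuotientGroup.eq_one_iff]; exact hx
    rw [Subgroup.mem_subgroupOf] at h1
    exact h1
  let Ψ : f.range →* Y :=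
    (QuotientGroup.lift f.ker φ hfk).comp (QuotientGroup.quotientKerEquivRange f).symm.toMonoidHom
  have hΨ : Function.Surjective Ψ := by
    have h1 : Function.Surjective (QuotientGroup.lift f.ker φ hfk) := by
      intro y
      obtain ⟨x, rfl⟩ := hφ y
      exact ⟨QuotientGroup.mk x, rfl⟩
    exact h1.comp (QuotientGroup.quotientKerEquivRange f).symm.surjective
  exact Cfsg.Agent.Lib.Helper15.QdSection.involves_of_surjective f.range Ψ hΨ

/-- If `S₄` is involved in the finite group `G` then `S₃` is involved in `N(T)/C(T)` for a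
`2`-subgroup `T`. -/
theorem to_section [Finite G] (h : Cfsg.Involves (Equiv.Perm (Fin 4)) G) :
    ∃ T : Subgroup G, IsPGroup 2 T ∧ Cfsg.Involves (Equiv.Perm (Fin 3))
      (↥(normalizer (T : Set G)) ⧸
        (centralizer (T : Set G)).subgroupOf (normalizer (T : Set G))) := by
  classical
  obtain ⟨K, R, hn, ⟨e⟩⟩ := h
  have _ := hn
  let π : K →* Equiv.Perm (Fin 4) := e.toMonoidHom.comp (QuotientGroup.mk' (R.subgroupOf K))
  have hπ : Function.Surjective π := e.surjective.comp (QuotientGroup.mk'_surjective _)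
  obtain ⟨TK, hTK, hN, hC⟩ := exists_two_subgroup π hπ
  refine ⟨TK.map K.subtype, hTK.map _, ?_⟩
  -- the subgroup `Γ = N_K(T_K)` of `G`
  have hΓ : (normalizer (TK : Set K)).map K.subtype ≤
      normalizer ((TK.map K.subtype : Subgroup G) : Set G) := by
    rintro _ ⟨n, hn', rfl⟩
    rw [Subgroup.mem_normalizer_iff]
    intro g
    rw [SetLike.mem_coe, Subgroup.mem_normalizer_iff] at hn'
    constructor
    · rintro ⟨t, ht, rfl⟩
      exact ⟨n * t * n⁻¹, (hn' t).mp ht, by simp⟩
    · rintro ⟨t, ht, hte⟩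
      have hgK : g ∈ K := by
        have h1 : (K.subtype n)⁻¹ * (K.subtype t) * (K.subtype n) ∈ K :=
          K.mul_mem (K.mul_mem (K.inv_mem n.2) t.2) n.2
        rw [hte] at h1
        simpa [mul_assoc] using h1
      refine ⟨⟨g, hgK⟩, ?_, rfl⟩
      rw [SetLike.mem_coe, hn' ⟨g, hgK⟩]
      have : n * ⟨g, hgK⟩ * n⁻¹ = t := by
        apply Subtype.ext
        simpa using hte.symm
      rw [this]; exact ht
  let ι : (normalizer (TK : Set K)).map K.subtype ≃* normalizer (TK : Set K) :=
    ((normalizer (TK : Set K)).equivMapOfInjective K.subtype K.subtype_injective).symm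
  have hι : ∀ x : (normalizer (TK : Set K)).map K.subtype, ((ι x : K) : G) = (x : G) := by
    intro x
    have := (normalizer (TK : Set K)).coe_equivMapOfInjective_apply K.subtype
      K.subtype_injective (ι x)
    rw [show ((normalizer (TK : Set K)).equivMapOfInjective K.subtype K.subtype_injective)
      (ι x) = x from MulEquiv.apply_symm_apply _ x] at this
    exact this.symm
  let φ : (normalizer (TK : Set K)).map K.subtype →* Equiv.Perm (Fin 3) :=
    (rho.comp π).comp ((normalizer (TK : Set K)).subtype.comp ι.toMonoidHom)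
  refine involves_NC_of_hom (TK.map K.subtype) _ hΓ φ ?_ ?_
  · intro y
    obtain ⟨n, hn', hny⟩ := hN y
    refine ⟨ι.symm ⟨n, hn'⟩, ?_⟩
    change rho (π ((ι (ι.symm ⟨n, hn'⟩) : normalizer (TK : Set K)) : K)) = y
    rw [MulEquiv.apply_symm_apply]
    exact hny
  · intro x hx
    change rho (π ((ι x : normalizer (TK : Set K)) : K)) = 1
    apply hC
    rw [Subgroup.mem_centralizer_iff]
    intro t ht
    apply Subtype.ext
    have h1 := Subgroup.mem_centralizer_iff.mp hx (t : G) (Subgroup.mem_map_of_mem _ ht)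
    rw [Subgroup.coe_mul, Subgroup.coe_mul, hι x]
    exact h1

end Cfsg.Agent.Lib.Helper15.S3S4
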