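import Mathlib
import Cfsg.Prelude.Def_LocalEven
import Cfsg.Agent.Lib.Helper1.ThompsonA3
import Cfsg.Agent.Lib.Helper11.QuadFree

/-!
# A section `S₄` from an element of order `3` inverted by an involution (helper15)

`V ⊴ H` an elementary abelian `2`-group, `k` of order `3` inverted by the involution `a`, and
`|V : C_V(k)| = 4`: then `S₄` is involved in `H`.
-/

set_option autoImplicit false

namespace Cfsg.Agent.Lib.Helper15.S4F

open Subgroup
open scoped commutatorElement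

variable {H : Type*} [Group H]

theorem swap_zpow {k a : H} (hai : a⁻¹ = a) (hak : a * k * a⁻¹ = k⁻¹) (i : ℤ) :
    k ^ i * a = a * k ^ (-i) := by
  have h1 : a * k ^ (-i) * a⁻¹ = k ^ i := by
    rw [← conj_zpow, hak, inv_zpow', neg_neg]
  calc k ^ i * a = a * k ^ (-i) * a⁻¹ * a := by rw [h1]
    _ = a * k ^ (-i) := by group

/-- the dihedral set `{kⁱ, a kⁱ}` as a subgroup, for `a² = 1`, `a k a⁻¹ = k⁻¹` -/
def dih (k a : H) (hai : a⁻¹ = a) (hak : a * k * a⁻¹ = k⁻¹) : Subgroup H where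
  carrier := {g | ∃ i : ℤ, g = k ^ i ∨ g = a * k ^ i}
  one_mem' := ⟨0, Or.inl (by simp)⟩
  mul_mem' := by
    have haa : a * a = 1 := by
      calc a * a = a⁻¹ * a := by rw [hai]
        _ = 1 := inv_mul_cancel a
    rintro x y ⟨i, hi | hi⟩ ⟨j, hj | hj⟩
    · exact ⟨i + j, Or.inl (by rw [hi, hj, zpow_add])⟩
    · refine ⟨-i + j, Or.inr ?_⟩
      rw [hi, hj, ← mul_assoc, swap_zpow hai hak, mul_assoc, ← zpow_add]
    · exact ⟨i + j, Or.inr (by rw [hi, hj, mul_assoc, zpow_add])⟩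
    · refine ⟨-i + j, Or.inl ?_⟩
      rw [hi, hj]
      calc a * k ^ i * (a * k ^ j) = a * (k ^ i * a) * k ^ j := by group
        _ = a * (a * k ^ (-i)) * k ^ j := by rw [swap_zpow hai hak]
        _ = (a * a) * (k ^ (-i) * k ^ j) := by group
        _ = k ^ (-i + j) := by rw [haa, one_mul, zpow_add]
  inv_mem' := by
    rintro x ⟨i, hi | hi⟩
    · exact ⟨-i, Or.inl (by rw [hi, zpow_neg])⟩
    · refine ⟨i, Or.inr ?_⟩
      rw [hi, mul_inv_rev, hai, ← zpow_neg, swap_zpow hai hak, neg_neg]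

theorem mem_dih {k a : H} (hai : a⁻¹ = a) (hak : a * k * a⁻¹ = k⁻¹) {g : H} :
    g ∈ dih k a hai hak ↔ ∃ i : ℤ, g = k ^ i ∨ g = a * k ^ i := Iff.rfl

theorem k_mem_dih {k a : H} (hai : a⁻¹ = a) (hak : a * k * a⁻¹ = k⁻¹) : k ∈ dih k a hai hak :=
  ⟨1, Or.inl (by simp)⟩

theorem a_mem_dih {k a : H} (hai : a⁻¹ = a) (hak : a * k * a⁻¹ = k⁻¹) : a ∈ dih k a hai hak :=
  ⟨0, Or.inr (by simp)⟩

theorem card_dih_le [Finite H] {k a : H} (hai : a⁻¹ = a) (hak : a * k * a⁻¹ = k⁻¹)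
    (hk : k ^ 3 = 1) : Nat.card (dih k a hai hak) ≤ 6 := by
  classical
  let f : Fin 3 × Fin 2 → H := fun x => if x.2 = 0 then k ^ (x.1 : ℕ) else a * k ^ (x.1 : ℕ)
  have hsub : ((dih k a hai hak : Subgroup H) : Set H) ⊆ Set.range f := by
    rintro g ⟨i, hi⟩
    have hmod : k ^ i = k ^ ((i % 3).toNat) := by
      have h3 : (0 : ℤ) ≤ i % 3 := Int.emod_nonneg i (by norm_num)
      have h4 : k ^ i = k ^ (i % 3) := by
        conv_lhs => rw [← Int.emod_add_mul_ediv i 3]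
        rw [zpow_add, zpow_mul]
        have : k ^ (3 : ℤ) = 1 := by exact_mod_cast hk
        rw [this, one_zpow, mul_one]
      rw [h4]
      conv_lhs => rw [← Int.toNat_of_nonneg h3]
      exact zpow_natCast k _
    have hlt : (i % 3).toNat < 3 := by
      have h3 : (0 : ℤ) ≤ i % 3 := Int.emod_nonneg i (by norm_num)
      have h5 : i % 3 < 3 := Int.emod_lt_of_pos i (by norm_num)
      omega
    rcases hi with hi | hi
    · refine ⟨(⟨(i % 3).toNat, hlt⟩, 0), ?_⟩
      simp only [f]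
      rw [hi, hmod]
      simp
    · refine ⟨(⟨(i % 3).toNat, hlt⟩, 1), ?_⟩
      simp only [f]
      rw [hi, hmod]
      simp
  have h1 : Nat.card (dih k a hai hak) = Set.ncard ((dih k a hai hak : Subgroup H) : Set H) := by
    rw [← Nat.card_coe_set_eq]; rfl
  rw [h1]
  calc Set.ncard ((dih k a hai hak : Subgroup H) : Set H) ≤ Set.ncard (Set.range f) :=
        Set.ncard_le_ncard hsub (Set.toFinite _)
    _ ≤ Nat.card (Fin 3 × Fin 2) := by
        rw [← Set.image_univ]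
        calc (f '' Set.univ).ncard ≤ (Set.univ : Set (Fin 3 × Fin 2)).ncard :=
              Set.ncard_image_le (Set.toFinite _)
          _ = Nat.card (Fin 3 × Fin 2) := Set.ncard_univ _
    _ = 6 := by simp

end Cfsg.Agent.Lib.Helper15.S4F
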