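import Mathlib
import Cfsg.Prelude.Def_LocalEven
import Cfsg.Agent.Lib.Helper1.ThompsonA7
import Cfsg.Agent.Lib.Helper15.S4F1
import Cfsg.Agent.Lib.Lead.GlaubermanZJ
import Cfsg.Agent.Lib.Lead.GlaubermanReplE

/-!
# The final configuration for `J_e` in an `S₄`-free group of `2`-class two (helper15)

`H = Q ⟨k, a⟩`, `Q = O_2(H) ≥ C_H(Q)`, `a` an involution of a maximal elementary abelian subgroup
`A` with `A ≤ Q ⟨a⟩`, `[Q, a] ≤ Z(Q)`, and `k` of odd prime order inverted by `a`: then `S₄` is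
involved in `H`.
-/

set_option autoImplicit false

namespace Cfsg.Agent.Lib.Helper15.S4F

open Subgroup
open scoped commutatorElement
open Cfsg.Agent.Lib.Helper13 (omegaZ mem_omegaZ omegaZ_normal omegaZ_comm le_centralizer_omegaZ
  mem_centralizer_of_centralizes_omega)
open Cfsg.Agent.Lib.Lead.GlaubermanRepl (card_sup_mul_card_inf comm_sup)
open Cfsg.Agent.Lib.Lead.GlaubermanReplE (maxEIn exp_sup)
open Cfsg.Agent.Lib.Lead.GlaubermanZJ (centMod centMod_normal)

variable {H : Type*} [Group H] [Finite H]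

/-- `k` does not centralize `Ω₁(Z(Q))` -/
theorem not_centralizes_omegaZ (Q : Subgroup H) [hQn : Q.Normal] (hQ2 : IsPGroup 2 Q)
    (hCQ : centralizer (Q : Set H) ≤ Q)
    (a k : H) (hai : a⁻¹ = a) (hak : a * k * a⁻¹ = k⁻¹)
    (r : ℕ) (hr : r.Prime) (hr2 : r ≠ 2) (hkr : orderOf k = r)
    (hcl : ∀ q ∈ Q, ∀ q' ∈ Q, ⁅⁅q, a⁆, q'⁆ = 1) :
    k ∉ centralizer ((omegaZ 2 Q : Subgroup H) : Set H) := by
  haveI : Fact (Nat.Prime 2) := ⟨Nat.prime_two⟩
  intro hkV
  have hcop : r.Coprime 2 := (Nat.coprime_primes hr Nat.prime_two).mpr hr2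
  have hodd : (orderOf k).Coprime 2 := by rw [hkr]; exact hcop
  have hZn : (Q ⊓ centralizer (Q : Set H)).Normal := inferInstance
  have hZc : IsMulCommutative ↥(Q ⊓ centralizer (Q : Set H)) := by
    refine ⟨⟨fun x y => ?_⟩⟩
    apply Subtype.ext
    exact ((Subgroup.mem_centralizer_iff.mp (Subgroup.mem_inf.mp y.2).2) x
      (Subgroup.mem_inf.mp x.2).1)
  have hZp : IsPGroup 2 ↥(Q ⊓ centralizer (Q : Set H)) := hQ2.to_le inf_le_left
  have hkZ : k ∈ centralizer ((Q ⊓ centralizer (Q : Set H) : Subgroup H) : Set H) := by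
    apply mem_centralizer_of_centralizes_omega _ hZp k _ hodd
    · intro z hz hz2
      exact (Subgroup.mem_centralizer_iff.mp hkV) z ((mem_omegaZ Q z).mpr ⟨hz, hz2⟩)
    · rw [Subgroup.normalizer_eq_top]; exact Subgroup.mem_top _
  -- `a` centralizes `Q` modulo `Z(Q)`
  have ha_cm : a ∈ centMod Q (Q ⊓ centralizer (Q : Set H)) := by
    intro b hb
    refine Subgroup.mem_inf.mpr ⟨?_, ?_⟩
    · rw [commutatorElement_def]
      exact mul_mem (hQn.conj_mem b hb a) (inv_mem hb)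
    · rw [Subgroup.mem_centralizer_iff]
      intro q' hq'
      have h1 := hcl b hb q' hq'
      rw [commutatorElement_eq_one_iff_mul_comm] at h1
      have h2 : ⁅a, b⁆ = ⁅b, a⁆⁻¹ := (commutatorElement_inv b a).symm
      rw [h2]
      have h3 : Commute ⁅b, a⁆ q' := h1
      exact (h3.inv_left).eq.symm
  have hk2 : k * k ∈ centMod Q (Q ⊓ centralizer (Q : Set H)) := by
    have h1 : k * a * k⁻¹ ∈ centMod Q (Q ⊓ centralizer (Q : Set H)) :=
      (centMod_normal Q _).conj_mem a ha_cm k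
    have h2 : k * k = k * a * k⁻¹ * a⁻¹ := by
      have : k * a * k⁻¹ * a⁻¹ = k * (a * k * a⁻¹)⁻¹ := by group
      rw [this, hak, inv_inv]
    rw [h2]
    exact mul_mem h1 (inv_mem ha_cm)
  have hk_cm : k ∈ centMod Q (Q ⊓ centralizer (Q : Set H)) := by
    have hrodd : Odd r := hr.odd_of_ne_two hr2
    obtain ⟨m, hm⟩ := hrodd
    have h1 : (k * k) ^ (m + 1) = k := by
      rw [← pow_two, ← pow_mul]
      have : 2 * (m + 1) = r + 1 := by omega
      rw [this, pow_succ, ← hkr, pow_orderOf_eq_one, one_mul]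
    rw [← h1]
    exact pow_mem hk2 _
  -- `k` centralizes `Q`
  have hkQ : k ∈ centralizer (Q : Set H) := by
    rw [Subgroup.mem_centralizer_iff]
    intro q hq
    have hz : ⁅k, q⁆ ∈ Q ⊓ centralizer (Q : Set H) := hk_cm q hq
    have hzk : Commute k ⁅k, q⁆ := by
      have := (Subgroup.mem_centralizer_iff.mp hkZ) _ hz
      exact this.symm
    have hstep : ∀ n : ℕ, k ^ n * q * (k ^ n)⁻¹ = ⁅k, q⁆ ^ n * q := by
      intro n
      induction n with
      | zero => simp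
      | succ n ih =>
        have h1 : k ^ (n + 1) * q * (k ^ (n + 1))⁻¹ = k * (k ^ n * q * (k ^ n)⁻¹) * k⁻¹ := by
          rw [pow_succ']; group
        rw [h1, ih]
        have h2 : k * (⁅k, q⁆ ^ n * q) * k⁻¹ = (k * ⁅k, q⁆ ^ n * k⁻¹) * (k * q * k⁻¹) := by group
        rw [h2]
        have h3 : k * ⁅k, q⁆ ^ n * k⁻¹ = ⁅k, q⁆ ^ n := by
          rw [(hzk.pow_right n).eq, mul_inv_cancel_right]
        have h4 : k * q * k⁻¹ = ⁅k, q⁆ * q := by
          rw [commutatorElement_def]; group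
        rw [h3, h4, ← mul_assoc, ← pow_succ]
    have h5 := hstep r
    rw [← hkr, pow_orderOf_eq_one, inv_one, one_mul, mul_one] at h5
    have h6 : ⁅k, q⁆ ^ orderOf k = 1 := by
      have : ⁅k, q⁆ ^ orderOf k * q = 1 * q := by rw [← h5, one_mul]
      exact mul_right_cancel this
    obtain ⟨e, he⟩ := hQ2 ⟨⁅k, q⁆, (Subgroup.mem_inf.mp hz).1⟩
    have he' : ⁅k, q⁆ ^ 2 ^ e = 1 := by
      have := congrArg Subtype.val he
      simpa using this
    have h7 : orderOf ⁅k, q⁆ ∣ r := by rw [← hkr]; exact orderOf_dvd_of_pow_eq_one h6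
    have h8 : orderOf ⁅k, q⁆ ∣ 2 ^ e := orderOf_dvd_of_pow_eq_one he'
    have h9 : orderOf ⁅k, q⁆ = 1 :=
      Nat.Coprime.eq_one_of_dvd (Nat.Coprime.coprime_dvd_left h7 (Nat.Coprime.pow_right e hcop)) h8
    have h10 : ⁅k, q⁆ = 1 := orderOf_eq_one_iff.mp h9
    exact (commutatorElement_eq_one_iff_mul_comm.mp h10).symm
  have hkQ' : k ∈ Q := hCQ hkQ
  obtain ⟨e, he⟩ := hQ2 ⟨k, hkQ'⟩
  have he' : k ^ 2 ^ e = 1 := by
    have := congrArg Subtype.val he
    simpa using this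
  have h1 : r ∣ 2 ^ e := by rw [← hkr]; exact orderOf_dvd_of_pow_eq_one he'
  have h2 : r ∣ 2 := hr.dvd_of_dvd_pow h1
  exact hr2 ((Nat.prime_dvd_prime_iff_eq hr Nat.prime_two).mp h2)

/-- `C_H(Ω₁(Z(Q))) = Q` when `H = Q ⟨k, a⟩` -/
theorem centralizer_omegaZ_eq (Q : Subgroup H) [hQn : Q.Normal]
    (a k : H) (hai : a⁻¹ = a) (hak : a * k * a⁻¹ = k⁻¹)
    (r : ℕ) (hr : r.Prime) (hr2 : r ≠ 2) (hkr : orderOf k = r)
    (hgen : Q ⊔ dih k a hai hak = ⊤)
    (hkV : k ∉ centralizer ((omegaZ 2 Q : Subgroup H) : Set H)) :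
    centralizer ((omegaZ 2 Q : Subgroup H) : Set H) = Q := by
  have hVn : (omegaZ 2 Q).Normal := omegaZ_normal Q
  haveI hCn : (centralizer ((omegaZ 2 Q : Subgroup H) : Set H)).Normal := Subgroup.normal_centralizer
  have hQC : Q ≤ centralizer ((omegaZ 2 Q : Subgroup H) : Set H) := le_centralizer_omegaZ Q
  apply le_antisymm _ hQC
  -- powers of `k` in `C`
  have hpow : ∀ j : ℤ, k ^ j ∈ centralizer ((omegaZ 2 Q : Subgroup H) : Set H) → k ^ j = 1 := by
    intro j hj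
    haveI : Fact (Nat.card ↥(zpowers k)).Prime := ⟨by rw [Nat.card_zpowers, hkr]; exact hr⟩
    rcases ((centralizer ((omegaZ 2 Q : Subgroup H) : Set H)).subgroupOf
      (zpowers k)).eq_bot_or_eq_top_of_prime_card with h | h
    · have h1 : (⟨k ^ j, zpow_mem (mem_zpowers k) j⟩ : ↥(zpowers k)) ∈
          (centralizer ((omegaZ 2 Q : Subgroup H) : Set H)).subgroupOf (zpowers k) :=
        Subgroup.mem_subgroupOf.mpr hj
      rw [h, Subgroup.mem_bot] at h1
      exact congrArg Subtype.val h1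
    · exfalso
      apply hkV
      have h1 : (⟨k, mem_zpowers k⟩ : ↥(zpowers k)) ∈
          (centralizer ((omegaZ 2 Q : Subgroup H) : Set H)).subgroupOf (zpowers k) := by
        rw [h]; exact Subgroup.mem_top _
      exact Subgroup.mem_subgroupOf.mp h1
  intro c hc
  have hc' : c ∈ Q ⊔ dih k a hai hak := by rw [hgen]; exact Subgroup.mem_top c
  obtain ⟨q, hq, d, hd, rfl⟩ := Subgroup.mem_sup_of_normal_left.mp hc'
  have hdC : d ∈ centralizer ((omegaZ 2 Q : Subgroup H) : Set H) := by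
    have : d = q⁻¹ * (q * d) := by group
    rw [this]
    exact mul_mem (inv_mem (hQC hq)) hc
  obtain ⟨i, hi | hi⟩ := (mem_dih hai hak).mp hd
  · rw [hi] at hdC
    rw [hi, hpow i hdC, mul_one]
    exact hq
  · exfalso
    have h1 : k * d * k⁻¹ ∈ centralizer ((omegaZ 2 Q : Subgroup H) : Set H) :=
      hCn.conj_mem d hdC k
    have h2 : d⁻¹ * (k * d * k⁻¹) ∈ centralizer ((omegaZ 2 Q : Subgroup H) : Set H) :=
      mul_mem (inv_mem hdC) h1
    have haka : a * k * a = k⁻¹ := by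
      have := hak
      rw [hai] at this
      exact this
    have h3 : d⁻¹ * (k * d * k⁻¹) = k ^ (-2 : ℤ) := by
      rw [hi]
      have : (a * k ^ i)⁻¹ * (k * (a * k ^ i) * k⁻¹) =
          (k ^ i)⁻¹ * (a⁻¹ * k * a) * k ^ i * k⁻¹ := by group
      rw [this, hai, haka]
      group
    rw [h3] at h2
    have h4 := hpow _ h2
    have h5 : k ^ 2 = 1 := by
      have : k ^ (-2 : ℤ) = (k ^ 2)⁻¹ := by
        rw [zpow_neg]; norm_cast
      rw [this, inv_eq_one] at h4
      exact h4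
    have h6 : r ∣ 2 := by rw [← hkr]; exact orderOf_dvd_of_pow_eq_one h5
    exact hr2 ((Nat.prime_dvd_prime_iff_eq hr Nat.prime_two).mp h6)

end Cfsg.Agent.Lib.Helper15.S4F
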