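import Mathlib
import Cfsg.Agent.Lib.Helper15.S4F2

/-!
# The final configuration, continued (helper15)
-/

set_option autoImplicit false

namespace Cfsg.Agent.Lib.Helper15.S4F

open Subgroup
open scoped commutatorElement
open Cfsg.Agent.Lib.Helper13 (omegaZ mem_omegaZ omegaZ_normal omegaZ_comm le_centralizer_omegaZ)
open Cfsg.Agent.Lib.Lead.GlaubermanRepl (card_sup_mul_card_inf comm_sup)
open Cfsg.Agent.Lib.Lead.GlaubermanReplE (maxEIn exp_sup)

variable {H : Type*} [Group H] [Finite H]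

/-- `|V| ≤ 2 |C_V(a)|` by the maximality of `A` -/
theorem card_omegaZ_le (Q : Subgroup H) (A : Subgroup H) (hA : A ∈ maxEIn 2 (⊤ : Subgroup H))
    (a : H) (haA : a ∈ A) (haQ : a ∉ Q) (hAQ : ∀ x ∈ A, x ∈ Q ∨ x * a ∈ Q) :
    Nat.card (omegaZ 2 Q) ≤
      2 * Nat.card ↥((omegaZ 2 Q) ⊓ centralizer ((zpowers a : Subgroup H) : Set H)) := by
  obtain ⟨-, hAc, hAe, hAmax⟩ := hA
  have hVc : ∀ x ∈ omegaZ 2 Q, ∀ y ∈ omegaZ 2 Q, x * y = y * x := by
    intro x hx y hy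
    have hx' := ((mem_omegaZ Q _).mp hx).1
    have hy' := ((mem_omegaZ Q _).mp hy).1
    exact ((Subgroup.mem_centralizer_iff.mp (Subgroup.mem_inf.mp hy').2) x
      (Subgroup.mem_inf.mp hx').1)
  have hVe : ∀ x ∈ omegaZ 2 Q, x ^ 2 = 1 := fun x hx => ((mem_omegaZ Q _).mp hx).2
  have hA₀c : ∀ x ∈ A ⊓ Q, ∀ y ∈ A ⊓ Q, x * y = y * x :=
    fun x hx y hy => hAc x (Subgroup.mem_inf.mp hx).1 y (Subgroup.mem_inf.mp hy).1
  have hA₀e : ∀ x ∈ A ⊓ Q, x ^ 2 = 1 := fun x hx => hAe x (Subgroup.mem_inf.mp hx).1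
  have hVA₀ : ∀ v ∈ omegaZ 2 Q, ∀ x ∈ A ⊓ Q, v * x = x * v := by
    intro v hv x hx
    have hv' := ((mem_omegaZ Q _).mp hv).1
    exact ((Subgroup.mem_centralizer_iff.mp (Subgroup.mem_inf.mp hv').2) x
      (Subgroup.mem_inf.mp hx).2).symm
  have hBc := comm_sup hVc hA₀c hVA₀
  have hBe := exp_sup hBc hVe hA₀e
  have h1 : Nat.card ↥(omegaZ 2 Q ⊔ A ⊓ Q) ≤ Nat.card A := hAmax _ le_top hBc hBe
  have hVN : omegaZ 2 Q ≤ normalizer ((A ⊓ Q : Subgroup H) : Set H) := by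
    refine le_trans ?_ (Subgroup.centralizer_le_normalizer _)
    intro v hv
    rw [Subgroup.mem_centralizer_iff]
    intro x hx
    exact (hVA₀ v hv x hx).symm
  have h2 := card_sup_mul_card_inf (omegaZ 2 Q) (A ⊓ Q) hVN
  have h3 : Nat.card ↥(omegaZ 2 Q ⊓ (A ⊓ Q)) ≤
      Nat.card ↥((omegaZ 2 Q) ⊓ centralizer ((zpowers a : Subgroup H) : Set H)) := by
    apply Subgroup.card_le_of_le
    intro x hx
    obtain ⟨hxV, hxA₀⟩ := Subgroup.mem_inf.mp hx
    refine Subgroup.mem_inf.mpr ⟨hxV, ?_⟩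
    rw [Subgroup.mem_centralizer_iff]
    rintro _ ⟨i, rfl⟩
    have hcm : Commute a x := hAc a haA x (Subgroup.mem_inf.mp hxA₀).1
    exact (hcm.zpow_left i).eq
  have h4 : Nat.card A = 2 * Nat.card ↥(A ⊓ Q) := by
    have hidx : ((A ⊓ Q).subgroupOf A).index = 2 := by
      rw [Subgroup.index_eq_two_iff]
      refine ⟨⟨a, haA⟩, ?_⟩
      intro b
      have hb1 : b * ⟨a, haA⟩ ∈ (A ⊓ Q).subgroupOf A ↔ (b : H) * a ∈ Q := by
        rw [Subgroup.mem_subgroupOf]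
        constructor
        · intro h; exact (Subgroup.mem_inf.mp h).2
        · intro h; exact Subgroup.mem_inf.mpr ⟨mul_mem b.2 haA, h⟩
      have hb2 : b ∈ (A ⊓ Q).subgroupOf A ↔ (b : H) ∈ Q := by
        rw [Subgroup.mem_subgroupOf]
        constructor
        · intro h; exact (Subgroup.mem_inf.mp h).2
        · intro h; exact Subgroup.mem_inf.mpr ⟨b.2, h⟩
      rw [hb1, hb2]
      rcases hAQ b b.2 with h | h
      · right
        refine ⟨h, ?_⟩
        intro h'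
        apply haQ
        have : a = (b : H)⁻¹ * ((b : H) * a) := by group
        rw [this]
        exact mul_mem (inv_mem h) h'
      · left
        refine ⟨h, ?_⟩
        intro h'
        apply haQ
        have : a = (b : H)⁻¹ * ((b : H) * a) := by group
        rw [this]
        exact mul_mem (inv_mem h') h
    have h5 := Subgroup.index_mul_card ((A ⊓ Q).subgroupOf A)
    rw [hidx] at h5
    have h6 : Nat.card ↥((A ⊓ Q).subgroupOf A) = Nat.card ↥(A ⊓ Q) :=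
      Nat.card_congr (Subgroup.subgroupOfEquivOfLe (inf_le_left : A ⊓ Q ≤ A)).toEquiv
    rw [h6] at h5
    exact h5.symm
  have hpos : 0 < Nat.card ↥(A ⊓ Q) := Nat.card_pos
  apply Nat.le_of_mul_le_mul_right _ hpos
  calc Nat.card ↥(omegaZ 2 Q) * Nat.card ↥(A ⊓ Q)
      = Nat.card ↥(omegaZ 2 Q ⊔ A ⊓ Q) * Nat.card ↥(omegaZ 2 Q ⊓ (A ⊓ Q)) := h2.symm
    _ ≤ Nat.card A *
          Nat.card ↥((omegaZ 2 Q) ⊓ centralizer ((zpowers a : Subgroup H) : Set H)) :=
        Nat.mul_le_mul h1 h3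
    _ = 2 * Nat.card ↥((omegaZ 2 Q) ⊓ centralizer ((zpowers a : Subgroup H) : Set H)) *
          Nat.card ↥(A ⊓ Q) := by rw [h4]; ring

/-- a subgroup of order `2` with `|V| ≤ 2 |C_V(a)|` is a best offender on `V` -/
theorem bestOffender_zpowers (V : Subgroup H) (a : H) (ha2 : orderOf a = 2)
    (hle : Nat.card V ≤ 2 * Nat.card ↥(V ⊓ centralizer ((zpowers a : Subgroup H) : Set H))) :
    Cfsg.IsBestOffenderOn 2 V (zpowers a) := by
  have hcard : Nat.card ↥(zpowers a) = 2 := by rw [Nat.card_zpowers, ha2]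
  have haa : a ^ 2 = 1 := by rw [← ha2]; exact pow_orderOf_eq_one a
  refine ⟨?_, ?_, ?_⟩
  · intro B hB
    have hdvd : Nat.card B ∣ 2 := by
      have := Subgroup.card_dvd_of_le hB
      rwa [hcard] at this
    rcases (Nat.dvd_prime Nat.prime_two).mp hdvd with h | h
    · rw [h, one_mul, hcard]
      exact le_trans (Subgroup.card_le_of_le inf_le_left) hle
    · have hBeq : B = zpowers a := Subgroup.eq_of_le_of_card_ge hB (by rw [h, hcard])
      rw [hBeq]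
  · rw [Subgroup.commutator_le]
    rintro _ ⟨i, rfl⟩ _ ⟨j, rfl⟩
    have hcm : Commute (a ^ i) (a ^ j) := (Commute.refl a).zpow_zpow i j
    have : ⁅a ^ i, a ^ j⁆ = 1 := commutatorElement_eq_one_iff_mul_comm.mpr hcm.eq
    rw [this]
    exact Subgroup.one_mem _
  · rintro _ ⟨i, rfl⟩
    have : (a ^ i) ^ 2 = 1 := by
      rw [← zpow_natCast, ← zpow_mul, mul_comm, zpow_mul, zpow_natCast, haa, one_zpow]
    rw [this]
    exact Subgroup.one_mem _

/-- **The final configuration.** -/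
theorem final_config (hsep : Cfsg.IsPSolvable 2 H)
    (Q : Subgroup H) [hQn : Q.Normal] (hQ2 : IsPGroup 2 Q)
    (hOp : ∀ R : Subgroup H, R.Normal → IsPGroup 2 R → R ≤ Q)
    (hCQ : centralizer (Q : Set H) ≤ Q)
    (A : Subgroup H) (hA : A ∈ maxEIn 2 (⊤ : Subgroup H))
    (a k : H) (haA : a ∈ A) (haQ : a ∉ Q) (hAQ : ∀ x ∈ A, x ∈ Q ∨ x * a ∈ Q)
    (hai : a⁻¹ = a) (hak : a * k * a⁻¹ = k⁻¹)
    (r : ℕ) (hr : r.Prime) (hr2 : r ≠ 2) (hkr : orderOf k = r)
    (hgen : Q ⊔ dih k a hai hak = ⊤)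
    (hcl : ∀ q ∈ Q, ∀ q' ∈ Q, ⁅⁅q, a⁆, q'⁆ = 1) :
    Cfsg.Involves (Equiv.Perm (Fin 4)) H := by
  haveI : Fact (Nat.Prime 2) := ⟨Nat.prime_two⟩
  have hkV := not_centralizes_omegaZ Q hQ2 hCQ a k hai hak r hr hr2 hkr hcl
  have hCeq := centralizer_omegaZ_eq Q a k hai hak r hr hr2 hkr hgen hkV
  obtain ⟨V, hVdef⟩ : ∃ V : Subgroup H, V = omegaZ 2 Q := ⟨_, rfl⟩
  rw [← hVdef] at hCeq
  haveI hVn : V.Normal := by rw [hVdef]; exact omegaZ_normal Q
  have hVc : IsMulCommutative V := by rw [hVdef]; exact omegaZ_comm Q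
  have hVp : ∀ x ∈ V, x ^ 2 = 1 := by
    intro x hx; rw [hVdef] at hx; exact ((mem_omegaZ Q x).mp hx).2
  have hVQ : V ≤ Q := by
    intro v hv; rw [hVdef] at hv
    exact (Subgroup.mem_inf.mp ((mem_omegaZ Q v).mp hv).1).1
  have hVea : Cfsg.IsElementaryAbelian 2 V := ⟨hVc, hVp⟩
  have hVab : V ≤ centralizer (V : Set H) := by rw [hCeq]; exact hVQ
  have ha1 : a ≠ 1 := by
    intro h; apply haQ; rw [h]; exact Subgroup.one_mem _
  have ha2 : orderOf a = 2 := by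
    apply orderOf_eq_prime
    · exact hA.2.2.1 a haA
    · exact ha1
  have hle := card_omegaZ_le Q A hA a haA haQ hAQ
  rw [← hVdef] at hle
  have hB := bestOffender_zpowers V a ha2 hle
  have hBV : ¬ zpowers a ≤ centralizer (V : Set H) := by
    intro h
    apply haQ
    rw [← hCeq]
    exact h (mem_zpowers a)
  have hO : Cfsg.pCore 2 (H ⧸ centralizer (V : Set H)) = ⊥ := by
    haveI : (centralizer (V : Set H)).Normal := Subgroup.normal_centralizer
    apply Cfsg.Agent.Lib.Helper1.ThompsonA.pCore_quotient_eq_bot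
    · rw [hCeq]; exact hQ2
    · intro R hRn hRp
      rw [hCeq]; exact hOp R hRn hRp
  obtain ⟨E, hEH, hE6, hW4, hbot, hWV, hEW⟩ :=
    Cfsg.Agent.Lib.Helper1.ThompsonA.exists_S3_plane V hVea hsep hO (zpowers a) hB hBV
  have hQ2' : IsPGroup 2 ↥(centralizer (V : Set H)) := by rw [hCeq]; exact hQ2
  exact Cfsg.Agent.Lib.Helper1.ThompsonA.involves_perm4_of_plane V hVab hQ2' E hEH hE6 hW4 hbot
    hWV hEW

end Cfsg.Agent.Lib.Helper15.S4F
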