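import Mathlib
import Cfsg.Agent.Lib.Helper15.S4F3
import Cfsg.Agent.Lib.Helper14.CopP2
import Cfsg.Agent.Lib.Lead.PSolvOfSolv
import Cfsg.Agent.Lib.Helper11.QuadFree

/-!
# Maximal elementary abelian `2`-subgroups lie in `O_2` (helper15)

`H` soluble, `S₄`-free, all `2`-subgroups of class at most two, `C_H(O_2(H)) ≤ O_2(H)`: every
elementary abelian `2`-subgroup of maximal order lies in `O_2(H)`.
-/

set_option autoImplicit false

universe u

namespace Cfsg.Agent.Lib.Helper15.S4F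

open Subgroup
open scoped commutatorElement
open Cfsg.Agent.Lib.Lead.GlaubermanReplE (maxEIn)

/-- all `2`-subgroups have class at most two -/
def Cl2 (H : Type*) [Group H] : Prop :=
  ∀ T : Subgroup H, IsPGroup 2 T → ∀ x ∈ T, ∀ y ∈ T, ∀ z ∈ T, ⁅⁅x, y⁆, z⁆ = 1

theorem cl2_subgroup {H : Type*} [Group H] (H' : Subgroup H) (hcl : Cl2 H) : Cl2 ↥H' := by
  intro T hT x hx y hy z hz
  have hT' : IsPGroup 2 ↥(T.map H'.subtype) := hT.map _
  have h1 := hcl _ hT' (x : H) (Subgroup.mem_map_of_mem _ hx) (y : H)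
    (Subgroup.mem_map_of_mem _ hy) (z : H) (Subgroup.mem_map_of_mem _ hz)
  apply Subtype.ext
  simpa [commutatorElement_def] using h1

theorem maxEIn_subgroupOf {H : Type*} [Group H] [Finite H] (H' : Subgroup H) {A : Subgroup H}
    (hA : A ∈ maxEIn 2 (⊤ : Subgroup H)) (hAH : A ≤ H') :
    A.subgroupOf H' ∈ maxEIn 2 (⊤ : Subgroup ↥H') := by
  obtain ⟨-, hAc, hAe, hAmax⟩ := hA
  refine ⟨le_top, ?_, ?_, ?_⟩
  · intro x hx y hy
    apply Subtype.ext
    exact hAc x (Subgroup.mem_subgroupOf.mp hx) y (Subgroup.mem_subgroupOf.mp hy)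
  · intro x hx
    apply Subtype.ext
    have := hAe x (Subgroup.mem_subgroupOf.mp hx)
    simpa using this
  · intro B _ hBc hBe
    have h1 : Nat.card ↥(B.map H'.subtype) = Nat.card B :=
      Subgroup.card_map_of_injective H'.subtype_injective
    have h2 : Nat.card ↥(A.subgroupOf H') = Nat.card A :=
      Nat.card_congr (Subgroup.subgroupOfEquivOfLe hAH).toEquiv
    rw [h2, ← h1]
    apply hAmax _ le_top
    · rintro _ ⟨x, hx, rfl⟩ _ ⟨y, hy, rfl⟩
      have := hBc x hx y hy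
      exact congrArg Subtype.val this
    · rintro _ ⟨x, hx, rfl⟩
      have := hBe x hx
      have h3 := congrArg Subtype.val this
      simpa using h3

/-- an element of odd prime order inverted by the involution `a` -/
theorem exists_inverted {H : Type*} [Group H] [Finite H] {Hb : Type*} [Group Hb] (π : H →* Hb)
    (x a : H) (hai : a⁻¹ = a) (hcop : (orderOf (π ⁅x, a⁆)).Coprime 2) (h1 : π ⁅x, a⁆ ≠ 1) :
    ∃ (k : H) (r : ℕ), r.Prime ∧ r ≠ 2 ∧ orderOf k = r ∧ a * k * a⁻¹ = k⁻¹ ∧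
      k ∈ zpowers ⁅x, a⁆ := by
  have hm1 : orderOf (π ⁅x, a⁆) ≠ 1 := fun h => h1 (orderOf_eq_one_iff.mp h)
  have hr : (orderOf (π ⁅x, a⁆)).minFac.Prime := Nat.minFac_prime hm1
  have hrd : (orderOf (π ⁅x, a⁆)).minFac ∣ orderOf (π ⁅x, a⁆) := Nat.minFac_dvd _
  have hr2 : (orderOf (π ⁅x, a⁆)).minFac ≠ 2 := by
    intro h
    rw [h] at hrd
    have := Nat.Coprime.eq_one_of_dvd hcop.symm hrd
    omega
  have hrd' : (orderOf (π ⁅x, a⁆)).minFac ∣ orderOf ⁅x, a⁆ := hrd.trans (orderOf_map_dvd π _)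
  refine ⟨⁅x, a⁆ ^ (orderOf ⁅x, a⁆ / (orderOf (π ⁅x, a⁆)).minFac), _, hr, hr2,
    orderOf_pow_orderOf_div (orderOf_pos _).ne' hrd', ?_, Subgroup.pow_mem _ (mem_zpowers _) _⟩
  have haa : a * a = 1 := by
    calc a * a = a⁻¹ * a := by rw [hai]
      _ = 1 := inv_mul_cancel a
  have hinv : a * ⁅x, a⁆ * a⁻¹ = ⁅x, a⁆⁻¹ := by
    have e1 : a * ⁅x, a⁆ * a⁻¹ = a * x * a * x⁻¹ * (a⁻¹ * a⁻¹) := by
      rw [commutatorElement_def]; group
    have e2 : ⁅x, a⁆⁻¹ = a * x * a⁻¹ * x⁻¹ := by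
      rw [commutatorElement_def]; group
    rw [e1, e2, hai, haa, mul_one]
  rw [← conj_pow, hinv, inv_pow]

/-- **The inductive step.** -/
theorem step {H : Type u} [Group H] [Finite H]
    (ih : ∀ (H' : Type u) [Group H'] [Finite H'], Nat.card H' < Nat.card H →
      Group.IsSolvable H' → Cl2 H' → ¬ Cfsg.Involves (Equiv.Perm (Fin 4)) H' →
      centralizer ((Cfsg.pCore 2 H' : Subgroup H') : Set H') ≤ Cfsg.pCore 2 H' →
      ∀ A ∈ maxEIn 2 (⊤ : Subgroup H'), A ≤ Cfsg.pCore 2 H')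
    (hsol : Group.IsSolvable H) (hcl : Cl2 H) (hfree : ¬ Cfsg.Involves (Equiv.Perm (Fin 4)) H)
    (hCQ : centralizer ((Cfsg.pCore 2 H : Subgroup H) : Set H) ≤ Cfsg.pCore 2 H)
    (A : Subgroup H) (hA : A ∈ maxEIn 2 (⊤ : Subgroup H)) : A ≤ Cfsg.pCore 2 H := by
  classical
  haveI : Fact (Nat.Prime 2) := ⟨Nat.prime_two⟩
  by_contra hAQ
  have hPS : Cfsg.IsPSolvable 2 H :=
    Cfsg.Agent.Lib.Lead.PSolvOfSolv.isPSolvable_of_isSolvable 2 hsol
  obtain ⟨Q, hQdef⟩ : ∃ Q : Subgroup H, Q = Cfsg.pCore 2 H := ⟨_, rfl⟩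
  rw [← hQdef] at hCQ hAQ
  haveI hQn : Q.Normal := by rw [hQdef]; exact Cfsg.Agent.Lib.Helper2.pCore_normal 2
  have hQ2 : IsPGroup 2 Q := by rw [hQdef]; exact Cfsg.Agent.Lib.Helper2.pCore_isPGroup 2
  have hOp : ∀ R : Subgroup H, R.Normal → IsPGroup 2 R → R ≤ Q := by
    intro R hRn hRp; rw [hQdef]; exact Cfsg.Agent.Lib.Helper2.le_pCore hRn hRp
  have hAc := hA.2.1
  have hAe := hA.2.2.1
  have hOq : Cfsg.pCore 2 (H ⧸ Q) = ⊥ :=
    Cfsg.Agent.Lib.Helper1.ThompsonA.pCore_quotient_eq_bot Q hQ2 hOp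
  have hPSq : Cfsg.IsPSolvable 2 (H ⧸ Q) :=
    Cfsg.Agent.Lib.Helper3.isPSolvable_quotient Nat.prime_two hPS Q
  obtain ⟨K, hKdef⟩ : ∃ K : Subgroup (H ⧸ Q), K = Cfsg.pPrimeCore 2 (H ⧸ Q) := ⟨_, rfl⟩
  haveI hKn : K.Normal := by rw [hKdef]; exact Cfsg.Agent.Lib.Helper2.pPrimeCore_normal 2
  have hKcop : (Nat.card K).Coprime 2 := by
    rw [hKdef]; exact Cfsg.Agent.Lib.Helper2.pPrimeCore_coprime 2
  have hKself : centralizer (K : Set (H ⧸ Q)) ≤ K := by
    rw [hKdef]; exact Cfsg.Agent.Lib.Helper14.centralizer_pPrimeCore_le hPSq hOq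
  obtain ⟨π, hπdef⟩ : ∃ π : H →* H ⧸ Q, π = QuotientGroup.mk' Q := ⟨_, rfl⟩
  have hπs : Function.Surjective π := by rw [hπdef]; exact QuotientGroup.mk'_surjective Q
  have hker : ∀ g : H, π g = 1 ↔ g ∈ Q := by
    intro g; rw [hπdef]; exact QuotientGroup.eq_one_iff g
  have hAbab : IsMulCommutative ↥(A.map π) := by
    refine ⟨⟨?_⟩⟩
    rintro ⟨_, u, hu, rfl⟩ ⟨_, v, hv, rfl⟩
    apply Subtype.ext
    show π u * π v = π v * π u
    rw [← map_mul, ← map_mul, hAc u hu v hv]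
  have hAp : IsPGroup 2 A := by
    intro g
    refine ⟨1, Subtype.ext ?_⟩
    have := hAe g g.2
    simpa using this
  have hAbp : IsPGroup 2 ↥(A.map π) := hAp.map π
  have hAb1 : A.map π ≠ ⊥ := by
    intro h; apply hAQ; intro u hu
    have : π u ∈ A.map π := Subgroup.mem_map_of_mem _ hu
    rw [h, Subgroup.mem_bot] at this
    exact (hker u).mp this
  obtain ⟨Bb, hBbA, ab, hab, hsup, y, hy, hay⟩ :=
    Cfsg.Agent.Lib.Helper14.PSol.exists_hyperplane K (A.map π) hKcop hKself hAbab hAbp hAb1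
  obtain ⟨a, haA, rfl⟩ := Subgroup.mem_map.mp hab
  obtain ⟨x, rfl⟩ := hπs y
  obtain ⟨hyK, hyC⟩ := Subgroup.mem_inf.mp hy
  have hai : a⁻¹ = a := by
    have h := hAe a haA
    rw [pow_two] at h
    exact inv_eq_of_mul_eq_one_left h
  have hπy : π ⁅x, a⁆ = ⁅π x, π a⁆ := map_commutatorElement π x a
  have hyK' : π ⁅x, a⁆ ∈ K := by
    rw [hπy, commutatorElement_def]
    have : π x * π a * (π x)⁻¹ * (π a)⁻¹ = π x * (π a * (π x)⁻¹ * (π a)⁻¹) := by group
    rw [this]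
    exact mul_mem hyK (hKn.conj_mem _ (inv_mem hyK) _)
  have hy1 : π ⁅x, a⁆ ≠ 1 := by
    rw [hπy]; intro h
    apply hay
    exact (commutatorElement_eq_one_iff_mul_comm.mp h).symm
  have hycop : (orderOf (π ⁅x, a⁆)).Coprime 2 :=
    Nat.Coprime.coprime_dvd_left (Subgroup.orderOf_dvd_natCard K hyK') hKcop
  obtain ⟨k, r, hr, hr2, hkr, hak, hky⟩ := exists_inverted π x a hai hycop hy1
  have hAB : ∀ u ∈ A, π u ∈ centralizer (Bb : Set (H ⧸ Q)) := by
    intro u hu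
    rw [Subgroup.mem_centralizer_iff]
    intro b hb
    have := hAbab.is_comm.comm ⟨b, hBbA hb⟩ ⟨π u, Subgroup.mem_map_of_mem _ hu⟩
    exact congrArg Subtype.val this
  have haB := hAB a haA
  have hkB : π k ∈ centralizer (Bb : Set (H ⧸ Q)) := by
    obtain ⟨i, hi⟩ := Subgroup.mem_zpowers_iff.mp hky
    rw [← hi, map_zpow, hπy, commutatorElement_def]
    exact zpow_mem (mul_mem (mul_mem (mul_mem hyC haB) (inv_mem hyC)) (inv_mem haB)) i
  have hnorm : ∀ g : H, π g ∈ centralizer (Bb : Set (H ⧸ Q)) →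
      g ∈ normalizer ((Bb.comap π : Subgroup H) : Set H) := by
    intro g hg
    rw [Subgroup.mem_normalizer_iff]
    intro n
    rw [Subgroup.mem_comap, Subgroup.mem_comap, map_mul, map_mul, map_inv]
    have hcomm : ∀ b ∈ Bb, π g * b * (π g)⁻¹ = b := by
      intro b hb
      have := Subgroup.mem_centralizer_iff.mp hg b hb
      rw [← this, mul_inv_cancel_right]
    constructor
    · intro hn; rw [hcomm _ hn]; exact hn
    · intro hn
      have h2 := hcomm _ hn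
      have h3 : π g * π n * (π g)⁻¹ = π n := by
        have h4 : (π g)⁻¹ * (π g * (π g * π n * (π g)⁻¹) * (π g)⁻¹) * π g =
            (π g)⁻¹ * (π g * π n * (π g)⁻¹) * π g := by rw [h2]
        have e1 : (π g)⁻¹ * (π g * (π g * π n * (π g)⁻¹) * (π g)⁻¹) * π g =
            π g * π n * (π g)⁻¹ := by group
        have e2 : (π g)⁻¹ * (π g * π n * (π g)⁻¹) * π g = π n := by group
        rw [e1, e2] at h4; exact h4
      rw [← h3]; exact hn
  by_cases htop : Q ⊔ A ⊔ zpowers k = ⊤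
  · -- `H = Q A ⟨k⟩`
    have hNn : (Bb.comap π).Normal := by
      have : normalizer ((Bb.comap π : Subgroup H) : Set H) = ⊤ := by
        rw [eq_top_iff, ← htop]
        apply sup_le (sup_le _ _) _
        · intro q hq; apply hnorm; rw [(hker q).mpr hq]; exact one_mem _
        · intro u hu; exact hnorm u (hAB u hu)
        · rw [zpowers_le]; exact hnorm k hkB
      exact Subgroup.normalizer_eq_top_iff.mp this
    have hNp : IsPGroup 2 ↥(Bb.comap π) := by
      apply (hAbp.to_le hBbA).comap_of_ker_isPGroup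
      rw [hπdef, QuotientGroup.ker_mk']; exact hQ2
    have hNQ : Bb.comap π ≤ Q := hOp _ hNn hNp
    have hBb : Bb = ⊥ := by
      rw [eq_bot_iff]; intro b hb
      obtain ⟨g, rfl⟩ := hπs b
      rw [Subgroup.mem_bot, hker]; exact hNQ hb
    rw [hBb, bot_sup_eq] at hsup
    have hπa2 : π a * π a = 1 := by rw [← map_mul, ← pow_two, hAe a haA, map_one]
    have hAQ' : ∀ u ∈ A, u ∈ Q ∨ u * a ∈ Q := by
      intro u hu
      have h1 : π u ∈ zpowers (π a) := by rw [hsup]; exact Subgroup.mem_map_of_mem _ hu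
      obtain ⟨i, hi⟩ := Subgroup.mem_zpowers_iff.mp h1
      rcases Int.even_or_odd i with ⟨j, rfl⟩ | ⟨j, rfl⟩
      · left
        rw [← hker, ← hi, ← two_mul, zpow_mul, zpow_two, hπa2, one_zpow]
      · right
        rw [← hker, map_mul, ← hi, zpow_add, zpow_mul, zpow_two, hπa2, one_zpow, one_mul, zpow_one,
          hπa2]
    have haQ : a ∉ Q := by
      intro h; apply hay; rw [(hker a).mpr h, one_mul, mul_one]
    have hgen : Q ⊔ dih k a hai hak = ⊤ := by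
      rw [eq_top_iff, ← htop]
      apply sup_le (sup_le le_sup_left _) _
      · intro u hu
        rcases hAQ' u hu with h | h
        · exact Subgroup.mem_sup_left h
        · have : u = (u * a) * a⁻¹ := by group
          rw [this]
          exact mul_mem (Subgroup.mem_sup_left h)
            (Subgroup.mem_sup_right (inv_mem (a_mem_dih hai hak)))
      · rw [zpowers_le]; exact Subgroup.mem_sup_right (k_mem_dih hai hak)
    have hcl' : ∀ q ∈ Q, ∀ q' ∈ Q, ⁅⁅q, a⁆, q'⁆ = 1 := by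
      intro q hq q' hq'
      have hT : IsPGroup 2 ↥(zpowers a ⊔ Q) :=
        IsPGroup.to_sup_of_normal_right (hAp.to_le (zpowers_le.mpr haA)) hQ2
      exact hcl _ hT q (Subgroup.mem_sup_right hq) a (Subgroup.mem_sup_left (mem_zpowers a)) q'
        (Subgroup.mem_sup_right hq')
    exact hfree (final_config hPS Q hQ2 hOp hCQ A hA a k haA haQ hAQ' hai hak r hr hr2 hkr hgen
      hcl')
  · -- a proper subgroup
    obtain ⟨H', hH'⟩ : ∃ H' : Subgroup H, H' = Q ⊔ A ⊔ zpowers k := ⟨_, rfl⟩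
    rw [← hH'] at htop
    have hQH' : Q ≤ H' := by rw [hH']; exact le_sup_left.trans le_sup_left
    have hAH' : A ≤ H' := by rw [hH']; exact le_sup_right.trans le_sup_left
    have hkH' : k ∈ H' := by rw [hH']; exact Subgroup.mem_sup_right (mem_zpowers k)
    have hlt : Nat.card ↥H' < Nat.card H :=
      lt_of_le_of_ne (Subgroup.card_le_card_group H')
        (fun h => htop ((Subgroup.card_eq_iff_eq_top _).mp h))
    have := hsol
    have hsol' : Group.IsSolvable ↥H' := inferInstance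
    have hcl2' : Cl2 ↥H' := cl2_subgroup H' hcl
    have hfree' : ¬ Cfsg.Involves (Equiv.Perm (Fin 4)) ↥H' :=
      fun h => hfree (Cfsg.Agent.Lib.Helper11.QuadFree.involves_of_subgroup H' h)
    have hQ'le : Q.subgroupOf H' ≤ Cfsg.pCore 2 ↥H' :=
      Cfsg.Agent.Lib.Helper2.le_pCore (hQn.subgroupOf H') hQ2.comap_subtype
    have hCQ' : centralizer ((Cfsg.pCore 2 ↥H' : Subgroup ↥H') : Set ↥H') ≤ Cfsg.pCore 2 ↥H' := by
      intro c hc
      apply hQ'le
      rw [Subgroup.mem_subgroupOf]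
      apply hCQ
      rw [Subgroup.mem_centralizer_iff]
      intro q hq
      have h1 : (⟨q, hQH' hq⟩ : ↥H') ∈ Cfsg.pCore 2 ↥H' :=
        hQ'le (Subgroup.mem_subgroupOf.mpr hq)
      have h2 := Subgroup.mem_centralizer_iff.mp hc _ h1
      exact congrArg Subtype.val h2
    have hA' : A.subgroupOf H' ∈ maxEIn 2 (⊤ : Subgroup ↥H') := maxEIn_subgroupOf H' hA hAH'
    have hres := ih ↥H' hlt hsol' hcl2' hfree' hCQ' _ hA'
    have ha' : (⟨a, hAH' haA⟩ : ↥H') ∈ Cfsg.pCore 2 ↥H' :=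
      hres (Subgroup.mem_subgroupOf.mpr haA)
    have hOn : (Cfsg.pCore 2 ↥H').Normal := Cfsg.Agent.Lib.Helper2.pCore_normal 2
    have hk2' : (⟨k, hkH'⟩ : ↥H') * ⟨k, hkH'⟩ ∈ Cfsg.pCore 2 ↥H' := by
      have h1 := hOn.conj_mem _ ha' ⟨k, hkH'⟩
      have h2 := mul_mem h1 (inv_mem ha')
      have h3 : (⟨k, hkH'⟩ : ↥H') * ⟨a, hAH' haA⟩ * (⟨k, hkH'⟩ : ↥H')⁻¹ *
          (⟨a, hAH' haA⟩ : ↥H')⁻¹ = ⟨k, hkH'⟩ * ⟨k, hkH'⟩ := by
        apply Subtype.ext
        show k * a * k⁻¹ * a⁻¹ = k * k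
        have : k * a * k⁻¹ * a⁻¹ = k * (a * k * a⁻¹)⁻¹ := by group
        rw [this, hak, inv_inv]
      rw [h3] at h2; exact h2
    obtain ⟨e, he⟩ := (Cfsg.Agent.Lib.Helper2.pCore_isPGroup 2 : IsPGroup 2 (Cfsg.pCore 2 ↥H'))
      ⟨_, hk2'⟩
    have he' : (k * k) ^ 2 ^ e = 1 := by
      have := congrArg Subtype.val (congrArg Subtype.val he)
      simpa using this
    have h1 : r ∣ 2 ^ (e + 1) := by
      rw [← hkr]; apply orderOf_dvd_of_pow_eq_one
      rw [pow_succ', pow_mul, pow_two]; exact he'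
    have h2 : r ∣ 2 := hr.dvd_of_dvd_pow h1
    exact hr2 ((Nat.prime_dvd_prime_iff_eq hr Nat.prime_two).mp h2)

/-- **Main proposition.** -/
theorem main_aux : ∀ n : ℕ, ∀ (H : Type u) [Group H] [Finite H], Nat.card H = n →
    Group.IsSolvable H → Cl2 H → ¬ Cfsg.Involves (Equiv.Perm (Fin 4)) H →
    centralizer ((Cfsg.pCore 2 H : Subgroup H) : Set H) ≤ Cfsg.pCore 2 H →
    ∀ A ∈ maxEIn 2 (⊤ : Subgroup H), A ≤ Cfsg.pCore 2 H := by
  intro n
  induction n using Nat.strong_induction_on with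
  | _ n ih =>
    intro H _ _ hn hsol hcl hfree hCQ A hA
    apply step _ hsol hcl hfree hCQ A hA
    intro H' _ _ hlt
    exact ih (Nat.card H') (hn ▸ hlt) H' rfl

theorem main {H : Type u} [Group H] [Finite H] (hsol : Group.IsSolvable H) (hcl : Cl2 H)
    (hfree : ¬ Cfsg.Involves (Equiv.Perm (Fin 4)) H)
    (hCQ : centralizer ((Cfsg.pCore 2 H : Subgroup H) : Set H) ≤ Cfsg.pCore 2 H)
    (A : Subgroup H) (hA : A ∈ maxEIn 2 (⊤ : Subgroup H)) : A ≤ Cfsg.pCore 2 H :=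
  main_aux _ H rfl hsol hcl hfree hCQ A hA

end Cfsg.Agent.Lib.Helper15.S4F
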