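import Mathlib
import Cfsg.Agent.Lib.Helper2.NilpotentCoprime

set_option autoImplicit false

namespace Cfsg.Agent.Lib.Helper15.SSq

/-- the hypothesis of the statement -/
def Hyp (G : Type*) [Group G] : Prop :=
  ∀ (p q : ℕ), p.Prime → q.Prime → p ≠ q → ∀ (x g : G), (∃ a : ℕ, orderOf x = p ^ a) →
    (∃ b : ℕ, orderOf g = q ^ b) →
      ¬ q ^ 2 ∣ Nat.card ↥(Subgroup.zpowers x ⊔ Subgroup.zpowers (g * x * g⁻¹))

theorem Hyp.subgroup {G : Type*} [Group G] (h : Hyp G) (H : Subgroup G) : Hyp H := by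
  intro p q hp hq hpq x g hx hg hdvd
  apply h p q hp hq hpq (x : G) (g : G) (by simpa [Subgroup.orderOf_coe] using hx)
    (by simpa [Subgroup.orderOf_coe] using hg)
  have : (Subgroup.zpowers (x : G) ⊔ Subgroup.zpowers ((g : G) * x * (g : G)⁻¹)) =
      (Subgroup.zpowers x ⊔ Subgroup.zpowers (g * x * g⁻¹)).map H.subtype := by
    rw [Subgroup.map_sup, MonoidHom.map_zpowers, MonoidHom.map_zpowers]
    simp
  rw [this, Subgroup.card_map_of_injective H.subtype_injective]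
  exact hdvd

theorem exists_lift_primePow {G Q : Type*} [Group G] [Finite G] [Group Q] (f : G →* Q)
    (hf : Function.Surjective f) (p : ℕ) (hp : p.Prime) (xb : Q)
    (hx : ∃ a : ℕ, orderOf xb = p ^ a) : ∃ x : G, f x = xb ∧ ∃ a : ℕ, orderOf x = p ^ a := by
  obtain ⟨y, rfl⟩ := hf xb
  obtain ⟨a, b, ha, hb, hab, ⟨k, hak⟩, hbc⟩ := Cfsg.Agent.Lib.Helper2.exists_p_decomp y p hp
  obtain ⟨e, he⟩ := hx
  have h1 : orderOf (f b) ∣ orderOf b := orderOf_map_dvd f b
  have h2 : orderOf (f b) ∣ p ^ e := by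
    rw [← he]
    obtain ⟨i, hi⟩ := Subgroup.mem_zpowers_iff.mp hb
    rw [← hi, map_zpow]
    exact orderOf_dvd_of_mem_zpowers (Subgroup.zpow_mem_zpowers _ _)
  have h3 : orderOf (f b) = 1 := by
    have hc : (orderOf (f b)).Coprime (orderOf (f b)) :=
      Nat.Coprime.coprime_dvd_left h1 (Nat.Coprime.coprime_dvd_right h2 (hbc.pow_right e))
    exact (Nat.coprime_self _).mp hc
  rw [orderOf_eq_one_iff] at h3
  refine ⟨a, ?_, ?_⟩
  · rw [hab, map_mul, h3, mul_one]
  · obtain ⟨j, -, hj⟩ := (Nat.dvd_prime_pow hp).1 hak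
    exact ⟨j, hj⟩

theorem Hyp.of_surjective {G Q : Type*} [Group G] [Finite G] [Group Q] (h : Hyp G) (f : G →* Q)
    (hf : Function.Surjective f) : Hyp Q := by
  intro p q hp hq hpq xb gb hx hg hdvd
  obtain ⟨x, rfl, hx'⟩ := exists_lift_primePow f hf p hp xb hx
  obtain ⟨g, rfl, hg'⟩ := exists_lift_primePow f hf q hq gb hg
  apply h p q hp hq hpq x g hx' hg'
  have : Subgroup.zpowers (f x) ⊔ Subgroup.zpowers (f g * f x * (f g)⁻¹) =
      (Subgroup.zpowers x ⊔ Subgroup.zpowers (g * x * g⁻¹)).map f := by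
    rw [Subgroup.map_sup, MonoidHom.map_zpowers, MonoidHom.map_zpowers]
    simp
  rw [this] at hdvd
  refine dvd_trans hdvd ?_
  set K := Subgroup.zpowers x ⊔ Subgroup.zpowers (g * x * g⁻¹)
  have h1 : K.map f = (f.comp K.subtype).range := by
    rw [MonoidHom.range_comp, Subgroup.range_subtype]
  rw [h1]
  exact Subgroup.card_range_dvd _

end Cfsg.Agent.Lib.Helper15.SSq
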