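import Mathlib
import Cfsg.Agent.Lib.Helper15.SSqA
import Cfsg.Agent.S0071

set_option autoImplicit false

namespace Cfsg.Agent.Lib.Helper15.SSq

/-- prime-power induction (copied from Helper23.ScnA to keep imports light). -/
theorem le_of_primePow' {G : Type*} [Group G] [Finite G] (C B : Subgroup G)
    (h : ∀ x ∈ C, ∀ (r j : ℕ), r.Prime → orderOf x = r ^ j → x ∈ B) : C ≤ B := by
  have key : ∀ n : ℕ, ∀ x ∈ C, orderOf x = n → x ∈ B := by
    intro n
    induction n using Nat.strong_induction_on with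
    | _ n ih =>
      intro x hx hn
      by_cases h1 : n = 1
      · rw [h1, orderOf_eq_one_iff] at hn
        rw [hn]; exact B.one_mem
      · obtain ⟨r, hr, hrn⟩ := Nat.exists_prime_and_dvd h1
        obtain ⟨a, b, ha, hb, hab, ⟨k, hak⟩, hbc⟩ :=
          Cfsg.Agent.Lib.Helper2.exists_p_decomp x r hr
        have haC : a ∈ C := (Subgroup.zpowers_le.2 hx) ha
        have hbC : b ∈ C := (Subgroup.zpowers_le.2 hx) hb
        obtain ⟨j, -, hj⟩ := (Nat.dvd_prime_pow hr).1 hak
        have haB : a ∈ B := h a haC r j hr hj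
        have hbdvd : orderOf b ∣ n := hn ▸ orderOf_dvd_of_mem_zpowers hb
        have hblt : orderOf b < n := by
          apply lt_of_le_of_ne (Nat.le_of_dvd (by rw [← hn]; exact orderOf_pos x) hbdvd)
          intro heq
          rw [heq] at hbc
          exact hr.one_lt.ne' (Nat.Coprime.eq_one_of_dvd hbc.symm hrn)
        have hbB : b ∈ B := ih _ hblt b hbC rfl
        rw [hab]; exact B.mul_mem haB hbB
  intro x hx
  exact key _ x hx rfl

/-- iterating a conjugation that multiplies by a commuting element -/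
theorem conj_pow_of_comm {G : Type*} [Group G] (g y c : G) (h1 : g * y * g⁻¹ = c * y)
    (h2 : g * c = c * g) (k : ℕ) : g ^ k * y * (g ^ k)⁻¹ = c ^ k * y := by
  induction k with
  | zero => simp
  | succ k ih =>
    have : g ^ (k + 1) * y * (g ^ (k + 1))⁻¹ = g * (g ^ k * y * (g ^ k)⁻¹) * g⁻¹ := by
      rw [pow_succ']; group
    rw [this, ih]
    have h3 : g * (c ^ k * y) * g⁻¹ = (g * c ^ k * g⁻¹) * (g * y * g⁻¹) := by group
    have h4 : g * c ^ k * g⁻¹ = c ^ k := by
      have : Commute g (c ^ k) := (show Commute g c from h2).pow_right k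
      rw [this.eq, mul_inv_cancel_right]
    rw [h3, h4, h1, ← mul_assoc, ← pow_succ]

/-- if `g y g⁻¹ = c y` with `c` commuting with `g` and of order coprime to that of `g`,
then `c = 1`. -/
theorem eq_one_of_conj_comm {G : Type*} [Group G] [Finite G] (g y c : G)
    (h1 : g * y * g⁻¹ = c * y) (h2 : g * c = c * g)
    (hcop : (orderOf g).Coprime (orderOf c)) : c = 1 := by
  have h := conj_pow_of_comm g y c h1 h2 (orderOf g)
  rw [pow_orderOf_eq_one, one_mul, inv_one, mul_one] at h
  have h3 : c ^ orderOf g = 1 := by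
    have := congrArg (· * y⁻¹) h
    simpa using this.symm
  have h4 : orderOf c ∣ orderOf g := orderOf_dvd_of_pow_eq_one h3
  have h5 : orderOf c = 1 := Nat.Coprime.eq_one_of_dvd hcop.symm h4
  exact orderOf_eq_one_iff.mp h5


/-- conjugation by powers when `g c g⁻¹ = c ^ m`. -/
theorem conj_pow_eq_pow_pow {G : Type*} [Group G] (g c : G) (m : ℕ) (h : g * c * g⁻¹ = c ^ m)
    (k : ℕ) : g ^ k * c * (g ^ k)⁻¹ = c ^ (m ^ k) := by
  induction k with
  | zero => simp
  | succ k ih =>
    have : g ^ (k + 1) * c * (g ^ (k + 1))⁻¹ = g * (g ^ k * c * (g ^ k)⁻¹) * g⁻¹ := by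
      rw [pow_succ']; group
    rw [this, ih, ← conj_pow, h, ← pow_mul, pow_succ, mul_comm]

/-- an element of `r`-power order normalizing a group of prime order `p < r` centralizes it. -/
theorem comm_of_conj_mem_zpowers {G : Type*} [Group G] [Finite G] (p r a : ℕ) (hp : p.Prime)
    (hr : r.Prime) (hpr : p < r) (g c : G) (hg : orderOf g = r ^ a) (hc : orderOf c = p)
    (h : g * c * g⁻¹ ∈ Subgroup.zpowers c) : g * c = c * g := by
  haveI : Fact p.Prime := ⟨hp⟩
  have hcfin : IsOfFinOrder c := isOfFinOrder_of_finite c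
  obtain ⟨m, hm⟩ : ∃ m : ℕ, c ^ m = g * c * g⁻¹ := by
    have := (mem_powers_iff_mem_zpowers (x := c)).mpr h
    exact (Submonoid.mem_powers_iff _ _).mp this
  have h1 := conj_pow_eq_pow_pow g c m hm.symm (orderOf g)
  rw [pow_orderOf_eq_one, one_mul, inv_one, mul_one] at h1
  have h2 : m ^ orderOf g ≡ 1 [MOD p] := by
    have : c ^ (m ^ orderOf g) = c ^ 1 := by rw [pow_one]; exact h1.symm
    rw [pow_eq_pow_iff_modEq, hc] at this
    exact this
  have h3 : ((m : ZMod p)) ^ (r ^ a) = 1 := by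
    have := (ZMod.natCast_eq_natCast_iff _ _ _).mpr h2
    rw [hg] at this
    push_cast at this
    exact this
  have hu0 : (m : ZMod p) ≠ 0 := by
    intro h0
    rw [h0, zero_pow (pow_ne_zero _ hr.ne_zero)] at h3
    exact zero_ne_one h3
  have h4 : ((m : ZMod p)) ^ (p - 1) = 1 := ZMod.pow_card_sub_one_eq_one hu0
  have hcop : (r ^ a).Coprime (p - 1) := by
    apply Nat.Coprime.pow_left
    rw [Nat.Prime.coprime_iff_not_dvd hr]
    apply Nat.not_dvd_of_pos_of_lt
    · have := hp.two_le; omega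
    · omega
  have h5 : orderOf (m : ZMod p) = 1 :=
    Nat.eq_one_of_dvd_coprimes hcop (orderOf_dvd_of_pow_eq_one h3) (orderOf_dvd_of_pow_eq_one h4)
  rw [orderOf_eq_one_iff] at h5
  have h6 : m ≡ 1 [MOD p] := by
    rw [← ZMod.natCast_eq_natCast_iff]; push_cast; exact h5
  have h7 : c ^ m = c ^ 1 := by
    rw [pow_eq_pow_iff_modEq, hc]; exact h6
  rw [pow_one] at h7
  have : g * c * g⁻¹ = c := by rw [← hm, h7]
  calc g * c = g * c * g⁻¹ * g := by group
    _ = c * g := by rw [this]

theorem centralizes_of_hyp {G : Type*} [Group G] [Finite G] (h : Hyp G) (p r a : ℕ) (hp : p.Prime)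
    (hr : r.Prime) (hpr : p < r) (Q : Subgroup G) (hQ : IsPGroup p Q) (g : G)
    (hg : orderOf g = r ^ a) (hgQ : g ∈ Subgroup.normalizer (Q : Set G)) (y : G) (hy : y ∈ Q) :
    g * y = y * g := by
  haveI : Fact p.Prime := ⟨hp⟩
  obtain ⟨b, hb⟩ : ∃ b : ℕ, orderOf y = p ^ b := by
    obtain ⟨k, hk⟩ := (IsPGroup.iff_orderOf.mp hQ) ⟨y, hy⟩
    exact ⟨k, by rw [← hk, Subgroup.orderOf_mk]⟩
  set S := Subgroup.zpowers g ⊔ Subgroup.zpowers (y * g * y⁻¹) with hS
  have hSdvd : ¬ p ^ 2 ∣ Nat.card S := h r p hr hp (Nat.ne_of_gt hpr) g y ⟨a, hg⟩ ⟨b, hb⟩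
  have hgS : g ∈ S := (le_sup_left : Subgroup.zpowers g ≤ S) (Subgroup.mem_zpowers g)
  have hgS' : y * g * y⁻¹ ∈ S :=
    (le_sup_right : Subgroup.zpowers (y * g * y⁻¹) ≤ S) (Subgroup.mem_zpowers _)
  set c := g * y * g⁻¹ * y⁻¹ with hcdef
  have hcS : c ∈ S := by
    have : c = g * (y * g * y⁻¹)⁻¹ := by rw [hcdef]; group
    rw [this]; exact S.mul_mem hgS (S.inv_mem hgS')
  have hnorm : ∀ x, x ∈ Q → g * x * g⁻¹ ∈ Q := fun x hx =>
    (Subgroup.mem_normalizer_iff.mp hgQ x).mp hx
  have hcQ : c ∈ Q := Q.mul_mem (hnorm y hy) (Q.inv_mem hy)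
  set T := S ⊓ Q with hT
  have hcT : c ∈ T := ⟨hcS, hcQ⟩
  have hTp : IsPGroup p T := hQ.to_le inf_le_right
  obtain ⟨t, ht⟩ := IsPGroup.iff_card.mp hTp
  have htle : t ≤ 1 := by
    by_contra hlt
    rw [not_le] at hlt
    apply hSdvd
    have h1 : p ^ 2 ∣ p ^ t := pow_dvd_pow p hlt
    have h2 : Nat.card T ∣ Nat.card S := Subgroup.card_dvd_of_le inf_le_left
    rw [ht] at h2
    exact h1.trans h2
  have hgc : g * c = c * g := by
    by_cases hc1 : c = 1
    · rw [hc1]; simp
    · have hoc : orderOf c = p := by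
        have h1 : orderOf c ∣ Nat.card T := by
          have := orderOf_dvd_natCard (⟨c, hcT⟩ : T)
          rwa [Subgroup.orderOf_mk] at this
        rw [ht] at h1
        have h2 : orderOf c ∣ p := by
          refine h1.trans ?_
          calc p ^ t ∣ p ^ 1 := pow_dvd_pow p htle
            _ = p := pow_one p
        rcases (Nat.dvd_prime hp).mp h2 with h3 | h3
        · exact absurd (orderOf_eq_one_iff.mp h3) hc1
        · exact h3
      have hTc : T = Subgroup.zpowers c := by
        symm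
        apply Subgroup.eq_of_le_of_card_ge (Subgroup.zpowers_le.mpr hcT)
        rw [Nat.card_zpowers, hoc, ht]
        calc p ^ t ≤ p ^ 1 := Nat.pow_le_pow_right hp.pos htle
          _ = p := pow_one p
      apply comm_of_conj_mem_zpowers p r a hp hr hpr g c hg hoc
      rw [← hTc]
      exact ⟨S.mul_mem (S.mul_mem hgS hcS) (S.inv_mem hgS), hnorm c hcQ⟩
  have hcop : (orderOf g).Coprime (orderOf c) := by
    obtain ⟨k, hk⟩ := (IsPGroup.iff_orderOf.mp hQ) ⟨c, hcQ⟩
    rw [Subgroup.orderOf_mk] at hk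
    rw [hg, hk]
    apply Nat.Coprime.pow
    rw [Nat.coprime_primes hr hp]
    exact Nat.ne_of_gt hpr
  have hc1 : c = 1 :=
    eq_one_of_conj_comm g y c (by rw [hcdef]; group) hgc hcop
  have : g * y * g⁻¹ = y := by
    have : g * y * g⁻¹ = c * y := by rw [hcdef]; group
    rw [this, hc1, one_mul]
  calc g * y = g * y * g⁻¹ * g := by group
    _ = y * g := by rw [this]

/-- under `Hyp`, for the least prime divisor `p` of the order there is a normal `p`-complement. -/
theorem exists_normal_complement {G : Type*} [Group G] [Finite G] (h : Hyp G) (p : ℕ)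
    [Fact p.Prime] (hmin : ∀ r : ℕ, r.Prime → r ∣ Nat.card G → p ≤ r) (P : Sylow p G) :
    ∃ N : Subgroup G, N.Normal ∧ N.IsComplement' (P : Subgroup G) := by
  have hp : p.Prime := Fact.out
  rw [Cfsg.Agent.S0071.result P]
  intro Q hQP g hg hcop
  have hQp : IsPGroup p Q := P.2.to_le hQP
  have : Subgroup.zpowers g ≤ Subgroup.centralizer (Q : Set G) ⊓ Subgroup.normalizer (Q : Set G) := by
    apply le_of_primePow'
    intro x hx r j hr hxo
    have hxn : x ∈ Subgroup.normalizer (Q : Set G) :=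
      (Subgroup.zpowers_le.mpr hg) hx
    suffices hxc : x ∈ Subgroup.centralizer (Q : Set G) from ⟨hxc, hxn⟩
    by_cases hj : j = 0
    · rw [hj, pow_zero, orderOf_eq_one_iff] at hxo
      rw [hxo]; exact Subgroup.one_mem _
    · have hrx : r ∣ orderOf x := by rw [hxo]; exact dvd_pow_self r hj
      have hrg : r ∣ orderOf g := hrx.trans (orderOf_dvd_of_mem_zpowers hx)
      have hrG : r ∣ Nat.card G := hrg.trans (orderOf_dvd_natCard g)
      have hpr : p ≤ r := hmin r hr hrG
      have hne : p ≠ r := by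
        rintro rfl
        have : p ∣ 1 := by
          have := Nat.dvd_gcd hrg (dvd_refl p)
          rwa [Nat.Coprime.gcd_eq_one hcop] at this
        exact hp.one_lt.ne' (Nat.dvd_one.mp this)
      have hlt : p < r := lt_of_le_of_ne hpr hne
      rw [Subgroup.mem_centralizer_iff]
      intro y hy
      exact (centralizes_of_hyp h p r j hp hr hlt Q hQp x hxo hxn y hy).symm
  exact (this (Subgroup.mem_zpowers g)).1

end Cfsg.Agent.Lib.Helper15.SSq
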