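import Mathlib
import Cfsg.Agent.Lib.Helper15.SSqB

set_option autoImplicit false

namespace Cfsg.Agent.Lib.Helper15.SSq

variable {G : Type*} [Group G] [Finite G]

/-- `N` is an elementary abelian `q`-group -/
structure EA (N : Subgroup G) (q : ℕ) : Prop where
  pow : ∀ n ∈ N, n ^ q = 1
  comm : ∀ a ∈ N, ∀ b ∈ N, a * b = b * a

/-- `g` acts on `W` by the `k`-th power map -/
def PowOn (g : G) (W : Subgroup G) (k : ℕ) : Prop := ∀ w ∈ W, g * w * g⁻¹ = w ^ k

theorem PowOn.pow {g : G} {W : Subgroup G} {k : ℕ} (h : PowOn g W k) (j : ℕ) :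
    PowOn (g ^ j) W (k ^ j) := by
  intro w hw
  exact conj_pow_eq_pow_pow g w k (h w hw) j

theorem PowOn.mono {g : G} {W W' : Subgroup G} {k : ℕ} (h : PowOn g W k) (hle : W' ≤ W) :
    PowOn g W' k := fun w hw => h w (hle hw)

section EAlemmas
variable {N : Subgroup G} {q : ℕ} [hq : Fact q.Prime] (hE : EA N q)
include hE

theorem EA.orderOf_dvd {w : G} (hw : w ∈ N) : orderOf w ∣ q :=
  orderOf_dvd_of_pow_eq_one (hE.pow w hw)

theorem EA.orderOf_eq {w : G} (hw : w ∈ N) (h1 : w ≠ 1) : orderOf w = q := by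
  rcases (Nat.dvd_prime hq.out).mp (hE.orderOf_dvd hw) with h | h
  · exact absurd (orderOf_eq_one_iff.mp h) h1
  · exact h

theorem EA.pow_congr {w : G} (hw : w ∈ N) {a b : ℕ} (h : a ≡ b [MOD q]) : w ^ a = w ^ b := by
  rw [pow_eq_pow_iff_modEq]
  exact h.of_dvd (hE.orderOf_dvd hw)

theorem EA.modEq_of_pow_eq {w : G} (hw : w ∈ N) (h1 : w ≠ 1) {a b : ℕ} (h : w ^ a = w ^ b) :
    a ≡ b [MOD q] := by
  rw [pow_eq_pow_iff_modEq, hE.orderOf_eq hw h1] at h
  exact h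

theorem EA.pow_fix_dichotomy (W : Subgroup G) (hW : W ≤ N) (k : ℕ) :
    (∀ w ∈ W, w ^ k = w) ∨ (∀ w ∈ W, w ^ k = w → w = 1) := by
  by_cases h : ∃ w ∈ W, w ≠ 1 ∧ w ^ k = w
  · left
    obtain ⟨w₀, hw₀, h1, h2⟩ := h
    have : k ≡ 1 [MOD q] := hE.modEq_of_pow_eq (hW hw₀) h1 (by rw [pow_one]; exact h2)
    intro w hw
    have := hE.pow_congr (hW hw) this
    rwa [pow_one] at this
  · right
    intro w hw hwk
    by_contra h1
    exact h ⟨w, hw, h1, hwk⟩

/-- two elements of `N` generating distinct subgroups meet trivially -/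
theorem EA.zpowers_inf {w₀ w : G} (hw₀ : w₀ ∈ N) (hw : w ∈ N) (h : w ∉ Subgroup.zpowers w₀)
    {x : G} (hx₀ : x ∈ Subgroup.zpowers w₀) (hx : x ∈ Subgroup.zpowers w) : x = 1 := by
  by_contra hx1
  have hxN : x ∈ N := (Subgroup.zpowers_le.mpr hw₀) hx₀
  have hw1 : w ≠ 1 := by
    rintro rfl
    exact h (Subgroup.one_mem _)
  have hw01 : w₀ ≠ 1 := by
    rintro rfl
    rw [Subgroup.zpowers_one_eq_bot, Subgroup.mem_bot] at hx₀
    exact hx1 hx₀
  have e1 : Subgroup.zpowers x = Subgroup.zpowers w₀ := by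
    apply Subgroup.eq_of_le_of_card_ge (Subgroup.zpowers_le.mpr hx₀)
    rw [Nat.card_zpowers, Nat.card_zpowers, hE.orderOf_eq hxN hx1, hE.orderOf_eq hw₀ hw01]
  have e2 : Subgroup.zpowers x = Subgroup.zpowers w := by
    apply Subgroup.eq_of_le_of_card_ge (Subgroup.zpowers_le.mpr hx)
    rw [Nat.card_zpowers, Nat.card_zpowers, hE.orderOf_eq hxN hx1, hE.orderOf_eq hw hw1]
  apply h
  rw [← e1, e2]
  exact Subgroup.mem_zpowers w

end EAlemmas

end Cfsg.Agent.Lib.Helper15.SSq
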