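import Mathlib
import Cfsg.Agent.Lib.Helper15.SSqC

set_option autoImplicit false
set_option linter.unusedSectionVars false

namespace Cfsg.Agent.Lib.Helper15.SSq

variable {G : Type*} [Group G] [Finite G]

/-- `g` acts on `N` as a universal power map -/
def Scal (N : Subgroup G) (g : G) : Prop := ∃ k : ℕ, PowOn g N k

theorem Scal.mul {N : Subgroup G} {g g' : G} (h : Scal N g) (h' : Scal N g') : Scal N (g * g') := by
  obtain ⟨k, hk⟩ := h
  obtain ⟨k', hk'⟩ := h'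
  refine ⟨k * k', fun n hn => ?_⟩
  have : g * g' * n * (g * g')⁻¹ = g * (g' * n * g'⁻¹) * g⁻¹ := by group
  rw [this, hk' n hn, ← conj_pow, hk n hn, pow_mul]

theorem Scal.one (N : Subgroup G) : Scal N (1 : G) := ⟨1, fun n _ => by simp⟩

theorem Scal.pow {N : Subgroup G} {g : G} (h : Scal N g) (j : ℕ) : Scal N (g ^ j) := by
  obtain ⟨k, hk⟩ := h
  exact ⟨k ^ j, hk.pow j⟩

theorem Scal.inv {N : Subgroup G} {g : G} (h : Scal N g) : Scal N g⁻¹ := by
  have : g⁻¹ = g ^ (orderOf g - 1) := by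
    rw [eq_comm, ← mul_eq_one_iff_eq_inv', ← pow_succ']
    rw [Nat.sub_add_cancel (orderOf_pos g), pow_orderOf_eq_one]
  rw [this]
  exact h.pow _

/-- the subgroup of elements acting on `N` as universal power maps -/
def Zs (N : Subgroup G) : Subgroup G where
  carrier := {g | Scal N g}
  mul_mem' := fun h h' => h.mul h'
  one_mem' := Scal.one N
  inv_mem' := fun h => h.inv

theorem mem_Zs {N : Subgroup G} {g : G} : g ∈ Zs N ↔ Scal N g := Iff.rfl

/-- fixed points of `x` on `N` -/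
def W1 (N : Subgroup G) (x : G) : Subgroup G := N ⊓ Subgroup.centralizer {x}

theorem mem_W1 {N : Subgroup G} {x w : G} : w ∈ W1 N x ↔ w ∈ N ∧ x * w * x⁻¹ = w := by
  unfold W1
  rw [Subgroup.mem_inf, Subgroup.mem_centralizer_singleton_iff]
  constructor
  · rintro ⟨h1, h2⟩
    exact ⟨h1, by rw [← h2, mul_inv_cancel_right]⟩
  · rintro ⟨h1, h2⟩
    refine ⟨h1, ?_⟩
    calc w * x = (x * w * x⁻¹) * x := by rw [h2]
      _ = x * w := by group

/-- the commutator map -/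
def phi (x n : G) : G := x * n * x⁻¹ * n⁻¹

section
variable {N : Subgroup G} [hN : N.Normal] {q : ℕ} [hq : Fact q.Prime] (hE : EA N q)
include hE hN

theorem conj_mem (x : G) {n : G} (hn : n ∈ N) : x * n * x⁻¹ ∈ N := hN.conj_mem n hn x

theorem phi_mem (x : G) {n : G} (hn : n ∈ N) : phi x n ∈ N :=
  N.mul_mem (hN.conj_mem n hn x) (N.inv_mem hn)

omit hq in
theorem phi_mul (x : G) {n m : G} (hn : n ∈ N) (hm : m ∈ N) :
    phi x (n * m) = phi x n * phi x m := by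
  unfold phi
  have h1 : n⁻¹ * (x * m * x⁻¹) = (x * m * x⁻¹) * n⁻¹ :=
    hE.comm _ (N.inv_mem hn) _ (hN.conj_mem m hm x)
  have h2 : n⁻¹ * m⁻¹ = m⁻¹ * n⁻¹ := hE.comm _ (N.inv_mem hn) _ (N.inv_mem hm)
  calc x * (n * m) * x⁻¹ * (n * m)⁻¹
      = x * n * x⁻¹ * ((x * m * x⁻¹) * n⁻¹) * m⁻¹ := by
        rw [mul_inv_rev, ← h2]; group
    _ = x * n * x⁻¹ * (n⁻¹ * (x * m * x⁻¹)) * m⁻¹ := by rw [h1]
    _ = x * n * x⁻¹ * n⁻¹ * (x * m * x⁻¹ * m⁻¹) := by group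

omit hq in
theorem phi_inv (x : G) {n : G} (hn : n ∈ N) : phi x n⁻¹ = (phi x n)⁻¹ := by
  have h := phi_mul hE x hn (N.inv_mem hn)
  have h1 : phi x (n * n⁻¹) = 1 := by unfold phi; simp
  rw [h1] at h
  exact eq_inv_of_mul_eq_one_right h.symm

/-- the image of the commutator map, as a subgroup -/
def W2 (hE : EA N q) (x : G) : Subgroup G where
  carrier := {c | ∃ n ∈ N, c = phi x n}
  mul_mem' := by
    rintro a b ⟨n, hn, rfl⟩ ⟨m, hm, rfl⟩
    exact ⟨n * m, N.mul_mem hn hm, (phi_mul hE x hn hm).symm⟩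
  one_mem' := ⟨1, N.one_mem, by unfold phi; simp⟩
  inv_mem' := by
    rintro a ⟨n, hn, rfl⟩
    exact ⟨n⁻¹, N.inv_mem hn, (phi_inv hE x hn).symm⟩

theorem mem_W2 {x c : G} : c ∈ W2 hE x ↔ ∃ n ∈ N, c = phi x n := Iff.rfl

theorem W2_le (x : G) : W2 hE x ≤ N := by
  rintro c ⟨n, hn, rfl⟩
  exact phi_mem hE x hn

theorem W1_le (x : G) : W1 N x ≤ N := inf_le_left

omit hq hE hN in
theorem phi_eq_one_iff {x n : G} : phi x n = 1 ↔ x * n * x⁻¹ = n := by
  unfold phi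
  rw [mul_inv_eq_one]

/-- `x` acts on `N` with `r`-power order -/
def RAct (N : Subgroup G) (r : ℕ) (x : G) : Prop :=
  ∃ a : ℕ, ∀ n ∈ N, x ^ (r ^ a) * n * (x ^ (r ^ a))⁻¹ = n

/-- F1 : fixed points and commutators meet trivially -/
theorem W1_inf_W2 {r : ℕ} (hr : r.Prime) (hrq : r ≠ q) {x : G} (hx : RAct N r x) {w : G}
    (h1 : w ∈ W1 N x) (h2 : w ∈ W2 hE x) : w = 1 := by
  obtain ⟨a, ha⟩ := hx
  obtain ⟨n, hn, rfl⟩ := h2
  rw [mem_W1] at h1
  have hc : x * phi x n = phi x n * x := by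
    calc x * phi x n = x * phi x n * x⁻¹ * x := by group
      _ = phi x n * x := by rw [h1.2]
  have h3 := conj_pow_of_comm x n (phi x n) (by unfold phi; group) hc (r ^ a)
  rw [ha n hn] at h3
  have h4 : (phi x n) ^ (r ^ a) = 1 := by
    have := congrArg (· * n⁻¹) h3
    simpa using this.symm
  have h5 : orderOf (phi x n) ∣ r ^ a := orderOf_dvd_of_pow_eq_one h4
  have h6 : orderOf (phi x n) ∣ q := hE.orderOf_dvd h1.1
  have hcop : (r ^ a).Coprime q := by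
    apply Nat.Coprime.pow_left
    rw [Nat.coprime_primes hr hq.out]; exact hrq
  exact orderOf_eq_one_iff.mp (Nat.eq_one_of_dvd_coprimes hcop h5 h6)

/-- F2 : every element of `N` is a product of a fixed point and a commutator -/
theorem exists_decomp {r : ℕ} (hr : r.Prime) (hrq : r ≠ q) {x : G} (hx : RAct N r x) {n : G}
    (hn : n ∈ N) : ∃ w₁ ∈ W1 N x, ∃ w₂ ∈ W2 hE x, n = w₁ * w₂ := by
  let f : W2 hE x → W2 hE x := fun c => ⟨phi x c, ⟨c, W2_le hE x c.2, rfl⟩⟩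
  have hinj : Function.Injective f := by
    intro c c' hcc
    have h1 : phi x (c : G) = phi x (c' : G) := congrArg Subtype.val hcc
    have hcN := W2_le hE x c.2
    have hc'N := W2_le hE x c'.2
    have h2 : phi x ((c : G) * (c' : G)⁻¹) = 1 := by
      rw [phi_mul hE x hcN (N.inv_mem hc'N), phi_inv hE x hc'N, h1, mul_inv_cancel]
    have h3 : (c : G) * (c' : G)⁻¹ ∈ W1 N x :=
      mem_W1.mpr ⟨N.mul_mem hcN (N.inv_mem hc'N), phi_eq_one_iff.mp h2⟩
    have h4 : (c : G) * (c' : G)⁻¹ ∈ W2 hE x := (W2 hE x).mul_mem c.2 ((W2 hE x).inv_mem c'.2)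
    have h5 := W1_inf_W2 hE hr hrq hx h3 h4
    exact Subtype.ext (mul_inv_eq_one.mp h5)
  have hsurj : Function.Surjective f := Finite.injective_iff_surjective.mp hinj
  obtain ⟨w₂, hw₂⟩ := hsurj ⟨phi x n, ⟨n, hn, rfl⟩⟩
  have h1 : phi x (w₂ : G) = phi x n := congrArg Subtype.val hw₂
  have hw₂N := W2_le hE x w₂.2
  refine ⟨n * (w₂ : G)⁻¹, ?_, (w₂ : G), w₂.2, by group⟩
  rw [mem_W1]
  refine ⟨N.mul_mem hn (N.inv_mem hw₂N), ?_⟩
  rw [← phi_eq_one_iff, phi_mul hE x hn (N.inv_mem hw₂N), phi_inv hE x hw₂N, h1, mul_inv_cancel]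

/-- L3 : an automorphism normalizing every cyclic subgroup of `W ≤ N` is a universal power. -/
theorem exists_powOn (W : Subgroup G) (hW : W ≤ N) (g : G)
    (h : ∀ w ∈ W, g * w * g⁻¹ ∈ Subgroup.zpowers w) : ∃ k : ℕ, PowOn g W k := by
  have hpow : ∀ w ∈ W, ∃ k : ℕ, g * w * g⁻¹ = w ^ k := by
    intro w hw
    have := (mem_powers_iff_mem_zpowers (x := w)).mpr (h w hw)
    obtain ⟨k, hk⟩ := (Submonoid.mem_powers_iff _ _).mp this
    exact ⟨k, hk.symm⟩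
  by_cases hbot : ∀ w ∈ W, w = 1
  · exact ⟨1, fun w hw => by rw [hbot w hw]; simp⟩
  · push Not at hbot
    obtain ⟨w₀, hw₀, hw₀1⟩ := hbot
    obtain ⟨k, hk⟩ := hpow w₀ hw₀
    refine ⟨k, fun w hw => ?_⟩
    by_cases hwz : w ∈ Subgroup.zpowers w₀
    · have := (mem_powers_iff_mem_zpowers (x := w₀)).mpr hwz
      obtain ⟨i, hi⟩ := (Submonoid.mem_powers_iff _ _).mp this
      rw [← hi, ← conj_pow, hk, ← pow_mul, ← pow_mul, mul_comm]
    · obtain ⟨a, ha⟩ := hpow w hw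
      obtain ⟨b, hb⟩ := hpow (w₀ * w) (W.mul_mem hw₀ hw)
      have hcomm : Commute w₀ w := hE.comm _ (hW hw₀) _ (hW hw)
      have h1 : g * (w₀ * w) * g⁻¹ = (g * w₀ * g⁻¹) * (g * w * g⁻¹) := by group
      rw [h1, hk, ha, hcomm.mul_pow] at hb
      -- w₀^k * w^a = w₀^b * w^b
      have h2 : (w₀ ^ b)⁻¹ * w₀ ^ k = w ^ b * (w ^ a)⁻¹ := by
        rw [inv_mul_eq_iff_eq_mul, ← mul_assoc, eq_mul_inv_iff_mul_eq]
        exact hb
      have h3 : (w₀ ^ b)⁻¹ * w₀ ^ k ∈ Subgroup.zpowers w₀ :=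
        (Subgroup.zpowers w₀).mul_mem ((Subgroup.zpowers w₀).inv_mem (Subgroup.npow_mem_zpowers _ _))
          (Subgroup.npow_mem_zpowers _ _)
      have h4 : (w₀ ^ b)⁻¹ * w₀ ^ k ∈ Subgroup.zpowers w := by
        rw [h2]
        exact (Subgroup.zpowers w).mul_mem (Subgroup.npow_mem_zpowers _ _)
          ((Subgroup.zpowers w).inv_mem (Subgroup.npow_mem_zpowers _ _))
      have h5 := hE.zpowers_inf (hW hw₀) (hW hw) hwz h3 h4
      have h6 : w₀ ^ k = w₀ ^ b := by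
        rw [inv_mul_eq_one] at h5; exact h5.symm
      have h7 : w ^ b * (w ^ a)⁻¹ = 1 := by rw [← h2, h5]
      have h8 : w ^ b = w ^ a := mul_inv_eq_one.mp h7
      have h9 : k ≡ b [MOD q] := hE.modEq_of_pow_eq (hW hw₀) hw₀1 h6
      rw [ha, ← h8]
      exact hE.pow_congr (hW hw) h9.symm

end

end Cfsg.Agent.Lib.Helper15.SSq
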