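import Mathlib
import Cfsg.Agent.Lib.Helper15.SSqD

set_option autoImplicit false
set_option linter.unusedSectionVars false

namespace Cfsg.Agent.Lib.Helper15.SSq

variable {G : Type*} [Group G] [Finite G]

/-- `g` centralizes `N` -/
def TrivOn (N : Subgroup G) (g : G) : Prop := ∀ n ∈ N, g * n * g⁻¹ = n

theorem TrivOn.pow {N : Subgroup G} {g : G} (h : TrivOn N g) (j : ℕ) : TrivOn N (g ^ j) := by
  intro n hn
  have h1 : g * n * g⁻¹ = n ^ 1 := by rw [pow_one]; exact h n hn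
  have := conj_pow_eq_pow_pow g n 1 h1 j
  rw [this, one_pow, pow_one]

theorem TrivOn.scal {N : Subgroup G} {g : G} (h : TrivOn N g) : Scal N g :=
  ⟨1, fun n hn => by rw [pow_one]; exact h n hn⟩

theorem RAct.of_orderOf {N : Subgroup G} {r a : ℕ} {x : G} (h : orderOf x = r ^ a) :
    RAct N r x := by
  refine ⟨a, fun n _ => ?_⟩
  rw [← h, pow_orderOf_eq_one]; simp

/-- Fact E as a hypothesis -/
def HE (N : Subgroup G) (q : ℕ) : Prop :=
  ∀ (r : ℕ), r.Prime → r ≠ q → ∀ x : G, (∃ a : ℕ, orderOf x = r ^ a) → ∀ n ∈ N,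
    x * phi x n * x⁻¹ ∈ Subgroup.zpowers (phi x n)

section
variable {N : Subgroup G} [hN : N.Normal] {q : ℕ} [hq : Fact q.Prime] (hE : EA N q)
include hE hN

/-- Fact E⁺ : elements acting with `r`-power order act on their commutator subgroup by a
universal power. -/
theorem exists_powOn_W2 (hHE : HE N q) {r : ℕ} (hr : r.Prime) (hrq : r ≠ q) {x : G}
    (hx : RAct N r x) : ∃ k : ℕ, PowOn x (W2 hE x) k := by
  obtain ⟨A, hA⟩ := hx
  obtain ⟨a, b, ha, hb, hab, ⟨k, hak⟩, hbc⟩ := Cfsg.Agent.Lib.Helper2.exists_p_decomp x r hr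
  obtain ⟨j, -, hj⟩ := (Nat.dvd_prime_pow hr).1 hak
  -- b acts trivially
  have hbtriv : TrivOn N b := by
    have h1 : ∃ i : ℕ, x ^ i = b := by
      have := (mem_powers_iff_mem_zpowers (x := x)).mpr hb
      exact (Submonoid.mem_powers_iff _ _).mp this
    obtain ⟨i, hi⟩ := h1
    have h2 : TrivOn N (b ^ (r ^ A)) := by
      have : b ^ (r ^ A) = (x ^ (r ^ A)) ^ i := by
        rw [← hi, ← pow_mul, ← pow_mul, mul_comm]
      rw [this]
      exact TrivOn.pow hA i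
    have hcop : (r ^ A).Coprime (orderOf b) := (hbc.symm.pow_left A)
    obtain ⟨m, hm⟩ := exists_pow_eq_self_of_coprime hcop
    rw [← hm]
    exact h2.pow m
  have hconj : ∀ n ∈ N, x * n * x⁻¹ = a * n * a⁻¹ := by
    intro n hn
    have : x * n * x⁻¹ = a * (b * n * b⁻¹) * a⁻¹ := by rw [hab]; group
    rw [this, hbtriv n hn]
  have hphi : ∀ n ∈ N, phi x n = phi a n := by
    intro n hn
    unfold phi
    rw [hconj n hn]
  apply exists_powOn hE (W2 hE x) (W2_le hE x) x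
  rintro w ⟨n, hn, rfl⟩
  have h1 := hHE r hr hrq a ⟨j, hj⟩ n hn
  rw [hconj _ (phi_mem hE x hn), hphi n hn]
  exact h1

/-- an element of `N` moved by a nontrivial power lies in the commutator subgroup -/
theorem mem_W2_of_pow {x u : G} {κ : ℕ} (hu : u ∈ N) (hu1 : u ≠ 1) (h : x * u * x⁻¹ = u ^ κ)
    (hκ : ¬ κ ≡ 1 [MOD q]) : u ∈ W2 hE x := by
  set v := phi x u with hv
  have hvW : v ∈ W2 hE x := ⟨u, hu, rfl⟩
  have hvz : v ∈ Subgroup.zpowers u := by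
    have : v = u ^ κ * u⁻¹ := by rw [hv]; unfold phi; rw [h]
    rw [this]
    exact (Subgroup.zpowers u).mul_mem (Subgroup.npow_mem_zpowers _ _)
      ((Subgroup.zpowers u).inv_mem (Subgroup.mem_zpowers u))
  have hv1 : v ≠ 1 := by
    intro h1
    rw [hv, phi_eq_one_iff, h] at h1
    apply hκ
    exact hE.modEq_of_pow_eq hu hu1 (by rw [pow_one]; exact h1)
  have hvN : v ∈ N := W2_le hE x hvW
  have e1 : Subgroup.zpowers v = Subgroup.zpowers u := by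
    apply Subgroup.eq_of_le_of_card_ge (Subgroup.zpowers_le.mpr hvz)
    rw [Nat.card_zpowers, Nat.card_zpowers, hE.orderOf_eq hvN hv1, hE.orderOf_eq hu hu1]
  have : u ∈ Subgroup.zpowers v := by rw [e1]; exact Subgroup.mem_zpowers u
  exact (Subgroup.zpowers_le.mpr hvW) this

/-- the principle: an element acting with `r`-power order has at most one nontrivial
"eigenvalue". -/
theorem principle (hHE : HE N q) {r : ℕ} (hr : r.Prime) (hrq : r ≠ q) {x : G}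
    (hx : RAct N r x) {u₁ u₂ : G} {κ₁ κ₂ : ℕ} (hu₁ : u₁ ∈ N) (hu₁1 : u₁ ≠ 1)
    (hu₂ : u₂ ∈ N) (hu₂1 : u₂ ≠ 1) (h₁ : x * u₁ * x⁻¹ = u₁ ^ κ₁) (h₂ : x * u₂ * x⁻¹ = u₂ ^ κ₂)
    (hκ₁ : ¬ κ₁ ≡ 1 [MOD q]) (hκ₂ : ¬ κ₂ ≡ 1 [MOD q]) : κ₁ ≡ κ₂ [MOD q] := by
  obtain ⟨k, hk⟩ := exists_powOn_W2 hE hHE hr hrq hx
  have m₁ := mem_W2_of_pow hE hu₁ hu₁1 h₁ hκ₁
  have m₂ := mem_W2_of_pow hE hu₂ hu₂1 h₂ hκ₂
  have e₁ : κ₁ ≡ k [MOD q] := hE.modEq_of_pow_eq hu₁ hu₁1 (by rw [← h₁, hk u₁ m₁])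
  have e₂ : κ₂ ≡ k [MOD q] := hE.modEq_of_pow_eq hu₂ hu₂1 (by rw [← h₂, hk u₂ m₂])
  exact e₁.trans e₂.symm

end

end Cfsg.Agent.Lib.Helper15.SSq
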