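import Mathlib
import Cfsg.Agent.Lib.Helper15.SSqE
import Cfsg.Agent.Lib.Helper17.Supersolvable

set_option autoImplicit false
set_option linter.unusedSectionVars false

namespace Cfsg.Agent.Lib.Helper15.SSq

open Cfsg.Agent.Lib.Helper17 in
theorem chain_split {G : Type*} [Group G] {A B Z : Subgroup G} (h : SSChain A B) (hA : A ≤ Z)
    (hB : ¬ B ≤ Z) :
    ∃ (B' : Subgroup G) (b : G), B'.Normal ∧ B' ≤ Z ∧ b ∉ Z ∧
      (B' ⊔ Subgroup.zpowers b).Normal := by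
  induction h with
  | refl hA' => exact absurd hA hB
  | @step B g hAB hn ih =>
    by_cases hBZ : B ≤ Z
    · refine ⟨B, g, hAB.normal_right, hBZ, ?_, hn⟩
      intro hg
      exact hB (sup_le hBZ (Subgroup.zpowers_le.mpr hg))
    · exact ih hBZ

variable {G : Type*} [Group G] [Finite G]

theorem conj_mul_pow {N : Subgroup G} [hN : N.Normal] {z t : G} {k : ℕ}
    (hz : ∀ n ∈ N, z * n * z⁻¹ = n ^ k) (e : ℕ) :
    ∀ n ∈ N, (z * t) ^ e * n * ((z * t) ^ e)⁻¹ = (t ^ e * n * (t ^ e)⁻¹) ^ (k ^ e) := by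
  induction e with
  | zero => intro n hn; simp
  | succ e ih =>
    intro n hn
    have h1 : (z * t) ^ (e + 1) * n * ((z * t) ^ (e + 1))⁻¹
        = z * (t * ((z * t) ^ e * n * ((z * t) ^ e)⁻¹) * t⁻¹) * z⁻¹ := by
      rw [pow_succ', mul_inv_rev, mul_inv_rev]; simp only [mul_assoc]
    rw [h1, ih n hn]
    have h2 : t * (t ^ e * n * (t ^ e)⁻¹) ^ (k ^ e) * t⁻¹
        = (t ^ (e + 1) * n * (t ^ (e + 1))⁻¹) ^ (k ^ e) := by
      rw [← conj_pow]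
      congr 1
      rw [pow_succ', mul_inv_rev]; simp only [mul_assoc]
    rw [h2]
    have h3 : t ^ (e + 1) * n * (t ^ (e + 1))⁻¹ ∈ N := hN.conj_mem n hn _
    rw [hz _ (N.pow_mem h3 _), ← pow_mul, ← pow_succ]

theorem form_lemma {N : Subgroup G} [hN : N.Normal] {B' : Subgroup G} [hB'n : B'.Normal]
    (hB' : B' ≤ Zs N) {b : G} (hn : (B' ⊔ Subgroup.zpowers b).Normal) (e : ℕ) (h : G) :
    ∃ ζ j : ℕ, ∀ n ∈ N, (h * b ^ e * h⁻¹) * n * (h * b ^ e * h⁻¹)⁻¹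
      = ((b ^ e) ^ j * n * ((b ^ e) ^ j)⁻¹) ^ ζ := by
  have h1 : h * b * h⁻¹ ∈ B' ⊔ Subgroup.zpowers b :=
    hn.conj_mem b (Subgroup.mem_sup_right (Subgroup.mem_zpowers b)) h
  have h2 : h * b * h⁻¹ ∈ ((B' ⊔ Subgroup.zpowers b : Subgroup G) : Set G) := h1
  rw [Subgroup.normal_mul] at h2
  obtain ⟨z, hz, t, ht, hzt⟩ := Set.mem_mul.mp h2
  obtain ⟨k, hk⟩ := (mem_Zs).mp (hB' hz)
  obtain ⟨i, hi⟩ : ∃ i : ℕ, b ^ i = t :=
    (Submonoid.mem_powers_iff _ _).mp ((mem_powers_iff_mem_zpowers (x := b)).mpr ht)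
  refine ⟨k ^ e, i, fun n hn' => ?_⟩
  have h3 : h * b ^ e * h⁻¹ = (z * t) ^ e := by rw [hzt, conj_pow]
  rw [h3, conj_mul_pow hk e n hn', ← hi, ← pow_mul, ← pow_mul, mul_comm]

end Cfsg.Agent.Lib.Helper15.SSq
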