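import Mathlib
import Cfsg.Agent.Lib.Helper15.SSqF

set_option autoImplicit false
set_option linter.unusedSectionVars false

namespace Cfsg.Agent.Lib.Helper15.SSq

variable {G : Type*} [Group G] [Finite G]

theorem cmul (a b c : G) : a * (b * c) * a⁻¹ = (a * b * a⁻¹) * (a * c * a⁻¹) := by group

theorem cconj (a b n : G) : (a * b) * n * (a * b)⁻¹ = a * (b * n * b⁻¹) * a⁻¹ := by
  rw [mul_inv_rev]; simp only [mul_assoc]

theorem TrivOn.of_conj {N : Subgroup G} [hN : N.Normal] {h y : G}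
    (ht : TrivOn N (h * y * h⁻¹)) : TrivOn N y := by
  intro n hn
  have h1 := ht (h * n * h⁻¹) (hN.conj_mem n hn h)
  have h2 : y * n * y⁻¹ = h⁻¹ * ((h * y * h⁻¹) * (h * n * h⁻¹) * (h * y * h⁻¹)⁻¹) * h := by group
  rw [h2, h1]; group

theorem abel_id {A B C : G} {ν : ℕ} (hBC : B * C ^ ν = C ^ ν * B)
    (E : A * B⁻¹ = B ^ ν * (C ^ ν)⁻¹) : A * C ^ ν = B ^ (ν + 1) := by
  have hA : A = B ^ ν * (C ^ ν)⁻¹ * B := by rw [← E]; group
  calc A * C ^ ν = B ^ ν * (C ^ ν)⁻¹ * B * C ^ ν := by rw [hA]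
    _ = B ^ ν * ((C ^ ν)⁻¹ * (B * C ^ ν)) := by simp only [mul_assoc]
    _ = B ^ ν * ((C ^ ν)⁻¹ * (C ^ ν * B)) := by rw [hBC]
    _ = B ^ ν * B := by rw [inv_mul_cancel_left]
    _ = B ^ (ν + 1) := (pow_succ B ν).symm

section
variable {N : Subgroup G} [hN : N.Normal] {q : ℕ} [hq : Fact q.Prime] (hE : EA N q)
include hE hN

theorem decomp_unique {r : ℕ} (hr : r.Prime) (hrq : r ≠ q) {x : G} (hx : RAct N r x)
    {c c' d d' : G} (hc : c ∈ W1 N x) (hc' : c' ∈ W1 N x) (hd : d ∈ W2 hE x)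
    (hd' : d' ∈ W2 hE x) (h : c * d = c' * d') : c = c' ∧ d = d' := by
  have e1 : c'⁻¹ * c = d' * d⁻¹ := by
    have : c'⁻¹ * (c * d) * d⁻¹ = c'⁻¹ * (c' * d') * d⁻¹ := by rw [h]
    simpa [mul_assoc] using this
  have e2 : c'⁻¹ * c = 1 :=
    W1_inf_W2 hE hr hrq hx ((W1 N x).mul_mem ((W1 N x).inv_mem hc') hc)
      (e1 ▸ (W2 hE x).mul_mem hd' ((W2 hE x).inv_mem hd))
  have e3 : c' = c := inv_mul_eq_one.mp e2
  subst e3
  exact ⟨rfl, mul_left_cancel h⟩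

theorem act_formula {y g : G} {lam j ζ : ℕ} (hlam : PowOn y (W2 hE y) lam)
    (hg : ∀ n ∈ N, g * n * g⁻¹ = (y ^ j * n * (y ^ j)⁻¹) ^ ζ) :
    ∀ c ∈ W1 N y, ∀ d ∈ W2 hE y, g * (c * d) * g⁻¹ = c ^ ζ * d ^ (lam ^ j * ζ) := by
  intro c hc d hd
  have hc1 : y ^ j * c * (y ^ j)⁻¹ = c := by
    have := conj_pow_eq_pow_pow y c 1 (by rw [pow_one]; exact (mem_W1.mp hc).2) j
    rwa [one_pow, pow_one] at this
  have hd1 : y ^ j * d * (y ^ j)⁻¹ = d ^ (lam ^ j) := hlam.pow j d hd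
  rw [hg (c * d) (N.mul_mem (W1_le hE y hc) (W2_le hE y hd)), cmul, hc1, hd1]
  have hcomm : Commute c (d ^ (lam ^ j)) :=
    hE.comm c (W1_le hE y hc) _ (N.pow_mem (W2_le hE y hd) _)
  rw [hcomm.mul_pow, ← pow_mul]

theorem ract_diag {r : ℕ} (hr : r.Prime) (hrq : r ≠ q) {y : G} (hR : RAct N r y) {g : G}
    {α β A : ℕ} (h1 : PowOn g (W1 N y) α) (h2 : PowOn g (W2 hE y) β)
    (hα : α ^ (r ^ A) ≡ 1 [MOD q]) (hβ : β ^ (r ^ A) ≡ 1 [MOD q]) : RAct N r g := by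
  refine ⟨A, fun n hn => ?_⟩
  obtain ⟨c, hc, d, hd, rfl⟩ := exists_decomp hE hr hrq hR hn
  rw [cmul, (h1.pow _) c hc, (h2.pow _) d hd, hE.pow_congr (W1_le hE y hc) hα,
    hE.pow_congr (W2_le hE y hd) hβ, pow_one, pow_one]

/-- an element of `N` equal to its own inverse is trivial when `q` is odd -/
theorem eq_one_of_inv_eq (hq2 : 2 ≠ q) {n : G} (hn : n ∈ N) (h : n⁻¹ = n) : n = 1 := by
  have h1 : orderOf n ∣ 2 := by
    apply orderOf_dvd_of_pow_eq_one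
    rw [pow_two]
    nth_rewrite 1 [← h]
    exact inv_mul_cancel n
  have h2 : orderOf n ∣ q := hE.orderOf_dvd hn
  have hcop : Nat.Coprime 2 q := (Nat.coprime_primes Nat.prime_two hq.out).mpr hq2
  have := Nat.dvd_gcd h1 h2
  rw [hcop] at this
  exact orderOf_eq_one_iff.mp (Nat.dvd_one.mp this)

theorem pow_eq_inv {lam : ℕ} (hl : q ∣ lam + 1) {n : G} (hn : n ∈ N) : n ^ lam = n⁻¹ := by
  apply eq_inv_of_mul_eq_one_left
  rw [← pow_succ]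
  exact orderOf_dvd_iff_pow_eq_one.mp ((hE.orderOf_dvd hn).trans hl)

end

end Cfsg.Agent.Lib.Helper15.SSq
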