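import Mathlib
import Cfsg.Agent.Lib.Helper15.SSqG0

set_option autoImplicit false
set_option linter.unusedSectionVars false
set_option maxHeartbeats 1000000

namespace Cfsg.Agent.Lib.Helper15.SSq

variable {G : Type*} [Group G] [Finite G]

section
variable {N : Subgroup G} [hN : N.Normal] {q : ℕ} [hq : Fact q.Prime] (hE : EA N q)
include hE hN

theorem analysis (hHE : HE N q) {r : ℕ} (hr : r.Prime) (hrq : r ≠ q) {y : G} {a : ℕ}
    (hy : orderOf y = r ^ a) {lam : ℕ} (hlam : PowOn y (W2 hE y) lam)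
    (hlam1 : ¬ lam ≡ 1 [MOD q])
    {w₁ w₂ : G} (hw₁ : w₁ ∈ W1 N y) (hw₁1 : w₁ ≠ 1) (hw₂ : w₂ ∈ W2 hE y) (hw₂1 : w₂ ≠ 1)
    {h : G} {ζ j : ℕ}
    (hform : ∀ n ∈ N, (h * y * h⁻¹) * n * (h * y * h⁻¹)⁻¹ = (y ^ j * n * (y ^ j)⁻¹) ^ ζ)
    {w : G} (hw : w ∈ W1 N y) (hwh : h * w * h⁻¹ ∉ W1 N y) (hyS : ¬ Scal N y) :
    r = 2 ∧ q ∣ lam + 1 ∧ PowOn (h * y * h⁻¹) (W1 N y) lam ∧
      (∀ d ∈ W2 hE y, (h * y * h⁻¹) * d * (h * y * h⁻¹)⁻¹ = d) := by
  have hR : RAct N r y := RAct.of_orderOf hy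
  have hact := act_formula hE hlam hform
  have hu : (h * y * h⁻¹) * (h * w * h⁻¹) * (h * y * h⁻¹)⁻¹ = h * w * h⁻¹ := by
    have : (h * y * h⁻¹) * (h * w * h⁻¹) * (h * y * h⁻¹)⁻¹ = h * (y * w * y⁻¹) * h⁻¹ := by group
    rw [this, (mem_W1.mp hw).2]
  have huN : h * w * h⁻¹ ∈ N := hN.conj_mem w (W1_le hE y hw) h
  obtain ⟨c, hc, d, hd, hcd⟩ := exists_decomp hE hr hrq hR huN
  have hd1 : d ≠ 1 := by
    rintro rfl
    apply hwh; rw [hcd, mul_one]; exact hc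
  have h1 := hact c hc d hd
  rw [← hcd, hu, hcd] at h1
  obtain ⟨hc2, hd2⟩ := decomp_unique hE hr hrq hR hc ((W1 N y).pow_mem hc _) hd
    ((W2 hE y).pow_mem hd _) h1
  have hμ : lam ^ j * ζ ≡ 1 [MOD q] :=
    hE.modEq_of_pow_eq (W2_le hE y hd) hd1 (by rw [pow_one]; exact hd2.symm)
  have hy'1 : PowOn (h * y * h⁻¹) (W1 N y) ζ := by
    intro c' hc'
    have := hact c' hc' 1 (W2 hE y).one_mem
    simpa using this
  have hy'2 : ∀ d' ∈ W2 hE y, (h * y * h⁻¹) * d' * (h * y * h⁻¹)⁻¹ = d' := by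
    intro d' hd'
    have h3 := hact 1 (W1 N y).one_mem d' hd'
    rw [one_mul, one_pow, one_mul] at h3
    rw [h3]
    have := hE.pow_congr (W2_le hE y hd') hμ
    rwa [pow_one] at this
  have hζ : ¬ ζ ≡ 1 [MOD q] := by
    intro hζ1
    apply hyS
    apply TrivOn.scal
    apply TrivOn.of_conj (h := h)
    intro n hn
    obtain ⟨c', hc', d', hd', rfl⟩ := exists_decomp hE hr hrq hR hn
    rw [cmul, hy'1 c' hc', hy'2 d' hd']
    have := hE.pow_congr (W1_le hE y hc') hζ1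
    rw [this, pow_one]
  -- orders
  have hy'ord : (h * y * h⁻¹) ^ (r ^ a) = 1 := by
    rw [conj_pow, ← hy, pow_orderOf_eq_one]; simp
  have hw₁N : w₁ ∈ N := W1_le hE y hw₁
  have hw₂N : w₂ ∈ N := W2_le hE y hw₂
  have hζra : ζ ^ (r ^ a) ≡ 1 [MOD q] := by
    have := (hy'1.pow (r ^ a)) w₁ hw₁
    rw [hy'ord] at this
    apply hE.modEq_of_pow_eq hw₁N hw₁1
    rw [pow_one, ← this]; simp
  have hlra : lam ^ (r ^ a) ≡ 1 [MOD q] := by
    have := (hlam.pow (r ^ a)) w₂ hw₂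
    rw [← hy, pow_orderOf_eq_one] at this
    apply hE.modEq_of_pow_eq hw₂N hw₂1
    rw [pow_one, ← hy, ← this]; simp
  -- the elements y' * y^m
  have hx1 : ∀ m : ℕ, PowOn ((h * y * h⁻¹) * y ^ m) (W1 N y) ζ := by
    intro m c' hc'
    rw [cconj]
    have hc1 : y ^ m * c' * (y ^ m)⁻¹ = c' := by
      have := conj_pow_eq_pow_pow y c' 1 (by rw [pow_one]; exact (mem_W1.mp hc').2) m
      rwa [one_pow, pow_one] at this
    rw [hc1, hy'1 c' hc']
  have hx2 : ∀ m : ℕ, PowOn ((h * y * h⁻¹) * y ^ m) (W2 hE y) (lam ^ m) := by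
    intro m d' hd'
    rw [cconj, (hlam.pow m) d' hd', hy'2 _ ((W2 hE y).pow_mem hd' _)]
  have hRx : ∀ m : ℕ, RAct N r ((h * y * h⁻¹) * y ^ m) := by
    intro m
    apply ract_diag hE hr hrq hR (hx1 m) (hx2 m) hζra
    rw [← pow_mul, mul_comm, pow_mul]
    have := hlra.pow m
    rwa [one_pow] at this
  have key : ∀ m : ℕ, ¬ lam ^ m ≡ 1 [MOD q] → ζ ≡ lam ^ m [MOD q] := by
    intro m hm
    exact principle hE hHE hr hrq (hRx m) hw₁N hw₁1 hw₂N hw₂1 (hx1 m w₁ hw₁) (hx2 m w₂ hw₂) hζ hm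
  have k1 : ζ ≡ lam [MOD q] := by
    have := key 1 (by rwa [pow_one])
    rwa [pow_one] at this
  have hpos : 0 < r ^ a := Nat.pos_of_ne_zero (pow_ne_zero _ hr.ne_zero)
  have hsucc : lam ^ (r ^ a - 1) * lam = lam ^ (r ^ a) := by
    rw [← pow_succ, Nat.sub_add_cancel hpos]
  have k2 : ζ ≡ lam ^ (r ^ a - 1) [MOD q] := by
    apply key
    intro hcon
    apply hlam1
    have h5 : lam ^ (r ^ a - 1) * lam ≡ 1 * lam [MOD q] := hcon.mul_right lam
    rw [hsucc, one_mul] at h5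
    exact h5.symm.trans hlra
  have hsq : lam * lam ≡ 1 [MOD q] := by
    have h5 : lam * lam ≡ lam ^ (r ^ a - 1) * lam [MOD q] := (k1.symm.trans k2).mul_right lam
    rw [hsucc] at h5
    exact h5.trans hlra
  have hr2 : r = 2 := by
    by_contra hne
    have hodd : Odd (r ^ a) := (hr.eq_two_or_odd'.resolve_left hne).pow
    obtain ⟨t, ht⟩ := hodd
    apply hlam1
    have h5 : lam ^ (r ^ a) ≡ lam [MOD q] := by
      rw [ht, pow_succ, pow_mul, pow_two]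
      have := (hsq.pow t).mul_right lam
      rwa [one_pow, one_mul] at this
    exact h5.symm.trans hlra
  have hdvd : q ∣ lam + 1 := by
    have hz : ((lam : ZMod q)) * lam = 1 := by
      have := (ZMod.natCast_eq_natCast_iff _ _ q).mpr hsq
      push_cast at this
      exact this
    have hz1 : (lam : ZMod q) ≠ 1 := fun hh =>
      hlam1 ((ZMod.natCast_eq_natCast_iff _ _ q).mp (by push_cast; exact hh))
    have hz2 : ((lam : ZMod q) - 1) * ((lam : ZMod q) + 1) = 0 := by linear_combination hz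
    rcases mul_eq_zero.mp hz2 with h6 | h6
    · exact absurd (sub_eq_zero.mp h6) hz1
    · rw [← ZMod.natCast_eq_zero_iff]
      push_cast
      exact h6
  refine ⟨hr2, hdvd, ?_, hy'2⟩
  intro c' hc'
  rw [hy'1 c' hc']
  exact hE.pow_congr (W1_le hE y hc') k1

end

end Cfsg.Agent.Lib.Helper15.SSq
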