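import Mathlib
import Cfsg.Agent.Lib.Helper15.SSqG0

set_option autoImplicit false
set_option linter.unusedSectionVars false
set_option maxHeartbeats 1000000

namespace Cfsg.Agent.Lib.Helper15.SSq

variable {G : Type*} [Group G] [Finite G]

section
variable {N : Subgroup G} [hN : N.Normal] {q : ℕ} [hq : Fact q.Prime] (hE : EA N q)
include hE hN

theorem final (hHE : HE N q) (hq2 : 2 ≠ q) {y : G} {a : ℕ}
    (hy : orderOf y = 2 ^ a) {lam : ℕ} (hlam : PowOn y (W2 hE y) lam) (hl : q ∣ lam + 1)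
    {h : G} (hy'1 : PowOn (h * y * h⁻¹) (W1 N y) lam)
    (hy'2 : ∀ d ∈ W2 hE y, (h * y * h⁻¹) * d * (h * y * h⁻¹)⁻¹ = d)
    {w₁ : G} (hw₁ : w₁ ∈ W1 N y) (hw₁1 : w₁ ≠ 1) {s c : ℕ} (hs : s.Prime)
    (hh : orderOf h = s ^ c) : False := by
  have h2p : Nat.Prime 2 := Nat.prime_two
  have hR : RAct N 2 y := RAct.of_orderOf hy
  have hinv : ∀ n ∈ N, n ^ lam = n⁻¹ := fun n hn => pow_eq_inv hE hl hn
  -- h maps W1 into W2
  have Sw1 : ∀ w' ∈ W1 N y, h * w' * h⁻¹ ∈ W2 hE y := by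
    intro w' hw'
    have hu : (h * y * h⁻¹) * (h * w' * h⁻¹) * (h * y * h⁻¹)⁻¹ = h * w' * h⁻¹ := by
      have : (h * y * h⁻¹) * (h * w' * h⁻¹) * (h * y * h⁻¹)⁻¹ = h * (y * w' * y⁻¹) * h⁻¹ := by
        group
      rw [this, (mem_W1.mp hw').2]
    have huN : h * w' * h⁻¹ ∈ N := hN.conj_mem w' (W1_le hE y hw') h
    obtain ⟨c', hc', d', hd', hcd⟩ := exists_decomp hE h2p hq2 hR huN
    rw [hcd, cmul, hy'1 c' hc', hy'2 d' hd', hinv c' (W1_le hE y hc')] at hu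
    have h3 : c'⁻¹ = c' := mul_right_cancel hu
    have h4 : c' = 1 := eq_one_of_inv_eq hE hq2 (W1_le hE y hc') h3
    rw [hcd, h4, one_mul]
    exact hd'
  have Sw2 : ∀ w' ∈ W2 hE y, h * w' * h⁻¹ ∈ W1 N y := by
    intro w' hw'
    have hu : (h * y * h⁻¹) * (h * w' * h⁻¹) * (h * y * h⁻¹)⁻¹ = (h * w' * h⁻¹)⁻¹ := by
      have : (h * y * h⁻¹) * (h * w' * h⁻¹) * (h * y * h⁻¹)⁻¹ = h * (y * w' * y⁻¹) * h⁻¹ := by
        group
      rw [this, hlam w' hw', hinv w' (W2_le hE y hw')]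
      group
    have huN : h * w' * h⁻¹ ∈ N := hN.conj_mem w' (W2_le hE y hw') h
    obtain ⟨c', hc', d', hd', hcd⟩ := exists_decomp hE h2p hq2 hR huN
    rw [hcd, cmul, hy'1 c' hc', hy'2 d' hd', hinv c' (W1_le hE y hc'), mul_inv_rev,
      hE.comm d'⁻¹ (N.inv_mem (W2_le hE y hd')) c'⁻¹ (N.inv_mem (W1_le hE y hc'))] at hu
    have h3 : d' = d'⁻¹ := mul_left_cancel hu
    have h4 : d' = 1 := eq_one_of_inv_eq hE hq2 (W2_le hE y hd') h3.symm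
    rw [hcd, h4, mul_one]
    exact hc'
  have hw₁N : w₁ ∈ N := W1_le hE y hw₁
  have hhw1 : h * w₁ * h⁻¹ ≠ 1 := fun hcon => hw₁1 (conj_eq_one_iff.mp hcon)
  -- h² preserves W1
  have Pr2 : ∀ k : ℕ, ∀ w' ∈ W1 N y, (h ^ 2) ^ k * w' * ((h ^ 2) ^ k)⁻¹ ∈ W1 N y := by
    intro k
    induction k with
    | zero => intro w' hw'; simpa using hw'
    | succ k ih =>
      intro w' hw'
      have : (h ^ 2) ^ (k + 1) * w' * ((h ^ 2) ^ (k + 1))⁻¹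
          = h * (h * ((h ^ 2) ^ k * w' * ((h ^ 2) ^ k)⁻¹) * h⁻¹) * h⁻¹ := by
        rw [pow_succ', pow_two, cconj, cconj]
      rw [this]
      exact Sw2 _ (Sw1 _ (ih w' hw'))
  -- s = 2
  have hs2 : s = 2 := by
    by_contra hne
    have hodd : Odd (s ^ c) := (hs.eq_two_or_odd'.resolve_left hne).pow
    obtain ⟨t, ht⟩ := hodd
    have hpow : (h ^ 2) ^ (t + 1) = h := by
      rw [← pow_mul, mul_add, mul_one, pow_succ, ← ht, ← hh, pow_orderOf_eq_one, one_mul]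
    have h5 := Pr2 (t + 1) w₁ hw₁
    rw [hpow] at h5
    exact hhw1 (W1_inf_W2 hE h2p hq2 hR h5 (Sw1 w₁ hw₁))
  subst hs2
  have hRh : RAct N 2 h := RAct.of_orderOf hh
  obtain ⟨ν, hν⟩ := exists_powOn_W2 hE hHE h2p hq2 hRh
  have ident : ∀ n ∈ N, (h ^ 2 * n * (h ^ 2)⁻¹) * n ^ ν = (h * n * h⁻¹) ^ (ν + 1) := by
    intro n hn
    have hB : h * n * h⁻¹ ∈ N := hN.conj_mem n hn h
    apply abel_id (hE.comm _ hB _ (N.pow_mem hn _))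
    have h5 := hν (phi h n) ⟨n, hn, rfl⟩
    have h6 : h * phi h n * h⁻¹ = (h ^ 2 * n * (h ^ 2)⁻¹) * (h * n * h⁻¹)⁻¹ := by
      unfold phi; rw [pow_two]; group
    have h7 : (phi h n) ^ ν = (h * n * h⁻¹) ^ ν * (n ^ ν)⁻¹ := by
      unfold phi
      have hc : Commute (h * n * h⁻¹) n⁻¹ := hE.comm _ hB _ (N.inv_mem hn)
      rw [hc.mul_pow, inv_pow]
    rw [← h6, h5, h7]
  have hν1 : ν + 1 ≡ 0 [MOD q] := by
    have h5 := ident w₁ hw₁N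
    have h6 : (h * w₁ * h⁻¹) ^ (ν + 1) ∈ W1 N y := by
      rw [← h5]
      apply (W1 N y).mul_mem _ ((W1 N y).pow_mem hw₁ _)
      have := Pr2 1 w₁ hw₁
      rwa [pow_one] at this
    have h7 : (h * w₁ * h⁻¹) ^ (ν + 1) ∈ W2 hE y := (W2 hE y).pow_mem (Sw1 w₁ hw₁) _
    have h8 := W1_inf_W2 hE h2p hq2 hR h6 h7
    apply hE.modEq_of_pow_eq (hN.conj_mem w₁ hw₁N h) hhw1
    rw [h8, pow_zero]
  have hh2 : ∀ n ∈ N, h ^ 2 * n * (h ^ 2)⁻¹ = n := by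
    intro n hn
    have h5 := ident n hn
    rw [hE.pow_congr (hN.conj_mem n hn h) hν1, pow_zero] at h5
    have h6 : n * n ^ ν = 1 := by
      rw [← pow_succ', hE.pow_congr hn hν1, pow_zero]
    exact mul_right_cancel (h5.trans h6.symm)
  -- v = y * h
  have hyy' : ∀ n ∈ N, y * ((h * y * h⁻¹) * n * (h * y * h⁻¹)⁻¹) * y⁻¹ = n⁻¹ := by
    intro n hn
    obtain ⟨c', hc', d', hd', rfl⟩ := exists_decomp hE h2p hq2 hR hn
    rw [cmul (h * y * h⁻¹), hy'1 c' hc', hy'2 d' hd', cmul, hlam d' hd',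
      hinv c' (W1_le hE y hc'), hinv d' (W2_le hE y hd'),
      (mem_W1.mp ((W1 N y).inv_mem hc')).2, mul_inv_rev,
      hE.comm d'⁻¹ (N.inv_mem (W2_le hE y hd')) c'⁻¹ (N.inv_mem (W1_le hE y hc'))]
  have hv2 : ∀ n ∈ N, (y * h) ^ 2 * n * ((y * h) ^ 2)⁻¹ = n⁻¹ := by
    intro n hn
    have : (y * h) ^ 2 * n * ((y * h) ^ 2)⁻¹
        = y * ((h * y * h⁻¹) * (h ^ 2 * n * (h ^ 2)⁻¹) * (h * y * h⁻¹)⁻¹) * y⁻¹ := by
      rw [pow_two, pow_two]; group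
    rw [this, hh2 n hn, hyy' n hn]
  have hv4 : ∀ n ∈ N, (y * h) ^ (2 ^ 2) * n * ((y * h) ^ (2 ^ 2))⁻¹ = n := by
    intro n hn
    have : (y * h) ^ (2 ^ 2) = (y * h) ^ 2 * (y * h) ^ 2 := by rw [← pow_add]; norm_num
    rw [this, cconj, hv2 n hn, hv2 _ (N.inv_mem hn), inv_inv]
  have hRv : RAct N 2 (y * h) := ⟨2, hv4⟩
  obtain ⟨c', hc', d', hd', hcd⟩ := exists_decomp hE h2p hq2 hRv hw₁N
  have hc'1 : c' = 1 := by
    have hc'N : c' ∈ N := W1_le hE (y * h) hc'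
    apply eq_one_of_inv_eq hE hq2 hc'N
    rw [← hv2 c' hc'N]
    have := conj_pow_eq_pow_pow (y * h) c' 1 (by rw [pow_one]; exact (mem_W1.mp hc').2) 2
    rwa [one_pow, pow_one] at this
  rw [hc'1, one_mul] at hcd
  obtain ⟨ν₃, hν₃⟩ := exists_powOn_W2 hE hHE h2p hq2 hRv
  have h9 := hν₃ w₁ (hcd ▸ hd')
  have h10 : (y * h) * w₁ * (y * h)⁻¹ ∈ W1 N y := by
    rw [h9]; exact (W1 N y).pow_mem hw₁ _
  have h11 : (y * h) * w₁ * (y * h)⁻¹ ∈ W2 hE y := by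
    rw [cconj, hlam _ (Sw1 w₁ hw₁)]
    exact (W2 hE y).pow_mem (Sw1 w₁ hw₁) _
  exact hw₁1 (conj_eq_one_iff.mp (W1_inf_W2 hE h2p hq2 hR h10 h11))

end

end Cfsg.Agent.Lib.Helper15.SSq
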