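import Mathlib
import Cfsg.Agent.Lib.Helper15.SSqG1
import Cfsg.Agent.Lib.Helper15.SSqG2
import Cfsg.Agent.Lib.Helper2.NilpotentBasic

set_option autoImplicit false
set_option linter.unusedSectionVars false
set_option maxHeartbeats 1000000

namespace Cfsg.Agent.Lib.Helper15.SSq

variable {G : Type*} [Group G] [Finite G]

theorem form_lemma' {N : Subgroup G} [hN : N.Normal] {B' : Subgroup G} [hB'n : B'.Normal]
    (hB' : B' ≤ Zs N) {b : G} (hn : (B' ⊔ Subgroup.zpowers b).Normal) (e : ℕ) (h : G) :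
    ∃ ζ j : ℕ, ∀ m : ℕ, ∀ n ∈ N,
      (h * b ^ e * h⁻¹) ^ m * n * ((h * b ^ e * h⁻¹) ^ m)⁻¹
        = (((b ^ e) ^ j) ^ m * n * (((b ^ e) ^ j) ^ m)⁻¹) ^ (ζ ^ m) := by
  have h1 : h * b * h⁻¹ ∈ B' ⊔ Subgroup.zpowers b :=
    hn.conj_mem b (Subgroup.mem_sup_right (Subgroup.mem_zpowers b)) h
  have h2 : h * b * h⁻¹ ∈ ((B' ⊔ Subgroup.zpowers b : Subgroup G) : Set G) := h1
  rw [Subgroup.normal_mul] at h2
  obtain ⟨z, hz, t, ht, hzt⟩ := Set.mem_mul.mp h2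
  obtain ⟨k, hk⟩ := (mem_Zs).mp (hB' hz)
  obtain ⟨i, hi⟩ : ∃ i : ℕ, b ^ i = t :=
    (Submonoid.mem_powers_iff _ _).mp ((mem_powers_iff_mem_zpowers (x := b)).mpr ht)
  refine ⟨k ^ e, i, fun m n hn' => ?_⟩
  have h3 : (h * b ^ e * h⁻¹) ^ m = (z * t) ^ (e * m) := by
    rw [hzt, conj_pow, conj_pow, pow_mul]
  have e1 : t ^ (e * m) = ((b ^ e) ^ i) ^ m := by
    rw [← hi, ← pow_mul, ← pow_mul, ← pow_mul]; congr 1; ring
  have e2 : k ^ (e * m) = (k ^ e) ^ m := pow_mul k e m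
  rw [h3, conj_mul_pow hk (e * m) n hn', e1, e2]

section
variable {N : Subgroup G} [hN : N.Normal] {q : ℕ} [hq : Fact q.Prime] (hE : EA N q)
include hE hN

theorem isPGroup_of_EA : IsPGroup q N := by
  intro g
  exact ⟨1, by rw [pow_one]; exact Subtype.ext (by simpa using hE.pow g g.2)⟩

theorem exists_fixed_of_qelt {y : G} {a : ℕ} (hy : orderOf y = q ^ a) (hNne : N ≠ ⊥) :
    ∃ w ∈ W1 N y, w ≠ 1 := by
  have hNp : IsPGroup q N := isPGroup_of_EA hE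
  have hyp : IsPGroup q (Subgroup.zpowers y) :=
    IsPGroup.of_card (n := a) (by rw [Nat.card_zpowers, hy])
  have hD : IsPGroup q (N ⊔ Subgroup.zpowers y : Subgroup G) :=
    IsPGroup.to_sup_of_normal_left hNp hyp
  haveI : Group.IsNilpotent ↥(N ⊔ Subgroup.zpowers y : Subgroup G) := hD.isNilpotent
  haveI hsn : (N.subgroupOf (N ⊔ Subgroup.zpowers y)).Normal := hN.subgroupOf _
  have hne : N.subgroupOf (N ⊔ Subgroup.zpowers y) ≠ ⊥ := by
    intro h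
    rw [Subgroup.subgroupOf_eq_bot, disjoint_iff, inf_of_le_left le_sup_left] at h
    exact hNne h
  have h3 := Cfsg.Agent.Lib.Helper2.normal_inf_center_ne_bot
    (N.subgroupOf (N ⊔ Subgroup.zpowers y)) hne
  obtain ⟨x, hx, hx1⟩ : ∃ x : ↥(N ⊔ Subgroup.zpowers y : Subgroup G),
      x ∈ N.subgroupOf (N ⊔ Subgroup.zpowers y) ⊓
        Subgroup.center ↥(N ⊔ Subgroup.zpowers y : Subgroup G) ∧ x ≠ 1 := by
    obtain ⟨x, hx⟩ := (Subgroup.ne_bot_iff_exists_ne_one).1 h3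
    exact ⟨x.1, x.2, fun h => hx (Subtype.ext h)⟩
  have hxN : (x : G) ∈ N := (Subgroup.mem_inf.1 hx).1
  have hxc := (Subgroup.mem_center_iff.1 (Subgroup.mem_inf.1 hx).2)
    ⟨y, (le_sup_right : Subgroup.zpowers y ≤ N ⊔ Subgroup.zpowers y) (Subgroup.mem_zpowers y)⟩
  have h4 : y * (x : G) = (x : G) * y := congrArg Subtype.val hxc
  refine ⟨x, mem_W1.mpr ⟨hxN, ?_⟩, fun h => hx1 (Subtype.ext h)⟩
  rw [h4, mul_inv_cancel_right]

theorem no_qcase (hmin : ∀ K : Subgroup G, K.Normal → K ≤ N → K = ⊥ ∨ K = N) (hNne : N ≠ ⊥)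
    {y : G} {a : ℕ} (hy : orderOf y = q ^ a) (hyS : ¬ Scal N y)
    (hform : ∀ h : G, ∃ ζ j : ℕ, ∀ m : ℕ, ∀ n ∈ N,
      (h * y * h⁻¹) ^ m * n * ((h * y * h⁻¹) ^ m)⁻¹
        = ((y ^ j) ^ m * n * ((y ^ j) ^ m)⁻¹) ^ (ζ ^ m)) : False := by
  obtain ⟨w₀, hw₀, hw₀1⟩ := exists_fixed_of_qelt hE hy hNne
  have hnorm : (W1 N y).Normal := by
    constructor
    intro w hw g
    rw [mem_W1]
    refine ⟨hN.conj_mem w (W1_le hE y hw) g, ?_⟩
    obtain ⟨ζ, j, hf⟩ := hform g⁻¹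
    have hwN := W1_le hE y hw
    have h1 := hf (q ^ a) w₀ (W1_le hE y hw₀)
    have e1 : (g⁻¹ * y * g⁻¹⁻¹) ^ (q ^ a) = 1 := by
      rw [conj_pow, ← hy, pow_orderOf_eq_one]; simp
    have e2 : (y ^ j) ^ (q ^ a) = 1 := by
      rw [← pow_mul, mul_comm, pow_mul, ← hy, pow_orderOf_eq_one, one_pow]
    rw [e1, e2] at h1
    simp only [one_mul, inv_one, mul_one] at h1
    have hζ : ζ ^ (q ^ a) ≡ 1 [MOD q] :=
      hE.modEq_of_pow_eq (W1_le hE y hw₀) hw₀1 (by rw [pow_one]; exact h1.symm)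
    have hζ1 : ζ ≡ 1 [MOD q] := by
      rw [← ZMod.natCast_eq_natCast_iff] at hζ ⊢
      push_cast at hζ ⊢
      rwa [ZMod.pow_card_pow] at hζ
    have h2 := hf 1 w hwN
    simp only [pow_one] at h2
    have hc1 : y ^ j * w * (y ^ j)⁻¹ = w := by
      have := conj_pow_eq_pow_pow y w 1 (by rw [pow_one]; exact (mem_W1.mp hw).2) j
      rwa [one_pow, pow_one] at this
    rw [hc1, hE.pow_congr hwN hζ1, pow_one] at h2
    have : y * (g * w * g⁻¹) * y⁻¹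
        = g * ((g⁻¹ * y * g⁻¹⁻¹) * w * (g⁻¹ * y * g⁻¹⁻¹)⁻¹) * g⁻¹ := by group
    rw [this, h2]
  rcases hmin _ hnorm (W1_le hE y) with h0 | h0
  · exact hw₀1 (Subgroup.mem_bot.mp (h0 ▸ hw₀))
  · apply hyS
    apply TrivOn.scal
    intro n hn
    have : n ∈ W1 N y := h0.symm ▸ hn
    exact (mem_W1.mp this).2

theorem no_split (hHE : HE N q)
    (hmin : ∀ K : Subgroup G, K.Normal → K ≤ N → K = ⊥ ∨ K = N)
    {r : ℕ} (hr : r.Prime) (hrq : r ≠ q) {y : G} {a : ℕ} (hy : orderOf y = r ^ a)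
    (hyS : ¬ Scal N y)
    (hform : ∀ h : G, ∃ ζ j : ℕ, ∀ m : ℕ, ∀ n ∈ N,
      (h * y * h⁻¹) ^ m * n * ((h * y * h⁻¹) ^ m)⁻¹
        = ((y ^ j) ^ m * n * ((y ^ j) ^ m)⁻¹) ^ (ζ ^ m)) : False := by
  have hR : RAct N r y := RAct.of_orderOf hy
  obtain ⟨lam, hlam⟩ := exists_powOn_W2 hE hHE hr hrq hR
  have h2 : ∃ w₂ ∈ W2 hE y, w₂ ≠ 1 := by
    by_contra hcon
    push Not at hcon
    apply hyS
    apply TrivOn.scal
    intro n hn
    have := hcon (phi y n) ⟨n, hn, rfl⟩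
    exact phi_eq_one_iff.mp this
  obtain ⟨w₂, hw₂, hw₂1⟩ := h2
  have h1 : ∃ w₁ ∈ W1 N y, w₁ ≠ 1 := by
    by_contra hcon
    push Not at hcon
    apply hyS
    refine ⟨lam, fun n hn => ?_⟩
    obtain ⟨c, hc, d, hd, rfl⟩ := exists_decomp hE hr hrq hR hn
    rw [hcon c hc, one_mul]
    exact hlam d hd
  obtain ⟨w₁, hw₁, hw₁1⟩ := h1
  have hlam1 : ¬ lam ≡ 1 [MOD q] := by
    intro hl
    apply hw₂1
    apply W1_inf_W2 hE hr hrq hR _ hw₂
    rw [mem_W1]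
    refine ⟨W2_le hE y hw₂, ?_⟩
    rw [hlam w₂ hw₂]
    have := hE.pow_congr (W2_le hE y hw₂) hl
    rwa [pow_one] at this
  have hnn : ¬ (W1 N y).Normal := by
    intro hnorm
    rcases hmin _ hnorm (W1_le hE y) with h0 | h0
    · exact hw₁1 (Subgroup.mem_bot.mp (h0 ▸ hw₁))
    · apply hyS
      apply TrivOn.scal
      intro n hn
      have : n ∈ W1 N y := h0.symm ▸ hn
      exact (mem_W1.mp this).2
  have hex : ∃ (h : G) (s c : ℕ), s.Prime ∧ orderOf h = s ^ c ∧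
      ∃ w ∈ W1 N y, h * w * h⁻¹ ∉ W1 N y := by
    by_contra hcon
    push Not at hcon
    apply hnn
    constructor
    intro w hw g
    have hB : (⊤ : Subgroup G) ≤ Subgroup.normalizer ((W1 N y : Subgroup G) : Set G) := by
      apply le_of_primePow'
      intro x _ s c hs hx
      rw [Subgroup.mem_normalizer_iff]
      intro w'
      constructor
      · intro hw'; exact hcon x s c hs hx w' hw'
      · intro hw'
        have hx' : orderOf x⁻¹ = s ^ c := by rw [orderOf_inv]; exact hx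
        have := hcon x⁻¹ s c hs hx' _ hw'
        simpa [mul_assoc] using this
    exact ((Subgroup.mem_normalizer_iff.mp (hB (Subgroup.mem_top g))) w).mp hw
  obtain ⟨h, s, c, hs, hh, w, hw, hwh⟩ := hex
  obtain ⟨ζ, j, hf⟩ := hform h
  have hf1 : ∀ n ∈ N, (h * y * h⁻¹) * n * (h * y * h⁻¹)⁻¹ = (y ^ j * n * (y ^ j)⁻¹) ^ ζ := by
    intro n hn
    have := hf 1 n hn
    simpa only [pow_one] using this
  obtain ⟨hr2, hq1, hy'1, hy'2⟩ :=
    analysis hE hHE hr hrq hy hlam hlam1 hw₁ hw₁1 hw₂ hw₂1 hf1 hw hwh hyS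
  subst hr2
  exact final hE hHE hrq hy hlam hq1 hy'1 hy'2 hw₁ hw₁1 hs hh

open Cfsg.Agent.Lib.Helper17 in
theorem card_eq_of_min (hHE : HE N q)
    (hmin : ∀ K : Subgroup G, K.Normal → K ≤ N → K = ⊥ ∨ K = N) (hNne : N ≠ ⊥)
    (hchain : SSChain N ⊤) : Nat.card N = q := by
  by_contra hcard
  obtain ⟨n₀, hn₀, hn₀1⟩ : ∃ n₀ ∈ N, n₀ ≠ 1 := by
    by_contra hcon
    push Not at hcon
    exact hNne ((Subgroup.eq_bot_iff_forall N).mpr hcon)
  have hZ : ¬ (⊤ : Subgroup G) ≤ Zs N := by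
    intro htop
    apply hcard
    have hnorm : (Subgroup.zpowers n₀).Normal := by
      constructor
      intro x hx g
      obtain ⟨k, hk⟩ := mem_Zs.mp (htop (Subgroup.mem_top g))
      have hxN : x ∈ N := (Subgroup.zpowers_le.mpr hn₀) hx
      rw [hk x hxN]
      exact (Subgroup.zpowers n₀).pow_mem hx k
    rcases hmin _ hnorm (Subgroup.zpowers_le.mpr hn₀) with h0 | h0
    · exact absurd (Subgroup.zpowers_eq_bot.mp h0) hn₀1
    · rw [← h0, Nat.card_zpowers, hE.orderOf_eq hn₀ hn₀1]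
  have hNZ : N ≤ Zs N := by
    intro n hn
    exact mem_Zs.mpr (TrivOn.scal (fun m hm => by rw [hE.comm n hn m hm, mul_inv_cancel_right]))
  obtain ⟨B', b, hB'n, hB'Z, hbZ, hBn⟩ := chain_split hchain hNZ hZ
  have hex : ∃ y ∈ Subgroup.zpowers b, ∃ r j : ℕ, r.Prime ∧ orderOf y = r ^ j ∧ y ∉ Zs N := by
    by_contra hcon
    push Not at hcon
    apply hbZ
    exact le_of_primePow' (Subgroup.zpowers b) (Zs N)
      (fun x hx r j hr hxo => hcon x hx r j hr hxo) (Subgroup.mem_zpowers b)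
  obtain ⟨y, hyb, r, j, hr, hyo, hyZ⟩ := hex
  obtain ⟨e, rfl⟩ : ∃ e : ℕ, b ^ e = y :=
    (Submonoid.mem_powers_iff _ _).mp ((mem_powers_iff_mem_zpowers (x := b)).mpr hyb)
  haveI := hB'n
  have hform := fun h => form_lemma' hB'Z hBn e h
  by_cases hrq : r = q
  · rw [hrq] at hyo
    exact no_qcase hE hmin hNne hyo hyZ hform
  · exact no_split hE hHE hmin hr hrq hyo hyZ hform

end

end Cfsg.Agent.Lib.Helper15.SSq
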