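import Mathlib
import Cfsg.Agent.Lib.Helper15.SSqI
import Cfsg.Agent.Lib.Helper17.SupersolvableComm
import Cfsg.Agent.Lib.Helper17.SupersolvableOrder

set_option autoImplicit false
set_option linter.unusedSectionVars false
set_option maxHeartbeats 1000000

namespace Cfsg.Agent.Lib.Helper15.SSq

universe u

theorem he_of_hyp {G : Type*} [Group G] [Finite G] (h : Hyp G) {N : Subgroup G} [hN : N.Normal]
    {q : ℕ} [hq : Fact q.Prime] (hE : EA N q) : HE N q := by
  intro r hr hrq x hx n hn
  obtain ⟨b, hb⟩ : ∃ b : ℕ, orderOf n = q ^ b := by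
    rcases (Nat.dvd_prime hq.out).mp (hE.orderOf_dvd hn) with h1 | h1
    · exact ⟨0, by rw [h1, pow_zero]⟩
    · exact ⟨1, by rw [h1, pow_one]⟩
  set S := Subgroup.zpowers x ⊔ Subgroup.zpowers (n * x * n⁻¹) with hS
  have hSdvd : ¬ q ^ 2 ∣ Nat.card S := h r q hr hq.out hrq x n hx ⟨b, hb⟩
  have hxS : x ∈ S := (le_sup_left : Subgroup.zpowers x ≤ S) (Subgroup.mem_zpowers x)
  have hxS' : n * x * n⁻¹ ∈ S :=
    (le_sup_right : Subgroup.zpowers (n * x * n⁻¹) ≤ S) (Subgroup.mem_zpowers _)
  set c := phi x n with hcdef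
  have hcS : c ∈ S := by
    have : c = x * (n * x * n⁻¹)⁻¹ := by rw [hcdef]; unfold phi; group
    rw [this]; exact S.mul_mem hxS (S.inv_mem hxS')
  have hcN : c ∈ N := phi_mem hE x hn
  set T := S ⊓ N with hT
  have hcT : c ∈ T := ⟨hcS, hcN⟩
  have hNp : IsPGroup q N := isPGroup_of_EA hE
  have hTp : IsPGroup q T := hNp.to_le inf_le_right
  obtain ⟨t, ht⟩ := IsPGroup.iff_card.mp hTp
  have htle : t ≤ 1 := by
    by_contra hlt
    rw [not_le] at hlt
    apply hSdvd
    have h1 : q ^ 2 ∣ q ^ t := pow_dvd_pow q hlt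
    have h2 : Nat.card T ∣ Nat.card S := Subgroup.card_dvd_of_le inf_le_left
    rw [ht] at h2
    exact h1.trans h2
  by_cases hc1 : c = 1
  · rw [hc1]; simp
  · have hoc : orderOf c = q := hE.orderOf_eq hcN hc1
    have hTc : T = Subgroup.zpowers c := by
      symm
      apply Subgroup.eq_of_le_of_card_ge (Subgroup.zpowers_le.mpr hcT)
      rw [Nat.card_zpowers, hoc, ht]
      calc q ^ t ≤ q ^ 1 := Nat.pow_le_pow_right hq.out.pos htle
        _ = q := pow_one q
    rw [← hTc]
    exact ⟨S.mul_mem (S.mul_mem hxS hcS) (S.inv_mem hxS), hN.conj_mem c hcN x⟩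

theorem isSolvable_of_isSupersolvable {G : Type*} [Group G] [Finite G]
    (hG : Cfsg.IsSupersolvable G) : Group.IsSolvable G := by
  haveI : Group.IsNilpotent (commutator G) :=
    Cfsg.Agent.Lib.Helper17.isNilpotent_commutator_of_isSupersolvable hG
  apply Group.isSolvable_of_ker_le_range (commutator G).subtype (Abelianization.of (G := G))
  rw [Abelianization.ker_of, Subgroup.range_subtype]

theorem exists_EA_of_min {G : Type*} [Group G] [Finite G] (N : Subgroup G) [hN : N.Normal]
    (hNne : N ≠ ⊥) (hmin : ∀ L : Subgroup G, L.Normal → L ≤ N → L = ⊥ ∨ L = N)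
    [hs : Group.IsSolvable N] : ∃ q : ℕ, q.Prime ∧ EA N q := by
  haveI : Nontrivial N := (Subgroup.nontrivial_iff_ne_bot N).mpr hNne
  have hlt : commutator N < ⊤ := Group.IsSolvable.commutator_lt_top_of_nontrivial N
  have hcomm0 : ⁅N, N⁆ = ⊥ := by
    have hnorm : (⁅N, N⁆ : Subgroup G).Normal := inferInstance
    rcases hmin _ hnorm (Subgroup.commutator_le_left N N) with h0 | h0
    · exact h0
    · exfalso
      have h2 : (⊤ : Subgroup N).map N.subtype = N := by
        rw [← MonoidHom.range_eq_map, Subgroup.range_subtype]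
      have h1 : (commutator N).map N.subtype = ⁅N, N⁆ := by
        rw [show commutator N = ⁅(⊤ : Subgroup N), ⊤⁆ from rfl, Subgroup.map_commutator, h2]
      have h3 : commutator N = ⊤ := by
        apply Subgroup.map_injective N.subtype_injective
        rw [h1, h2, h0]
      exact hlt.ne h3
  have hcomm : ∀ a ∈ N, ∀ b ∈ N, a * b = b * a := by
    intro a ha b hb
    have := (Subgroup.commutator_eq_bot_iff_le_centralizer.mp hcomm0) ha
    exact (Subgroup.mem_centralizer_iff.mp this b hb).symm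
  have hc1 : Nat.card N ≠ 1 := fun h1 => hNne (Subgroup.card_eq_one.mp h1)
  obtain ⟨q, hq, hqd⟩ := Nat.exists_prime_and_dvd hc1
  haveI : Fact q.Prime := ⟨hq⟩
  obtain ⟨x, hx⟩ := exists_prime_orderOf_dvd_card' q hqd
  let Om : Subgroup G :=
    { carrier := {u | u ∈ N ∧ u ^ q = 1}
      one_mem' := ⟨N.one_mem, one_pow _⟩
      mul_mem' := by
        rintro a b ⟨ha, hap⟩ ⟨hb, hbp⟩
        refine ⟨N.mul_mem ha hb, ?_⟩
        have hc : Commute a b := hcomm a ha b hb
        rw [hc.mul_pow, hap, hbp, one_mul]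
      inv_mem' := by
        rintro a ⟨ha, hap⟩
        exact ⟨N.inv_mem ha, by rw [inv_pow, hap, inv_one]⟩ }
  have hOmn : Om.Normal := by
    constructor
    rintro a ⟨ha, hap⟩ z
    refine ⟨hN.conj_mem a ha z, ?_⟩
    rw [conj_pow, hap, mul_one, mul_inv_cancel]
  have hOmle : Om ≤ N := fun a ha => ha.1
  have hxq : (x : G) ^ q = 1 := by
    have h1 : x ^ q = 1 := by rw [← hx]; exact pow_orderOf_eq_one x
    have := congrArg Subtype.val h1
    simpa using this
  have hxOm : (x : G) ∈ Om := ⟨x.2, hxq⟩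
  rcases hmin Om hOmn hOmle with h0 | h0
  · exfalso
    have h1 : (x : G) = 1 := Subgroup.mem_bot.mp (h0 ▸ hxOm)
    have hx1 : x = 1 := Subtype.ext h1
    rw [hx1, orderOf_one] at hx
    exact hq.one_lt.ne hx
  · refine ⟨q, hq, ⟨fun n hn => ?_, hcomm⟩⟩
    have : n ∈ Om := h0.symm ▸ hn
    exact this.2

open Cfsg.Agent.Lib.Helper17 in
theorem main (n : ℕ) : ∀ (G : Type u) [Group G] [Finite G], Nat.card G = n → Hyp G →
    Cfsg.IsSupersolvable G := by
  induction n using Nat.strong_induction_on with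
  | _ n ih =>
  intro G _ _ hn h
  by_cases h1 : Nat.card G = 1
  · haveI : Subsingleton G := (Nat.card_eq_one_iff_unique.mp h1).1
    exact isSupersolvable_of_subsingleton
  have hpp : (Nat.card G).minFac.Prime := Nat.minFac_prime h1
  set p := (Nat.card G).minFac with hp
  haveI : Fact p.Prime := ⟨hpp⟩
  have hpmin : ∀ r : ℕ, r.Prime → r ∣ Nat.card G → p ≤ r :=
    fun r hr hrd => Nat.minFac_le_of_dvd hr.two_le hrd
  obtain ⟨P⟩ : Nonempty (Sylow p G) := inferInstance
  obtain ⟨K, hKn, hKc⟩ := exists_normal_complement h p hpmin P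
  haveI := hKn
  by_cases hKbot : K = ⊥
  · have hcard := hKc.card_mul
    rw [hKbot, Subgroup.card_bot, one_mul] at hcard
    obtain ⟨k, hk⟩ := IsPGroup.iff_card.mp P.2
    exact isSupersolvable_of_card_prime_pow p k hpp (by rw [← hcard, hk])
  · have hPcard : 2 ≤ Nat.card P := by
      rw [Sylow.card_eq_multiplicity]
      have hapos : 0 < (Nat.card G).factorization p :=
        hpp.factorization_pos_of_dvd Nat.card_pos.ne' (Nat.minFac_dvd _)
      calc 2 ≤ p := hpp.two_le
        _ = p ^ 1 := (pow_one p).symm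
        _ ≤ p ^ _ := Nat.pow_le_pow_right hpp.pos hapos
    have hKlt : Nat.card K < Nat.card G := by
      have hcard := hKc.card_mul
      have : 0 < Nat.card K := Nat.card_pos
      nlinarith
    have hKss : Cfsg.IsSupersolvable K := ih (Nat.card K) (hn ▸ hKlt) K rfl (h.subgroup K)
    haveI hKsolv : Group.IsSolvable K := isSolvable_of_isSupersolvable hKss
    obtain ⟨N, hNmin⟩ := exists_minimal_of_wellFoundedLT
      (fun N : Subgroup G => N.Normal ∧ N ≠ ⊥ ∧ N ≤ K) ⟨K, hKn, hKbot, le_rfl⟩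
    obtain ⟨hNn, hNne, hNK⟩ := hNmin.prop
    haveI := hNn
    have hNm : ∀ L : Subgroup G, L.Normal → L ≤ N → L = ⊥ ∨ L = N := by
      intro L hL hLN
      by_cases hb : L = ⊥
      · exact Or.inl hb
      · exact Or.inr (le_antisymm hLN (hNmin.le_of_le ⟨hL, hb, hLN.trans hNK⟩ hLN))
    haveI : Group.IsSolvable N :=
      Group.isSolvable_of_isSolvable_injective (Subgroup.inclusion_injective hNK)
    obtain ⟨q, hqp, hE⟩ := exists_EA_of_min N hNne hNm
    haveI : Fact q.Prime := ⟨hqp⟩
    have hHE := he_of_hyp h hE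
    have hNcard : 1 < Nat.card N := (Subgroup.one_lt_card_iff_ne_bot N).mpr hNne
    have hQlt : Nat.card (G ⧸ N) < Nat.card G := by
      have hcard := Subgroup.card_eq_card_quotient_mul_card_subgroup N
      have : 0 < Nat.card (G ⧸ N) := Nat.card_pos
      nlinarith
    have hQ : Cfsg.IsSupersolvable (G ⧸ N) :=
      ih _ (hn ▸ hQlt) (G ⧸ N) rfl
        (h.of_surjective (QuotientGroup.mk' N) (QuotientGroup.mk'_surjective N))
    have hchain : SSChain N ⊤ := by
      have := (isSupersolvable_iff_ssChain.mp hQ).comap (QuotientGroup.mk' N)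
        (QuotientGroup.mk'_surjective N)
      rwa [Subgroup.comap_top, MonoidHom.comap_bot, QuotientGroup.ker_mk'] at this
    have hcard := card_eq_of_min hE hHE hNm hNne hchain
    haveI : IsCyclic N := isCyclic_of_prime_card hcard
    exact isSupersolvable_of_cyclic_normal_of_quotient N hQ

end Cfsg.Agent.Lib.Helper15.SSq
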