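import Mathlib

set_option autoImplicit false

namespace Cfsg.Agent.Lib.Helper15

variable {X : Type*} [Group X]

theorem mem_fix_iff (τ : MulAut X) (x : X) :
    x ∈ (MulEquiv.toMonoidHom τ).eqLocus (MonoidHom.id X) ↔ τ x = x := Iff.rfl

theorem aut_pow_succ_apply (σ : MulAut X) (e : ℕ) (a : X) : (σ ^ (e + 1)) a = σ ((σ ^ e) a) := by
  rw [pow_succ', MulAut.mul_apply]

theorem aut_pow_succ_apply' (σ : MulAut X) (e : ℕ) (a : X) : (σ ^ (e + 1)) a = (σ ^ e) (σ a) := by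
  rw [pow_succ, MulAut.mul_apply]

theorem aut_pow_comm (σ : MulAut X) (e : ℕ) (a : X) : (σ ^ e) (σ a) = σ ((σ ^ e) a) := by
  rw [← aut_pow_succ_apply, ← aut_pow_succ_apply']

theorem aut_pow_fixed (σ : MulAut X) (e : ℕ) (y : X) (hy : σ y = y) : (σ ^ e) y = y := by
  induction e with
  | zero => simp
  | succ n ih => rw [aut_pow_succ_apply, ih, hy]

/-- Telescoping of the norm. -/
theorem norm_telescope (σ : MulAut X) (d : ℕ) (a : X) :
    ((List.range d).map (fun i => (σ ^ i) (a * (σ a)⁻¹))).prod = a * ((σ ^ d) a)⁻¹ := by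
  induction d with
  | zero => simp
  | succ n ih =>
    rw [List.range_succ, List.map_append, List.prod_append, ih]
    simp only [List.map_cons, List.map_nil, List.prod_cons, List.prod_nil, mul_one, map_mul, map_inv]
    rw [aut_pow_comm, ← aut_pow_succ_apply]
    group

/-- With `x = σ^e(a)⁻¹ a` and `g = a σ(a)⁻¹`: `g` is fixed by `σ^e` iff `x` is fixed by `σ`. -/
theorem fix_iff_fix (σ : MulAut X) (e : ℕ) (a : X) :
    (σ ^ e) (a * (σ a)⁻¹) = a * (σ a)⁻¹ ↔ σ (((σ ^ e) a)⁻¹ * a) = ((σ ^ e) a)⁻¹ * a := by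
  simp only [map_mul, map_inv]
  rw [aut_pow_comm]
  constructor
  · intro h
    have : (σ ((σ ^ e) a))⁻¹ = ((σ ^ e) a)⁻¹ * (a * (σ a)⁻¹) := by
      rw [← h]; group
    rw [this]; group
  · intro h
    have : (σ ((σ ^ e) a))⁻¹ = ((σ ^ e) a)⁻¹ * a * (σ a)⁻¹ := by
      rw [← h]; group
    rw [this]; group

/-- If `x = σ^e(a)⁻¹ a` is fixed by `σ` then `(σ^e)^d (a) = a x^{-d}`. -/
theorem pow_pow_apply_of_fixed (σ : MulAut X) (e d : ℕ) (a : X)
    (hx : σ (((σ ^ e) a)⁻¹ * a) = ((σ ^ e) a)⁻¹ * a) :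
    ((σ ^ e) ^ d) a = a * ((((σ ^ e) a)⁻¹ * a) ^ d)⁻¹ := by
  induction d with
  | zero => simp
  | succ n ih =>
    rw [aut_pow_succ_apply, ih, map_mul, map_inv, map_pow, aut_pow_fixed σ e _ hx, pow_succ]
    group

end Cfsg.Agent.Lib.Helper15
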