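import Mathlib
import Cfsg.Agent.Lib.Lead.ZJFunctorD
import Cfsg.Agent.Lib.Lead.GlaubermanZJE
import Cfsg.Agent.Lib.Lead.QuadStable

/-! `Z(J_e(S))` (the centre of the elementary abelian Thompson subgroup) as a functor. -/

set_option autoImplicit false

universe u

namespace Cfsg.Agent.Lib.Helper15.ZJE

open Subgroup
open scoped commutatorElement
open Cfsg.Agent.Lib.Lead.GlaubermanRepl Cfsg.Agent.Lib.Lead.GlaubermanReplE
open Cfsg.Agent.Lib.Lead.GlaubermanZJ Cfsg.Agent.Lib.Lead.GlaubermanZJE Cfsg.Agent.Lib.Helper16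
open Cfsg.Agent.Lib.Lead.FunctorNPC Cfsg.Agent.Lib.Lead.ZJFunctor Cfsg.Agent.Lib.Lead.ZJFunctorD
open Cfsg.Agent.Lib.Helper13

section basic

variable {G : Type*} [Group G]

/-- `Z(J_e(S))` -/
def ZE (p : ℕ) (S : Subgroup G) : Subgroup G := JE p S ⊓ centralizer (JE p S : Set G)

theorem ZE_le (p : ℕ) (S : Subgroup G) : ZE p S ≤ S := inf_le_left.trans (JE_le p S)

theorem ZE_comm {p : ℕ} (S : Subgroup G) : ∀ a ∈ ZE p S, ∀ b ∈ ZE p S, a * b = b * a := by
  intro a ha b hb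
  have := (Subgroup.mem_inf.mp hb).2
  rw [mem_centralizer_iff] at this
  exact this a (Subgroup.mem_inf.mp ha).1

theorem WE_le_ZE {p : ℕ} (S : Subgroup G) : WE p S ≤ ZE p S := fun _ hz => (mem_WE.mp hz).1

theorem mem_WE_of_mem_ZE {p : ℕ} {S : Subgroup G} {z : G} (hz : z ∈ ZE p S) (hzp : z ^ p = 1) :
    z ∈ WE p S := mem_WE.mpr ⟨hz, hzp⟩

theorem ZE_le_centralizer {p : ℕ} (S : Subgroup G) : ZE p S ≤ centralizer (JE p S : Set G) :=
  inf_le_right

theorem ZE_map {p : ℕ} (φ : G ≃* G) (S : Subgroup G) :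
    (ZE p S).map φ.toMonoidHom = ZE p (S.map φ.toMonoidHom) := by
  ext y
  constructor
  · rintro ⟨z, hz, rfl⟩
    obtain ⟨hzJ, hzC⟩ := Subgroup.mem_inf.mp hz
    refine Subgroup.mem_inf.mpr ⟨?_, ?_⟩
    · rw [← JE_map]; exact Subgroup.mem_map_of_mem _ hzJ
    · rw [mem_centralizer_iff]
      intro t ht
      rw [SetLike.mem_coe, ← JE_map] at ht
      obtain ⟨u, hu, rfl⟩ := ht
      rw [mem_centralizer_iff] at hzC
      show φ u * φ z = φ z * φ u
      rw [← map_mul, ← map_mul, hzC u hu]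
  · intro hy
    obtain ⟨hyJ, hyC⟩ := Subgroup.mem_inf.mp hy
    rw [← JE_map] at hyJ
    obtain ⟨z, hzJ, rfl⟩ := hyJ
    refine ⟨z, Subgroup.mem_inf.mpr ⟨hzJ, ?_⟩, rfl⟩
    rw [mem_centralizer_iff]
    intro u hu
    rw [mem_centralizer_iff] at hyC
    have h1 : φ.toMonoidHom u ∈ (JE p (S.map φ.toMonoidHom) : Set G) := by
      rw [SetLike.mem_coe, ← JE_map]; exact Subgroup.mem_map_of_mem _ hu
    have h2 := hyC _ h1
    apply φ.injective
    rw [map_mul, map_mul]
    exact h2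

theorem ZE_conj {p : ℕ} {S : Subgroup G} {g : G} (hg : g ∈ normalizer (S : Set G)) {z : G}
    (hz : z ∈ ZE p S) : g * z * g⁻¹ ∈ ZE p S := by
  have h1 := ZE_map (p := p) (MulAut.conj g) S
  have h2 : S.map (MulAut.conj g).toMonoidHom = S := mem_normalizer_iff_map_conj_eq.mp hg
  rw [h2] at h1
  rw [← h1]
  exact ⟨z, hz, by simp [MulAut.conj_apply]⟩

theorem JE_conj {p : ℕ} {S : Subgroup G} {g : G} (hg : g ∈ normalizer (S : Set G)) {z : G}
    (hz : z ∈ JE p S) : g * z * g⁻¹ ∈ JE p S := by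
  have h1 := JE_map (p := p) (MulAut.conj g) S
  have h2 : S.map (MulAut.conj g).toMonoidHom = S := mem_normalizer_iff_map_conj_eq.mp hg
  rw [h2] at h1
  rw [← h1]
  exact ⟨z, hz, by simp [MulAut.conj_apply]⟩

theorem normalizer_le_normalizer_ZE {p : ℕ} (S : Subgroup G) :
    normalizer (S : Set G) ≤ normalizer (ZE p S : Set G) := by
  intro g hg
  rw [mem_normalizer_iff]
  intro z
  constructor
  · intro hz; exact ZE_conj hg hz
  · intro hz
    have := ZE_conj (inv_mem hg) hz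
    simpa [mul_assoc] using this

theorem ZE_normal_of_normal {p : ℕ} (S : Subgroup G) [hS : S.Normal] : (ZE p S).Normal := by
  rw [← normalizer_eq_top_iff, eq_top_iff]
  refine le_trans ?_ (normalizer_le_normalizer_ZE S)
  rw [normalizer_eq_top_iff.mpr hS]

theorem JE_normal_of_normal {p : ℕ} (S : Subgroup G) [hS : S.Normal] : (JE p S).Normal := by
  constructor
  intro z hz g
  exact JE_conj (by rw [normalizer_eq_top_iff.mpr hS]; exact mem_top g) hz

theorem WE_normal_of_normal {p : ℕ} (S : Subgroup G) [hS : S.Normal] : (WE p S).Normal := by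
  constructor
  intro z hz g
  exact WE_conj (by rw [normalizer_eq_top_iff.mpr hS]; exact mem_top g) hz

end basic

section maps

variable {H K : Type*} [Group H] [Group K] {p : ℕ}

theorem ZE_map_of_injOn (f : H →* K) {U : Subgroup H} (hinj : ∀ x ∈ U, f x = 1 → x = 1) :
    ZE p (U.map f) = (ZE p U).map f := by
  ext y
  constructor
  · intro hy
    obtain ⟨hyJ, hyC⟩ := Subgroup.mem_inf.mp hy
    rw [JE_map_of_injOn f hinj] at hyJ
    obtain ⟨z, hzJ, rfl⟩ := hyJ
    refine ⟨z, Subgroup.mem_inf.mpr ⟨hzJ, ?_⟩, rfl⟩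
    rw [mem_centralizer_iff]
    intro u hu
    rw [mem_centralizer_iff] at hyC
    have h1 : f u ∈ (JE p (U.map f) : Set K) := by
      rw [SetLike.mem_coe, JE_map_of_injOn f hinj]; exact Subgroup.mem_map_of_mem _ hu
    have h2 := hyC _ h1
    apply eq_of_injOn f hinj (mul_mem (JE_le p U hu) (JE_le p U hzJ))
      (mul_mem (JE_le p U hzJ) (JE_le p U hu))
    rw [map_mul, map_mul]
    exact h2
  · rintro ⟨z, hz, rfl⟩
    obtain ⟨hzJ, hzC⟩ := Subgroup.mem_inf.mp hz
    refine Subgroup.mem_inf.mpr ⟨?_, ?_⟩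
    · rw [JE_map_of_injOn f hinj]; exact Subgroup.mem_map_of_mem _ hzJ
    · rw [mem_centralizer_iff]
      intro t ht
      rw [SetLike.mem_coe, JE_map_of_injOn f hinj] at ht
      obtain ⟨u, hu, rfl⟩ := ht
      rw [mem_centralizer_iff] at hzC
      rw [← map_mul, ← map_mul, hzC u hu]

end maps

/-- the functor `P ↦ Z(J_e(P))` -/
def ZEf (p : ℕ) : ∀ (H : Type u) [Group H], Subgroup H → Subgroup H := fun _ _ P => ZE p P

theorem ZEf_good (p : ℕ) [hp : Fact p.Prime] : IsGoodFunctor.{u} p (ZEf p) where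
  le := fun _ _ P => ZE_le p P
  map := fun _ _ _ _ f P hinj => ZE_map_of_injOn f hinj
  ne_bot := by
    intro H _ _ P hP hne h
    apply (WEf_good p).ne_bot H P hP hne
    rw [eq_bot_iff]
    show WE p P ≤ ⊥
    exact (WE_le_ZE P).trans (le_of_eq h)

end Cfsg.Agent.Lib.Helper15.ZJE
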