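import Mathlib
import Cfsg.Agent.Lib.Helper15.ZJE1
import Cfsg.Agent.Lib.Lead.StableWNormal
import Cfsg.Agent.Lib.Lead.ThompsonRepl
import Cfsg.Agent.Lib.Helper1.OmegaOne

/-! The final configuration of the Glauberman–Thompson reduction: basic tools. -/

set_option autoImplicit false

universe u

namespace Cfsg.Agent.Lib.Helper15.ZJE

open Subgroup
open scoped commutatorElement
open Cfsg.Agent.Lib.Lead.GlaubermanRepl Cfsg.Agent.Lib.Lead.GlaubermanReplE
open Cfsg.Agent.Lib.Lead.GlaubermanZJ Cfsg.Agent.Lib.Lead.GlaubermanZJE Cfsg.Agent.Lib.Helper16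
open Cfsg.Agent.Lib.Helper13 Cfsg.Agent.Lib.Helper17

/-- the final configuration -/
structure Cfg (p : ℕ) [Fact p.Prime] (G : Type u) [Group G] [Finite G] (P : Sylow p G)
    (Q : Subgroup G) : Prop where
  hp2 : p ≠ 2
  hQn : Q.Normal
  hQP : Q ≤ (P : Subgroup G)
  hOp : ∀ R : Subgroup G, R.Normal → IsPGroup p R → R ≤ Q
  hcent : centralizer (Q : Set G) ≤ Q
  hcoatom : IsCoatom (P : Subgroup G)
  hst : ∀ (V : Subgroup G) [V.Normal], V ≤ Q → Cfsg.IsPStableOn p V
  hWE : (WE p (P : Subgroup G)).Normal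

section cfg

variable {G : Type u} [Group G] [Finite G] {p : ℕ} [hp : Fact p.Prime] {P : Sylow p G}
  {Q : Subgroup G}

theorem Cfg.isPGroup (h : Cfg p G P Q) : IsPGroup p Q := P.isPGroup'.to_le h.hQP

/-- a normal subgroup lies in `Q` or contains all `p'`-elements -/
theorem Cfg.dichotomy (h : Cfg p G P Q) (M : Subgroup G) [hM : M.Normal] :
    M ≤ Q ∨ ∀ y : G, (orderOf y).Coprime p → y ∈ M := by
  have h1 : (P : Subgroup G) ≤ M ⊔ P := le_sup_right
  rcases eq_or_lt_of_le h1 with h2 | h2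
  · left
    have hMP : M ≤ P := by rw [h2]; exact le_sup_left
    exact h.hOp M hM (P.isPGroup'.to_le hMP)
  · right
    have htop : M ⊔ P = ⊤ := h.hcoatom.2 _ h2
    intro y hy
    have hy' : y ∈ M ⊔ (P : Subgroup G) := htop ▸ mem_top y
    rw [← SetLike.mem_coe, normal_mul] at hy'
    obtain ⟨m, hm, s, hs, rfl⟩ := Set.mem_mul.mp hy'
    obtain ⟨k, hk⟩ := P.isPGroup' ⟨s, hs⟩
    have hk' : s ^ p ^ k = 1 := by
      have := congrArg Subtype.val hk
      simpa using this
    have e1 : (QuotientGroup.mk' M) (m * s) = (QuotientGroup.mk' M) s := by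
      have hm1 : (QuotientGroup.mk' M) m = 1 := (QuotientGroup.eq_one_iff m).mpr hm
      rw [map_mul, hm1, one_mul]
    have e2 : ((QuotientGroup.mk' M) (m * s)) ^ p ^ k = 1 := by
      rw [e1, ← map_pow, hk', map_one]
    have d1 : orderOf ((QuotientGroup.mk' M) (m * s)) ∣ orderOf (m * s) := orderOf_map_dvd _ _
    have d2 : orderOf ((QuotientGroup.mk' M) (m * s)) ∣ p ^ k := orderOf_dvd_of_pow_eq_one e2
    have hc : (orderOf ((QuotientGroup.mk' M) (m * s))).Coprime (p ^ k) :=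
      Nat.Coprime.coprime_dvd_left d1 (hy.pow_right k)
    have h3 := Nat.Coprime.eq_one_of_dvd hc d2
    rw [orderOf_eq_one_iff] at h3
    exact (QuotientGroup.eq_one_iff _).mp h3

/-- a subgroup normalized by `P` and by all `p'`-elements is normal -/
theorem Cfg.normal_of_normalizer (h : Cfg p G P Q) (Z₁ : Subgroup G)
    (hP : (P : Subgroup G) ≤ normalizer (Z₁ : Set G))
    (hy : ∀ y : G, (orderOf y).Coprime p → y ∈ normalizer (Z₁ : Set G)) : Z₁.Normal := by
  rw [← normalizer_eq_top_iff]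
  by_contra hne
  have hNP : normalizer (Z₁ : Set G) = P := by
    rcases eq_or_lt_of_le hP with h2 | h2
    · exact h2.symm
    · exact absurd (h.hcoatom.2 _ h2) hne
  have hidx : (P : Subgroup G).index ≠ 1 := fun h1 => h.hcoatom.1 (Subgroup.index_eq_one.mp h1)
  obtain ⟨q, hq, hqd⟩ := Nat.exists_prime_and_dvd hidx
  have hqp : q ≠ p := by
    rintro rfl
    exact P.not_dvd_index hqd
  haveI := Fact.mk hq
  have hqG : q ∣ Nat.card G := hqd.trans (Subgroup.index_dvd_card _)
  obtain ⟨y, hyq⟩ := exists_prime_orderOf_dvd_card' q hqG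
  have hycop : (orderOf y).Coprime p := by
    rw [hyq]; exact (Nat.coprime_primes hq hp.out).mpr hqp
  have hyP : y ∈ (P : Subgroup G) := hNP ▸ hy y hycop
  obtain ⟨k, hk⟩ := P.isPGroup' ⟨y, hyP⟩
  have hk' : y ^ p ^ k = 1 := by
    have := congrArg Subtype.val hk
    simpa using this
  have d : q ∣ p ^ k := hyq ▸ orderOf_dvd_of_pow_eq_one hk'
  exact hqp ((Nat.prime_dvd_prime_iff_eq hq hp.out).mp (hq.dvd_of_dvd_pow d))

/-- quadratically acting elements lie in `Q` when the centralizer of the module is in `Q` -/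
theorem Cfg.mem_of_quad (h : Cfg p G P Q) (V : Subgroup G) [hVn : V.Normal] (hVQ : V ≤ Q)
    (hC : centralizer (V : Set G) ≤ Q) {a : G} (ha : ⁅⁅V, zpowers a⁆, zpowers a⁆ = ⊥) : a ∈ Q := by
  set C := centralizer (V : Set G) with hCdef
  set L : Subgroup G := (Cfsg.pCore p (G ⧸ C)).comap (QuotientGroup.mk' C) with hL
  have hLn : L.Normal := (pCore_normal p (G ⧸ C)).comap _
  have hLp : IsPGroup p L := by
    rintro ⟨l, hl⟩
    rw [hL, Subgroup.mem_comap] at hl
    obtain ⟨k, hk⟩ := (pCore_isPGroup p (G ⧸ C)) ⟨_, hl⟩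
    have h1 := congrArg Subtype.val hk
    simp only [Subgroup.coe_pow, Subgroup.coe_one, QuotientGroup.mk'_apply] at h1
    rw [← QuotientGroup.mk_pow] at h1
    have h2 : l ^ p ^ k ∈ Q := hC ((QuotientGroup.eq_one_iff _).mp h1)
    obtain ⟨k', hk'⟩ := h.isPGroup ⟨_, h2⟩
    refine ⟨k + k', ?_⟩
    apply Subtype.ext
    have h3 := congrArg Subtype.val hk'
    simp only [Subgroup.coe_pow, Subgroup.coe_one] at h3 ⊢
    rw [pow_add, pow_mul]
    exact h3
  have hLQ : L ≤ Q := h.hOp L hLn hLp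
  apply hLQ
  have := h.hst V hVQ a ha
  rw [hL, Subgroup.mem_comap]
  exact this

/-- `Z(J_e(P)) ≤ Q` -/
theorem Cfg.ZE_le (h : Cfg p G P Q) : ZE p (P : Subgroup G) ≤ Q := by
  haveI := h.hQn
  intro z hz
  apply h.mem_of_quad Q le_rfl h.hcent
  have h1 : ⁅Q, zpowers z⁆ ≤ ZE p (P : Subgroup G) := by
    rw [commutator_le]
    intro o ho t ht
    have ht' : t ∈ ZE p (P : Subgroup G) := (zpowers_le.mpr hz) ht
    have h2 : o * t * o⁻¹ ∈ ZE p (P : Subgroup G) := ZE_conj (le_normalizer (h.hQP ho)) ht'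
    have : ⁅o, t⁆ = (o * t * o⁻¹) * t⁻¹ := by simp only [commutatorElement_def]
    rw [this]
    exact mul_mem h2 (inv_mem ht')
  rw [eq_bot_iff]
  refine (commutator_mono h1 le_rfl).trans ?_
  rw [commutator_le]
  intro u hu t ht
  have ht' : t ∈ ZE p (P : Subgroup G) := (zpowers_le.mpr hz) ht
  rw [mem_bot]
  exact commutatorElement_eq_one_iff_commute.mpr (ZE_comm (P : Subgroup G) u hu t ht')

/-- either `J_e(P) ≤ Q` or all `p'`-elements centralize `Ω₁(Z(J_e(P)))` -/
theorem Cfg.cases_WE (h : Cfg p G P Q) :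
    JE p (P : Subgroup G) ≤ Q ∨
      ∀ y : G, (orderOf y).Coprime p → y ∈ centralizer (WE p (P : Subgroup G) : Set G) := by
  haveI := h.hWE
  rcases h.dichotomy (centralizer (WE p (P : Subgroup G) : Set G)) with h1 | h1
  · left
    refine le_trans ?_ h1
    intro x hx
    rw [mem_centralizer_iff]
    intro w hw
    have := (Subgroup.mem_inf.mp (mem_WE.mp hw).1).2
    rw [mem_centralizer_iff] at this
    exact (this x hx).symm
  · right; exact h1

/-- if `J_e(P) ≤ Q` then `Z(J_e(P))` is normal -/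
theorem Cfg.normal_of_JE_le (h : Cfg p G P Q) (hJ : JE p (P : Subgroup G) ≤ Q) :
    (ZE p (P : Subgroup G)).Normal := by
  haveI := h.hQn
  have h1 : maxEIn p (P : Subgroup G) = maxEIn p Q := by
    obtain ⟨A₀, hA₀⟩ := maxEIn_nonempty (p := p) (P : Subgroup G)
    have hA₀Q : A₀ ≤ Q := (le_JE hA₀).trans hJ
    obtain ⟨-, hsub⟩ := maxEIn_mono hA₀ hA₀Q h.hQP
    apply Set.Subset.antisymm
    · intro A hA
      exact (maxEIn_mono hA ((le_JE hA).trans hJ) h.hQP).1
    · exact hsub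
  have h2 : ZE p (P : Subgroup G) = ZE p Q := by
    unfold ZE JE
    rw [h1]
  rw [h2]
  exact ZE_normal_of_normal Q

end cfg

end Cfsg.Agent.Lib.Helper15.ZJE
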