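import Mathlib
import Cfsg.Agent.Lib.Helper15.ZJE2

/-! `Z(J_e(P))` is normal in the final configuration (case: some member of `𝒜_e(P)` lies in `Q`). -/

set_option autoImplicit false

universe u

namespace Cfsg.Agent.Lib.Helper15.ZJE

open Subgroup
open scoped commutatorElement
open Cfsg.Agent.Lib.Lead.GlaubermanRepl Cfsg.Agent.Lib.Lead.GlaubermanReplE
open Cfsg.Agent.Lib.Lead.GlaubermanZJ Cfsg.Agent.Lib.Lead.GlaubermanZJE Cfsg.Agent.Lib.Helper16
open Cfsg.Agent.Lib.Helper13 Cfsg.Agent.Lib.Helper17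
open Cfsg.Agent.Lib.Lead.StableW

section repl

variable {G : Type u} [Group G] [Finite G] {p : ℕ} [hp : Fact p.Prime]

/-- Thompson replacement relative to `S`: a member of `𝒜_e(S)` not centralizing the normal
elementary abelian `V` can be replaced by one acting quadratically and nontrivially. -/
theorem exists_quadratic (S V : Subgroup G) [hVn : V.Normal] (hVS : V ≤ S)
    (hVc : ∀ a ∈ V, ∀ b ∈ V, a * b = b * a) (hVe : ∀ a ∈ V, a ^ p = 1)
    {A : Subgroup G} (hA : A ∈ maxEIn p S) (hnc : ¬ A ≤ centralizer (V : Set G)) :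
    ∃ A' ∈ maxEIn p S, (∀ a ∈ A', ∀ v ∈ V, ⁅⁅v, a⁆, a⁆ = 1) ∧
      ¬ A' ≤ centralizer (V : Set G) := by
  have hA' : A ∈ maxEAIn p S := by rw [maxEAIn_eq]; exact hA
  have hA'' := subgroupOf_mem_maxEA_of_mem_maxEAIn S hA'
  have hV'n : (V.subgroupOf S).Normal := hVn.subgroupOf _
  have hV'ea : Cfsg.IsElementaryAbelian p (V.subgroupOf S) :=
    ea_subgroupOf _ ((isElementaryAbelian_iff V).mpr ⟨hVc, hVe⟩)
  obtain ⟨hmem, hquad, hne⟩ := Cfsg.Agent.Lib.Lead.ThompsonRepl.thompson_replacement
    (V.subgroupOf S) hV'ea (A.subgroupOf S) hA''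
  set V' := V.subgroupOf S with hV'
  set A' := A.subgroupOf S with hA'def
  set Astar := ⁅V', A'⁆ ⊔ (A' ⊓ centralizer ((⁅V', A'⁆ : Subgroup ↥S) : Set _)) with hAstar
  have hne1 : ⁅V', A'⁆ ≠ ⊥ := by
    intro h0
    apply hnc
    rw [commutator_eq_bot_iff_le_centralizer] at h0
    intro a ha
    rw [mem_centralizer_iff]
    intro n hn
    have hv : (⟨n, hVS hn⟩ : ↥S) ∈ V' := by rw [hV', mem_subgroupOf]; exact hn
    have ha' : (⟨a, hA.1 ha⟩ : ↥S) ∈ A' := by rw [hA'def, mem_subgroupOf]; exact ha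
    have h1 := mem_centralizer_iff.mp (h0 hv) _ ha'
    have h2 := congrArg Subtype.val h1
    simp only [Subgroup.coe_mul] at h2
    exact h2.symm
  refine ⟨Astar.map S.subtype, ?_, ?_, ?_⟩
  · rw [← maxEAIn_eq]; exact map_subtype_mem_maxEAIn S hmem
  · rintro _ ⟨a, ha, rfl⟩ v hv
    have hv' : (⟨v, hVS hv⟩ : ↥S) ∈ V' := by rw [hV', mem_subgroupOf]; exact hv
    have h1 : ⁅⁅(⟨v, hVS hv⟩ : ↥S), a⁆, a⁆ ∈ ⁅⁅V', Astar⁆, Astar⁆ :=
      commutator_mem_commutator (commutator_mem_commutator hv' ha) ha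
    rw [hquad, mem_bot] at h1
    have h2 := congrArg Subtype.val h1
    simpa [commutatorElement_def] using h2
  · intro hcen
    apply hne hne1
    rw [commutator_eq_bot_iff_le_centralizer]
    intro v hv
    rw [mem_centralizer_iff]
    intro a ha
    have h1 : (a : G) ∈ centralizer (V : Set G) := hcen ⟨a, ha, rfl⟩
    rw [mem_centralizer_iff] at h1
    have hvV : (v : G) ∈ V := by rw [hV', mem_subgroupOf] at hv; exact hv
    apply Subtype.ext
    have h2 := h1 _ hvV
    simp only [Subgroup.coe_mul]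
    exact h2.symm

end repl

section cfg

variable {G : Type u} [Group G] [Finite G] {p : ℕ} [hp : Fact p.Prime] {P : Sylow p G}
  {Q : Subgroup G}

/-- a `p'`-element centralizing the elements of order dividing `p` of the normal `p`-subgroup `R`
centralizes `R` -/
theorem Cfg.centralizes_of_omega (h : Cfg p G P Q) (R : Subgroup G) [hRn : R.Normal]
    (hRp : IsPGroup p R) {y : G} (hy : (orderOf y).Coprime p)
    (hfix : ∀ x ∈ R, x ^ p = 1 → y * x = x * y) : y ∈ centralizer (R : Set G) := by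
  have hcop : (Nat.card (zpowers y)).Coprime p := by rw [Nat.card_zpowers]; exact hy
  have h1 := Cfsg.Agent.Lib.Helper1.centralizes_of_centralizes_omega_one p h.hp2 (zpowers y) hcop
    (Nat.card R) R rfl hRp (by rw [normalizer_eq_top_iff.mpr hRn]; exact le_top)
    (by
      intro x hx hxp
      rw [zpowers_le, mem_centralizer_iff]
      intro t ht
      rw [Set.mem_singleton_iff.mp ht]
      exact (hfix x hx hxp).symm)
  exact h1 (mem_zpowers y)

theorem Cfg.sylow_le_normalizer_ZE (P : Sylow p G) :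
    (P : Subgroup G) ≤ normalizer (ZE p (P : Subgroup G) : Set G) :=
  le_normalizer.trans (normalizer_le_normalizer_ZE _)

/-- if some member of `𝒜_e(P)` lies in `Q`, then `Z(J_e(P))` is normal -/
theorem Cfg.normal_of_exists_le (h : Cfg p G P Q) {A₀ : Subgroup G}
    (hA₀ : A₀ ∈ maxEIn p (P : Subgroup G)) (hA₀Q : A₀ ≤ Q) :
    (ZE p (P : Subgroup G)).Normal := by
  haveI := h.hQn
  obtain ⟨hA₀', hsub⟩ := maxEIn_mono hA₀ hA₀Q h.hQP
  have hJ : JE p Q ≤ JE p (P : Subgroup G) := sSup_le (fun A hA => le_JE (hsub hA))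
  set V := WE p Q with hV
  haveI hVn : V.Normal := WE_normal_of_normal Q
  have hVQ : V ≤ Q := fun z hz => JE_le p Q (Subgroup.mem_inf.mp (mem_WE.mp hz).1).1
  have hVc : ∀ a ∈ V, ∀ b ∈ V, a * b = b * a := WE_comm (p := p) Q
  have hVe : ∀ a ∈ V, a ^ p = 1 := fun a ha => (mem_WE.mp ha).2
  by_cases hK : ∀ y : G, (orderOf y).Coprime p → y ∈ centralizer (V : Set G)
  · set C₁ := Q ⊓ centralizer (JE p Q : Set G) with hC₁
    haveI hJn : (JE p Q).Normal := JE_normal_of_normal Q
    haveI hC₁n : C₁.Normal := inferInstance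
    have hC₁p : IsPGroup p C₁ := h.isPGroup.to_le inf_le_left
    have hZC₁ : ZE p (P : Subgroup G) ≤ C₁ :=
      le_inf h.ZE_le ((ZE_le_centralizer _).trans (centralizer_le hJ))
    have hom : ∀ x ∈ C₁, x ^ p = 1 → x ∈ V := by
      intro x hx hxp
      obtain ⟨hxQ, hxC⟩ := Subgroup.mem_inf.mp hx
      obtain ⟨A, hA⟩ := maxEIn_nonempty (p := p) Q
      have hxA : x ∈ A := by
        apply mem_of_centralizesE hA hxQ hxp
        intro a ha
        rw [mem_centralizer_iff] at hxC
        exact (hxC a (le_JE hA ha)).symm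
      exact mem_WE.mpr ⟨Subgroup.mem_inf.mpr ⟨le_JE hA hxA, hxC⟩, hxp⟩
    apply h.normal_of_normalizer _ (Cfg.sylow_le_normalizer_ZE P)
    intro y hy
    have h1 : y ∈ centralizer (C₁ : Set G) := by
      apply h.centralizes_of_omega C₁ hC₁p hy
      intro x hx hxp
      have := hK y hy
      rw [mem_centralizer_iff] at this
      exact (this x (hom x hx hxp)).symm
    exact centralizer_le_normalizer _ (centralizer_le hZC₁ h1)
  · have hCV : centralizer (V : Set G) ≤ Q := by
      rcases h.dichotomy (centralizer (V : Set G)) with h1 | h1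
      · exact h1
      · exact absurd h1 hK
    have hall : ∀ A ∈ maxEIn p (P : Subgroup G), A ≤ centralizer (V : Set G) := by
      intro A hA
      by_contra hnc
      obtain ⟨A', hA', hq, hnc'⟩ :=
        exists_quadratic (P : Subgroup G) V (hVQ.trans h.hQP) hVc hVe hA hnc
      apply hnc'
      have hA'Q : A' ≤ Q := fun a ha => h.mem_of_quad V hVQ hCV (quad_of_elem (fun v hv => hq a ha v hv))
      have hA'' : A' ∈ maxEIn p Q := (maxEIn_mono hA' hA'Q h.hQP).1
      have hVA' : V ≤ A' := WE_le_of_mem hA''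
      intro a ha
      rw [mem_centralizer_iff]
      intro v hv
      exact hA'.2.1 v (hVA' hv) a ha
    have hVW : V ≤ WE p (P : Subgroup G) := by
      intro v hv
      have hvP : v ∈ (P : Subgroup G) := h.hQP (hVQ hv)
      have hcomm : ∀ A ∈ maxEIn p (P : Subgroup G), ∀ a ∈ A, v * a = a * v :=
        fun A hA a ha => mem_centralizer_iff.mp (hall A hA ha) v hv
      obtain ⟨A, hA⟩ := maxEIn_nonempty (p := p) (P : Subgroup G)
      have hvA : v ∈ A := mem_of_centralizesE hA hvP (hVe v hv) (hcomm A hA)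
      refine mem_WE.mpr ⟨Subgroup.mem_inf.mpr ⟨le_JE hA hvA, ?_⟩, hVe v hv⟩
      have h1 : JE p (P : Subgroup G) ≤ centralizer ({v} : Set G) := by
        apply sSup_le
        intro A' hA' a ha
        rw [mem_centralizer_iff]
        intro t ht
        rw [Set.mem_singleton_iff.mp ht]
        exact hcomm A' hA' a ha
      rw [mem_centralizer_iff]
      intro u hu
      have := h1 hu
      rw [mem_centralizer_iff] at this
      exact (this v rfl).symm
    rcases h.cases_WE with h1 | h1
    · exact h.normal_of_JE_le h1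
    · exfalso
      apply hK
      intro y hy
      exact centralizer_le hVW (h1 y hy)

end cfg

end Cfsg.Agent.Lib.Helper15.ZJE
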