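import Mathlib
import Cfsg.Agent.Lib.Helper15.ZJE3

/-! `Z(J_e(P))` is normal in the final configuration; the Glauberman–Thompson theorem for `Z(J_e)`. -/

set_option autoImplicit false

universe u

namespace Cfsg.Agent.Lib.Helper15.ZJE

open Subgroup
open scoped commutatorElement
open Cfsg.Agent.Lib.Lead.GlaubermanRepl Cfsg.Agent.Lib.Lead.GlaubermanReplE
open Cfsg.Agent.Lib.Lead.GlaubermanZJ Cfsg.Agent.Lib.Lead.GlaubermanZJE Cfsg.Agent.Lib.Helper16
open Cfsg.Agent.Lib.Helper13 Cfsg.Agent.Lib.Helper17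
open Cfsg.Agent.Lib.Lead.StableW Cfsg.Agent.Lib.Lead.FunctorNPC

section cfg

variable {G : Type u} [Group G] [Finite G] {p : ℕ} [hp : Fact p.Prime] {P : Sylow p G}
  {Q : Subgroup G}

/-- if no member of `𝒜_e(P)` lies in `Q`, then `Z(J_e(P)) ∩ B` is normal for every normal
`p`-subgroup `B` -/
theorem Cfg.ZE_inf_normal (h : Cfg p G P Q)
    (hno : ∀ A ∈ maxEIn p (P : Subgroup G), ¬ A ≤ Q) (n : ℕ) :
    ∀ B : Subgroup G, B.Normal → IsPGroup p B → Nat.card B = n →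
      (ZE p (P : Subgroup G) ⊓ B).Normal := by
  induction n using Nat.strong_induction_on with
  | _ n ih =>
  intro B hBn hBp hBcard
  classical
  have hp2 := h.hp2
  have hSp : IsPGroup p (P : Subgroup G) := P.isPGroup'
  have hBS : B ≤ P := normal_pgroup_le_sylow hBn hBp P
  by_cases hB1 : B = ⊥
  · rw [hB1, inf_bot_eq]; infer_instance
  haveI := hBn
  have hB'n : (⁅B, B⁆ : Subgroup G).Normal := inferInstance
  have hB'le : ⁅B, B⁆ ≤ B := by
    rw [commutator_le]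
    intro g₁ h₁ g₂ h₂
    exact mul_mem (mul_mem (mul_mem h₁ h₂) (inv_mem h₁)) (inv_mem h₂)
  have hB'lt : Nat.card (⁅B, B⁆ : Subgroup G) < n := hBcard ▸ derived_card_lt hBp hB1
  have hDn : (ZE p (P : Subgroup G) ⊓ ⁅B, B⁆).Normal :=
    ih _ hB'lt ⁅B, B⁆ hB'n (hBp.to_le hB'le) rfl
  haveI := hDn
  set Z := ZE p (P : Subgroup G) with hZ
  set D := Z ⊓ ⁅B, B⁆ with hD
  set B₁ := normalClosure ((Z ⊓ B : Subgroup G) : Set G) with hB₁
  haveI hB₁n : B₁.Normal := normalClosure_normal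
  have hB₁B : B₁ ≤ B := normalClosure_le_normal inf_le_right
  have hB₁S : B₁ ≤ P := hB₁B.trans hBS
  have hB₁p : IsPGroup p B₁ := hBp.to_le hB₁B
  have hsub : Z ⊓ B ≤ B₁ := le_normalClosure
  have hZS : ∀ s ∈ (P : Subgroup G), ∀ z ∈ Z, s * z * s⁻¹ ∈ Z :=
    fun s hs z hz => ZE_conj (le_normalizer hs) hz
  have hcomm : ∀ z ∈ Z ⊓ B, ∀ b ∈ B, ⁅z, b⁆ ∈ D := by
    intro z hz b hb
    obtain ⟨hzZ, hzB⟩ := Subgroup.mem_inf.mp hz
    refine Subgroup.mem_inf.mpr ⟨?_, commutator_mem_commutator hzB hb⟩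
    have h1 : ⁅z, b⁆ = z * (b * z⁻¹ * b⁻¹) := by simp only [commutatorElement_def]; group
    rw [h1]
    exact mul_mem hzZ (hZS b (hBS hb) _ (inv_mem hzZ))
  have hB₁T : B₁ ≤ centMod B D := normalClosure_le_normal (fun z hz => hcomm z hz)
  have hB₁' : ⁅B₁, B₁⁆ ≤ D := by
    rw [commutator_le]
    intro u hu v hv
    exact hB₁T hu v (hB₁B hv)
  have hDcent : B₁ ≤ centralizer (D : Set G) := by
    apply normalClosure_le_normal
    intro z hz
    rw [SetLike.mem_coe, mem_centralizer_iff]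
    intro d hd
    exact ZE_comm (P : Subgroup G) d (Subgroup.mem_inf.mp hd).1 z (Subgroup.mem_inf.mp hz).1
  have hZc : ∀ z ∈ ⁅B₁, B₁⁆, ∀ b ∈ B₁, z * b = b * z := by
    intro z hz b hb
    have := hDcent hb
    rw [mem_centralizer_iff] at this
    exact this z (hB₁' hz)
  -- the subgroup `B₂ = Ω₁(B₁)`
  set X : Set G := {x | x ∈ B₁ ∧ x ^ p = 1} with hX
  set B₂ := normalClosure X with hB₂
  haveI hB₂n : B₂.Normal := normalClosure_normal
  have hB₂B₁ : B₂ ≤ B₁ := normalClosure_le_normal (fun x hx => hx.1)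
  have hB₂S : B₂ ≤ P := hB₂B₁.trans hB₁S
  have hXB₂ : X ⊆ B₂ := subset_normalClosure
  have hB₂' : ⁅B₂, B₂⁆ ≤ ⁅B₁, B₁⁆ := commutator_mono hB₂B₁ hB₂B₁
  have hZc₂ : ∀ z ∈ ⁅B₂, B₂⁆, ∀ b ∈ B₂, z * b = b * z :=
    fun z hz b hb => hZc z (hB₂' hz) b (hB₂B₁ hb)
  have hB₂e : ∀ b ∈ B₂, b ^ p = 1 := by
    apply exp_of_classTwo hp2 hZc₂ (X := Group.conjugatesOfSet X)
    · intro y hy
      refine ⟨Subgroup.subset_closure hy, ?_⟩
      obtain ⟨z, hz, hzy⟩ := Group.mem_conjugatesOfSet_iff.mp hy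
      obtain ⟨g, rfl⟩ := isConj_iff.mp hzy
      rw [conj_pow, hz.2, mul_one, mul_inv_cancel]
    · exact le_rfl
  have hZA₂ : ∀ A ∈ maxEIn p (P : Subgroup G), ⁅B₂, B₂⁆ ≤ A := by
    intro A hA z hz
    have hzZ : z ∈ Z := (hB₁' (hB₂' hz)).1
    have hzB₂ : z ∈ B₂ := commutator_le_left B₂ B₂ hz
    exact WE_le_of_mem hA (mem_WE_of_mem_ZE hzZ (hB₂e z hzB₂))
  have hSB₂ : ∀ s ∈ (P : Subgroup G), ∀ b ∈ B₂, s * b * s⁻¹ ∈ B₂ :=
    fun s _ b hb => hB₂n.conj_mem b hb s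
  obtain ⟨A, hA, hB₂A⟩ := exists_normalizedE hp2 hSp hB₂S hB₂e hSB₂ hZA₂ hZc₂
  by_cases hK : ∀ y : G, (orderOf y).Coprime p → y ∈ centralizer (B₂ : Set G)
  · -- all `p'`-elements centralize `B₁`
    apply h.normal_of_normalizer
    · intro s hs
      apply mem_normalizer_of_conj_mem
      intro z hz
      exact Subgroup.mem_inf.mpr ⟨hZS s hs z (Subgroup.mem_inf.mp hz).1,
        hBn.conj_mem z (Subgroup.mem_inf.mp hz).2 s⟩
    · intro y hy
      have h1 : y ∈ centralizer (B₁ : Set G) := by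
        apply h.centralizes_of_omega B₁ hB₁p hy
        intro x hx hxp
        have := hK y hy
        rw [mem_centralizer_iff] at this
        exact (this x (hXB₂ ⟨hx, hxp⟩)).symm
      exact centralizer_le_normalizer _ (centralizer_le hsub h1)
  · exfalso
    have hCV : centralizer (B₂ : Set G) ≤ Q := by
      rcases h.dichotomy (centralizer (B₂ : Set G)) with h1 | h1
      · exact h1
      · exact absurd h1 hK
    have hB₂Q : B₂ ≤ Q := h.hOp B₂ hB₂n (hB₁p.to_le hB₂B₁)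
    apply hno A hA
    intro a ha
    apply h.mem_of_quad B₂ hB₂Q hCV
    have h1 : ⁅B₂, zpowers a⁆ ≤ A := by
      rw [commutator_le]
      intro b hb t ht
      have ht' : t ∈ A := (zpowers_le.mpr ha) ht
      have h2 : b * t * b⁻¹ ∈ A := (mem_normalizer_iff.mp (hB₂A hb) t).mp ht'
      have : ⁅b, t⁆ = (b * t * b⁻¹) * t⁻¹ := by simp only [commutatorElement_def]
      rw [this]
      exact mul_mem h2 (inv_mem ht')
    rw [eq_bot_iff]
    refine (commutator_mono h1 le_rfl).trans ?_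
    rw [commutator_le]
    intro u hu t ht
    have ht' : t ∈ A := (zpowers_le.mpr ha) ht
    rw [mem_bot]
    exact commutatorElement_eq_one_iff_commute.mpr (hA.2.1 u hu t ht')

/-- `Z(J_e(P))` is normal in the final configuration -/
theorem Cfg.ZE_normal (h : Cfg p G P Q) : (ZE p (P : Subgroup G)).Normal := by
  by_cases hex : ∃ A ∈ maxEIn p (P : Subgroup G), A ≤ Q
  · obtain ⟨A, hA, hAQ⟩ := hex
    exact h.normal_of_exists_le hA hAQ
  · push_neg at hex
    have := h.ZE_inf_normal hex _ Q h.hQn h.isPGroup rfl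
    rwa [inf_eq_left.mpr h.ZE_le] at this

end cfg

section thm

variable {p : ℕ} [hp : Fact p.Prime]

/-- **Glauberman–Thompson normal `p`-complement theorem** for `Z(J_e(P))`. -/
theorem glauberman_thompson_ZE (hp2 : p ≠ 2) {G : Type u} [Group G] [Finite G] (P : Sylow p G)
    (h : NPC p ↥(normalizer (ZE p (P : Subgroup G) : Set G))) : NPC p G := by
  apply npc_of_functor (ZEf_good p) _ _ G rfl P h
  intro G _ _ P Q _ hQP hOp hcent hquot hcoatom
  have hQeq := Cfsg.Agent.Lib.Lead.QuadStable.pCore_eq_of_config P Q hQP hOp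
  have hc : centralizer (Cfsg.pCore p G : Set G) ≤ Cfsg.pCore p G := by rw [hQeq]; exact hcent
  have hst := Cfsg.Agent.Lib.Lead.QuadStable.stable_of_coatom hp2 P Q hQP hcent hquot hcoatom
  have hWE := WE_normal hp2 hc (fun V hVn hVp => hst V (hOp V hVn hVp)) P
  exact Cfg.ZE_normal ⟨hp2, inferInstance, hQP, hOp, hcent, hcoatom, hst, hWE⟩

theorem centerThompsonOf_eq_ZE {G : Type u} [Group G] (S : Subgroup G) :
    Cfsg.centerThompsonOf p S = ZE p S := by
  unfold Cfsg.centerThompsonOf ZE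
  rw [thompsonSubgroupOf_eq_JE]

end thm

end Cfsg.Agent.Lib.Helper15.ZJE
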