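import Mathlib
import Cfsg.Agent.Lib.Helper15.ZJE4

/-! Glauberman's ZJ-theorem for `Z(J_e(S))`: in a `p`-stable group `G` (`p` odd) with
`C_G(O_p(G)) ≤ O_p(G)`, the centre of the elementary abelian Thompson subgroup is normal. -/

set_option autoImplicit false

universe u

namespace Cfsg.Agent.Lib.Helper15.ZJE

open Subgroup
open scoped commutatorElement
open Cfsg.Agent.Lib.Lead.GlaubermanRepl Cfsg.Agent.Lib.Lead.GlaubermanReplE
open Cfsg.Agent.Lib.Lead.GlaubermanZJ Cfsg.Agent.Lib.Lead.GlaubermanZJE Cfsg.Agent.Lib.Helper16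
open Cfsg.Agent.Lib.Helper13 Cfsg.Agent.Lib.Helper17

section gen

variable {G : Type*} [Group G] [Finite G] {p : ℕ} [hp : Fact p.Prime]

/-- a `p'`-element centralizing the elements of order dividing `p` of the normal `p`-subgroup `R`
centralizes `R` (`p` odd) -/
theorem centralizes_of_omega_gen (hp2 : p ≠ 2) (R : Subgroup G) [hRn : R.Normal]
    (hRp : IsPGroup p R) {y : G} (hy : (orderOf y).Coprime p)
    (hfix : ∀ x ∈ R, x ^ p = 1 → y * x = x * y) : y ∈ centralizer (R : Set G) := by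
  have hcop : (Nat.card (zpowers y)).Coprime p := by rw [Nat.card_zpowers]; exact hy
  have h1 := Cfsg.Agent.Lib.Helper1.centralizes_of_centralizes_omega_one p hp2 (zpowers y) hcop
    (Nat.card R) R rfl hRp (by rw [normalizer_eq_top_iff.mpr hRn]; exact le_top)
    (by
      intro x hx hxp
      rw [zpowers_le, mem_centralizer_iff]
      intro t ht
      rw [Set.mem_singleton_iff.mp ht]
      exact (hfix x hx hxp).symm)
  exact h1 (mem_zpowers y)

/-- the `p'`-part trick: some `p`-power of `c` has order prime to `p` -/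
theorem exists_pow_coprime (c : G) : ∃ k : ℕ, (orderOf (c ^ p ^ k)).Coprime p := by
  refine ⟨(orderOf c).factorization p, ?_⟩
  have hpos : 0 < orderOf c := orderOf_pos c
  set k := (orderOf c).factorization p with hk
  set m := orderOf c / p ^ k with hm
  have h1 : p ^ k * m = orderOf c := Nat.ordProj_mul_ordCompl_eq_self (orderOf c) p
  have h2 : m.Coprime p := (Nat.coprime_ordCompl hp.out hpos.ne').symm
  have h3 : (c ^ p ^ k) ^ m = 1 := by
    rw [← pow_mul, h1, pow_orderOf_eq_one]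
  exact Nat.Coprime.coprime_dvd_left (orderOf_dvd_of_pow_eq_one h3) h2

theorem ZE_inf_normal_gen (hp2 : p ≠ 2)
    (hst : ∀ (P : Subgroup G) [P.Normal], IsPGroup p P → Cfsg.IsPStableOn p P)
    (S : Sylow p G) (n : ℕ) : ∀ B : Subgroup G, B.Normal → IsPGroup p B → Nat.card B = n →
      (ZE p (S : Subgroup G) ⊓ B).Normal := by
  induction n using Nat.strong_induction_on with
  | _ n ih =>
  intro B hBn hBp hBcard
  classical
  have hSp : IsPGroup p (S : Subgroup G) := S.isPGroup'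
  have hBS : B ≤ S := normal_pgroup_le_sylow hBn hBp S
  by_cases hB1 : B = ⊥
  · rw [hB1, inf_bot_eq]; infer_instance
  haveI := hBn
  have hB'n : (⁅B, B⁆ : Subgroup G).Normal := inferInstance
  have hB'le : ⁅B, B⁆ ≤ B := by
    rw [commutator_le]
    intro g₁ h₁ g₂ h₂
    exact mul_mem (mul_mem (mul_mem h₁ h₂) (inv_mem h₁)) (inv_mem h₂)
  have hB'lt : Nat.card (⁅B, B⁆ : Subgroup G) < n := hBcard ▸ derived_card_lt hBp hB1
  have hDn : (ZE p (S : Subgroup G) ⊓ ⁅B, B⁆).Normal :=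
    ih _ hB'lt ⁅B, B⁆ hB'n (hBp.to_le hB'le) rfl
  haveI := hDn
  set Z := ZE p (S : Subgroup G) with hZ
  set D := Z ⊓ ⁅B, B⁆ with hD
  set B₁ := normalClosure ((Z ⊓ B : Subgroup G) : Set G) with hB₁
  haveI hB₁n : B₁.Normal := normalClosure_normal
  have hB₁B : B₁ ≤ B := normalClosure_le_normal inf_le_right
  have hB₁S : B₁ ≤ S := hB₁B.trans hBS
  have hB₁p : IsPGroup p B₁ := hBp.to_le hB₁B
  have hsub : Z ⊓ B ≤ B₁ := le_normalClosure
  have hZS : ∀ s ∈ (S : Subgroup G), ∀ z ∈ Z, s * z * s⁻¹ ∈ Z :=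
    fun s hs z hz => ZE_conj (le_normalizer hs) hz
  have hcomm : ∀ z ∈ Z ⊓ B, ∀ b ∈ B, ⁅z, b⁆ ∈ D := by
    intro z hz b hb
    obtain ⟨hzZ, hzB⟩ := Subgroup.mem_inf.mp hz
    refine Subgroup.mem_inf.mpr ⟨?_, commutator_mem_commutator hzB hb⟩
    have h1 : ⁅z, b⁆ = z * (b * z⁻¹ * b⁻¹) := by simp only [commutatorElement_def]; group
    rw [h1]
    exact mul_mem hzZ (hZS b (hBS hb) _ (inv_mem hzZ))
  have hB₁T : B₁ ≤ centMod B D := normalClosure_le_normal (fun z hz => hcomm z hz)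
  have hB₁' : ⁅B₁, B₁⁆ ≤ D := by
    rw [commutator_le]
    intro u hu v hv
    exact hB₁T hu v (hB₁B hv)
  have hDcent : B₁ ≤ centralizer (D : Set G) := by
    apply normalClosure_le_normal
    intro z hz
    rw [SetLike.mem_coe, mem_centralizer_iff]
    intro d hd
    exact ZE_comm (S : Subgroup G) d (Subgroup.mem_inf.mp hd).1 z (Subgroup.mem_inf.mp hz).1
  have hZc : ∀ z ∈ ⁅B₁, B₁⁆, ∀ b ∈ B₁, z * b = b * z := by
    intro z hz b hb
    have := hDcent hb
    rw [mem_centralizer_iff] at this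
    exact this z (hB₁' hz)
  -- the subgroup `B₂ = Ω₁(B₁)`
  set X : Set G := {x | x ∈ B₁ ∧ x ^ p = 1} with hX
  set B₂ := normalClosure X with hB₂
  haveI hB₂n : B₂.Normal := normalClosure_normal
  have hB₂B₁ : B₂ ≤ B₁ := normalClosure_le_normal (fun x hx => hx.1)
  have hB₂S : B₂ ≤ S := hB₂B₁.trans hB₁S
  have hB₂p : IsPGroup p B₂ := hB₁p.to_le hB₂B₁
  have hXB₂ : X ⊆ B₂ := subset_normalClosure
  have hB₂' : ⁅B₂, B₂⁆ ≤ ⁅B₁, B₁⁆ := commutator_mono hB₂B₁ hB₂B₁
  have hZc₂ : ∀ z ∈ ⁅B₂, B₂⁆, ∀ b ∈ B₂, z * b = b * z :=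
    fun z hz b hb => hZc z (hB₂' hz) b (hB₂B₁ hb)
  have hB₂e : ∀ b ∈ B₂, b ^ p = 1 := by
    apply exp_of_classTwo hp2 hZc₂ (X := Group.conjugatesOfSet X)
    · intro y hy
      refine ⟨Subgroup.subset_closure hy, ?_⟩
      obtain ⟨z, hz, hzy⟩ := Group.mem_conjugatesOfSet_iff.mp hy
      obtain ⟨g, rfl⟩ := isConj_iff.mp hzy
      rw [conj_pow, hz.2, mul_one, mul_inv_cancel]
    · exact le_rfl
  have hZA₂ : ∀ A ∈ maxEIn p (S : Subgroup G), ⁅B₂, B₂⁆ ≤ A := by
    intro A hA z hz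
    have hzZ : z ∈ Z := (hB₁' (hB₂' hz)).1
    have hzB₂ : z ∈ B₂ := commutator_le_left B₂ B₂ hz
    exact WE_le_of_mem hA (mem_WE_of_mem_ZE hzZ (hB₂e z hzB₂))
  have hSB₂ : ∀ s ∈ (S : Subgroup G), ∀ b ∈ B₂, s * b * s⁻¹ ∈ B₂ :=
    fun s _ b hb => hB₂n.conj_mem b hb s
  obtain ⟨A, hA, hB₂A⟩ := exists_normalizedE hp2 hSp hB₂S hB₂e hSB₂ hZA₂ hZc₂
  -- the subgroups `C₀ ≤ C ≤ L`
  set C := centralizer (B₂ : Set G) with hC
  set C₀ := centralizer (B₁ : Set G) with hC₀
  haveI hC₀n : C₀.Normal := inferInstance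
  have hC₀C : C₀ ≤ C := centralizer_le hB₂B₁
  set L : Subgroup G := (Cfsg.pCore p (G ⧸ C)).comap (QuotientGroup.mk' C) with hL
  haveI hLn : L.Normal := (pCore_normal p (G ⧸ C)).comap _
  have hCL : C ≤ L := by
    intro c hc
    rw [hL, Subgroup.mem_comap, QuotientGroup.mk'_apply, (QuotientGroup.eq_one_iff c).mpr hc]
    exact one_mem _
  have hCpow : ∀ c ∈ C, ∃ k : ℕ, c ^ p ^ k ∈ C₀ := by
    intro c hc
    obtain ⟨k, hk⟩ := exists_pow_coprime (p := p) c
    refine ⟨k, ?_⟩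
    apply centralizes_of_omega_gen hp2 B₁ hB₁p hk
    intro x hx hxp
    have h1 : c ^ p ^ k ∈ C := pow_mem hc _
    rw [hC, mem_centralizer_iff] at h1
    exact (h1 x (hXB₂ ⟨hx, hxp⟩)).symm
  have hLpow : ∀ l ∈ L, ∃ k : ℕ, l ^ p ^ k ∈ C₀ := by
    intro l hl
    rw [hL, Subgroup.mem_comap] at hl
    obtain ⟨k, hk⟩ := (pCore_isPGroup p (G ⧸ C)) ⟨_, hl⟩
    have h1 := congrArg Subtype.val hk
    simp only [Subgroup.coe_pow, Subgroup.coe_one, QuotientGroup.mk'_apply] at h1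
    rw [← QuotientGroup.mk_pow] at h1
    have h2 : l ^ p ^ k ∈ C := (QuotientGroup.eq_one_iff _).mp h1
    obtain ⟨k', hk'⟩ := hCpow _ h2
    refine ⟨k + k', ?_⟩
    rw [pow_add, pow_mul]
    exact hk'
  have hquad : ∀ A' ∈ maxEIn p (S : Subgroup G), B₂ ≤ normalizer (A' : Set G) → A' ≤ L := by
    intro A' hA' hN a ha
    have hq : ⁅⁅B₂, zpowers a⁆, zpowers a⁆ = ⊥ := by
      have h1 : ⁅B₂, zpowers a⁆ ≤ A' := by
        rw [commutator_le]
        intro b hb t ht
        have ht' : t ∈ A' := (zpowers_le.mpr ha) ht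
        have h2 : b * t * b⁻¹ ∈ A' := (mem_normalizer_iff.mp (hN hb) t).mp ht'
        have : ⁅b, t⁆ = (b * t * b⁻¹) * t⁻¹ := by simp only [commutatorElement_def]
        rw [this]
        exact mul_mem h2 (inv_mem ht')
      rw [eq_bot_iff]
      refine (commutator_mono h1 le_rfl).trans ?_
      rw [commutator_le]
      intro u hu t ht
      have ht' : t ∈ A' := (zpowers_le.mpr ha) ht
      rw [mem_bot]
      exact commutatorElement_eq_one_iff_commute.mpr (hA'.2.1 u hu t ht')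
    have := hst B₂ hB₂p a hq
    rw [hL, Subgroup.mem_comap]
    exact this
  have hAL : A ≤ L := hquad A hA hB₂A
  -- the Sylow subgroup S₁ = S ⊓ L of L
  set S₁ : Subgroup G := (S : Subgroup G) ⊓ L with hS₁
  have hAS₁ : A ≤ S₁ := le_inf hA.1 hAL
  have hS₁p : IsPGroup p (S₁.subgroupOf L) := (hSp.to_le inf_le_left).comap_subtype
  have hindex : ¬ p ∣ (S₁.subgroupOf L).index := by
    have e1 := card_sup_mul_card_inf (S : Subgroup G) L (le_normalizer_of_normal)
    have e2 := Cfsg.Agent.S0598.card_mul_relIndex (inf_le_right : (S : Subgroup G) ⊓ L ≤ L)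
    have e3 := Cfsg.Agent.S0598.card_mul_relIndex (le_sup_left : (S : Subgroup G) ≤ (S : Subgroup G) ⊔ L)
    have e4 : ((S : Subgroup G) ⊓ L).relIndex L = (S : Subgroup G).relIndex ((S : Subgroup G) ⊔ L) := by
      have pS : 0 < Nat.card (S : Subgroup G) := Nat.card_pos
      have pI : 0 < Nat.card ((S : Subgroup G) ⊓ L : Subgroup G) := Nat.card_pos
      rw [← e3, ← e2] at e1
      have : Nat.card (S : Subgroup G) * Nat.card ((S : Subgroup G) ⊓ L : Subgroup G) *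
          (S : Subgroup G).relIndex ((S : Subgroup G) ⊔ L)
          = Nat.card (S : Subgroup G) * Nat.card ((S : Subgroup G) ⊓ L : Subgroup G) *
          ((S : Subgroup G) ⊓ L).relIndex L := by
        calc Nat.card (S : Subgroup G) * Nat.card ((S : Subgroup G) ⊓ L : Subgroup G) *
            (S : Subgroup G).relIndex ((S : Subgroup G) ⊔ L)
            = Nat.card (S : Subgroup G) * (S : Subgroup G).relIndex ((S : Subgroup G) ⊔ L) *
              Nat.card ((S : Subgroup G) ⊓ L : Subgroup G) := by ring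
          _ = Nat.card (S : Subgroup G) * (Nat.card ((S : Subgroup G) ⊓ L : Subgroup G) *
              ((S : Subgroup G) ⊓ L).relIndex L) := e1
          _ = Nat.card (S : Subgroup G) * Nat.card ((S : Subgroup G) ⊓ L : Subgroup G) *
              ((S : Subgroup G) ⊓ L).relIndex L := by ring
      exact (Nat.eq_of_mul_eq_mul_left (Nat.mul_pos pS pI) this).symm
    intro hdvd
    have h1 : (S₁.subgroupOf L).index = ((S : Subgroup G) ⊓ L).relIndex L := rfl
    rw [h1, e4] at hdvd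
    exact S.not_dvd_index (hdvd.trans (Subgroup.relIndex_dvd_index_of_le le_sup_left))
  set Q : Sylow p L := hS₁p.toSylow hindex with hQ
  have hQmap : (Q : Subgroup L).map L.subtype = S₁ := by
    rw [hQ, IsPGroup.toSylow_coe, Subgroup.subgroupOf_map_subtype, hS₁]
    exact inf_eq_left.mpr inf_le_right
  have hfrat := Sylow.normalizer_sup_eq_top Q
  rw [hQmap] at hfrat
  -- L = S₁ C₀
  have hLdecomp : ∀ l ∈ L, ∃ t ∈ S₁, ∃ c ∈ C₀, l = t * c := by
    intro l hl
    haveI : (C₀.subgroupOf L).Normal := inferInstance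
    have hQp : IsPGroup p (L ⧸ C₀.subgroupOf L) := by
      intro x
      induction x using QuotientGroup.induction_on with
      | H y =>
        obtain ⟨k, hk⟩ := hLpow y y.2
        refine ⟨k, ?_⟩
        rw [← QuotientGroup.mk_pow, QuotientGroup.eq_one_iff, Subgroup.mem_subgroupOf]
        simpa using hk
    obtain ⟨t, ht, c, hc, htc⟩ :=
      Cfsg.Agent.Lib.Lead.ThompsonRepl.exists_mul_of_quotient_isPGroup (C₀.subgroupOf L) hQp Q ⟨l, hl⟩
    refine ⟨t, ?_, c, Subgroup.mem_subgroupOf.mp hc, ?_⟩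
    · rw [← hQmap]; exact ⟨t, ht, rfl⟩
    · have := congrArg Subtype.val htc
      simpa using this
  have hGdecomp : ∀ g : G, ∃ m ∈ normalizer (S₁ : Set G), ∃ c ∈ C₀, g = m * c := by
    intro g
    have hg : g ∈ (normalizer (S₁ : Set G) ⊔ L : Subgroup G) := hfrat ▸ mem_top g
    rw [← SetLike.mem_coe, mul_normal] at hg
    obtain ⟨m, hm, l, hl, rfl⟩ := Set.mem_mul.mp hg
    obtain ⟨t, ht, c, hc, rfl⟩ := hLdecomp l hl
    exact ⟨m * t, mul_mem hm (le_normalizer ht), c, hc, by rw [mul_assoc]⟩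
  obtain ⟨hA₁, hsub₁⟩ := maxEIn_mono hA hAS₁ (inf_le_left : S₁ ≤ (S : Subgroup G))
  have hJ₁ : JE p S₁ ≤ JE p (S : Subgroup G) := sSup_le (fun A' hA' => le_JE (hsub₁ hA'))
  -- conjugation of elements of `Z ⊓ B`
  have hconj : ∀ z ∈ Z ⊓ B, ∀ g : G, ∃ m ∈ normalizer (S₁ : Set G), g * z * g⁻¹ = m * z * m⁻¹ := by
    intro z hz g
    obtain ⟨m, hm, c, hc, rfl⟩ := hGdecomp g
    refine ⟨m, hm, ?_⟩
    have hzB₁ : z ∈ B₁ := hsub hz
    have h1 : c * z * c⁻¹ = z := by
      rw [hC₀, mem_centralizer_iff] at hc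
      rw [← hc z hzB₁, mul_inv_cancel_right]
    have h2 : m * c * z * (m * c)⁻¹ = m * (c * z * c⁻¹) * m⁻¹ := by group
    rw [h2, h1]
  -- B₁ centralizes J_e(S₁)
  have hB₁cent : B₁ ≤ centralizer (JE p S₁ : Set G) := by
    rw [hB₁, normalClosure, closure_le]
    intro y hy
    obtain ⟨z, hz, hzy⟩ := Group.mem_conjugatesOfSet_iff.mp hy
    obtain ⟨g, rfl⟩ := isConj_iff.mp hzy
    obtain ⟨m, hm, hgm⟩ := hconj z hz g
    rw [SetLike.mem_coe, hgm, mem_centralizer_iff]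
    intro u hu
    have hu' : m⁻¹ * u * m⁻¹⁻¹ ∈ JE p S₁ := JE_conj (inv_mem hm) hu
    have hzc : z ∈ centralizer (JE p S₁ : Set G) :=
      centralizer_le hJ₁ (ZE_le_centralizer _ (Subgroup.mem_inf.mp hz).1)
    rw [mem_centralizer_iff] at hzc
    have h3 := hzc _ hu'
    calc u * (m * z * m⁻¹) = m * ((m⁻¹ * u * m⁻¹⁻¹) * z) * m⁻¹ := by group
      _ = m * (z * (m⁻¹ * u * m⁻¹⁻¹)) * m⁻¹ := by rw [h3]
      _ = m * z * m⁻¹ * u := by group
  -- every member of 𝒜(S) centralizes B₂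
  have hall : ∀ A' ∈ maxEIn p (S : Subgroup G), ∀ a ∈ A', ∀ b ∈ B₂, a * b = b * a := by
    by_contra hcon
    push_neg at hcon
    let α := {A' : Subgroup G // A' ∈ maxEIn p (S : Subgroup G) ∧
      ¬ (∀ a ∈ A', ∀ b ∈ B₂, a * b = b * a)}
    haveI : Nonempty α := by
      obtain ⟨A', hA', a, ha, b, hb, hab⟩ := hcon
      exact ⟨⟨A', hA', fun h => hab (h a ha b hb)⟩⟩
    obtain ⟨⟨A', hA', hA'not⟩, hmax⟩ :=
      Finite.exists_max (fun A' : α => Nat.card (A'.1 ⊓ B₂ : Subgroup G))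
    by_cases hN : B₂ ≤ normalizer (A' : Set G)
    · apply hA'not
      have h1 : A' ≤ S₁ := le_inf hA'.1 (hquad A' hA' hN)
      have h2 : A' ∈ maxEIn p S₁ := (maxEIn_mono hA' h1 inf_le_left).1
      intro a ha b hb
      have h3 := hB₁cent (hB₂B₁ hb)
      rw [mem_centralizer_iff] at h3
      exact h3 a (le_JE h2 ha)
    · obtain ⟨A'', hA'', hlt, hA''N⟩ := replacementE hp2 hSp hA' hB₂S hB₂e (hZA₂ A' hA') hZc₂
        (fun a ha b hb => hSB₂ a (hA'.1 ha) b hb) hN
      by_cases hcen : ∀ a ∈ A'', ∀ b ∈ B₂, a * b = b * a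
      · apply hN
        intro b hb
        apply hA''N
        exact mem_of_centralizesE hA'' (hB₂S hb) (hB₂e b hb) (fun a ha => (hcen a ha b hb).symm)
      · have h1 := hmax ⟨A'', hA'', hcen⟩
        have h2 : (A' ⊓ B₂ : Subgroup G) = A'' ⊓ B₂ := Subgroup.eq_of_le_of_card_ge hlt.le h1
        exact hlt.ne h2
  -- hence every member of 𝒜(S) lies in S₁
  have hAllS₁ : ∀ A' ∈ maxEIn p (S : Subgroup G), A' ≤ S₁ := by
    intro A' hA' a ha
    refine Subgroup.mem_inf.mpr ⟨hA'.1 ha, hCL ?_⟩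
    rw [hC, mem_centralizer_iff]
    intro b hb
    exact (hall A' hA' a ha b hb).symm
  have hmaxeq : maxEIn p S₁ = maxEIn p (S : Subgroup G) := by
    apply Set.Subset.antisymm hsub₁
    intro A' hA'
    exact (maxEIn_mono hA' (hAllS₁ A' hA') inf_le_left).1
  have hZeq : ZE p S₁ = Z := by
    rw [hZ]
    unfold ZE JE
    rw [hmaxeq]
  constructor
  intro z hz g
  obtain ⟨m, hm, hgm⟩ := hconj z hz g
  refine Subgroup.mem_inf.mpr ⟨?_, hBn.conj_mem z (Subgroup.mem_inf.mp hz).2 g⟩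
  rw [hgm, ← hZeq]
  apply ZE_conj hm
  rw [hZeq]
  exact (Subgroup.mem_inf.mp hz).1

theorem ZE_le_pCore
    (hc : Subgroup.centralizer (Cfsg.pCore p G : Set G) ≤ Cfsg.pCore p G)
    (hst : ∀ (P : Subgroup G) [P.Normal], IsPGroup p P → Cfsg.IsPStableOn p P)
    (S : Sylow p G) : ZE p (S : Subgroup G) ≤ Cfsg.pCore p G := by
  classical
  set O := Cfsg.pCore p G with hO
  haveI hOn : O.Normal := pCore_normal p G
  have hOp : IsPGroup p O := pCore_isPGroup p G
  have hOS : O ≤ S := pCore_le_sylow S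
  set C := centralizer (O : Set G) with hC
  set L : Subgroup G := (Cfsg.pCore p (G ⧸ C)).comap (QuotientGroup.mk' C) with hL
  haveI hLn : L.Normal := (pCore_normal p (G ⧸ C)).comap _
  have hLp : IsPGroup p L := by
    rintro ⟨l, hl⟩
    rw [hL, Subgroup.mem_comap] at hl
    obtain ⟨k, hk⟩ := (pCore_isPGroup p (G ⧸ C)) ⟨_, hl⟩
    have h1 := congrArg Subtype.val hk
    simp only [Subgroup.coe_pow, Subgroup.coe_one, QuotientGroup.mk'_apply] at h1
    rw [← QuotientGroup.mk_pow] at h1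
    have h2 : l ^ p ^ k ∈ O := hc ((QuotientGroup.eq_one_iff _).mp h1)
    obtain ⟨k', hk'⟩ := hOp ⟨_, h2⟩
    refine ⟨k + k', ?_⟩
    apply Subtype.ext
    have h3 := congrArg Subtype.val hk'
    simp only [Subgroup.coe_pow, Subgroup.coe_one] at h3 ⊢
    rw [pow_add, pow_mul]
    exact h3
  have hLO : L ≤ O := le_pCore hLn hLp
  intro z hz
  apply hLO
  have hq : ⁅⁅O, zpowers z⁆, zpowers z⁆ = ⊥ := by
    have h1 : ⁅O, zpowers z⁆ ≤ ZE p (S : Subgroup G) := by
      rw [commutator_le]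
      intro o ho t ht
      have ht' : t ∈ ZE p (S : Subgroup G) := (zpowers_le.mpr hz) ht
      have h2 : o * t * o⁻¹ ∈ ZE p (S : Subgroup G) := ZE_conj (le_normalizer (hOS ho)) ht'
      have : ⁅o, t⁆ = (o * t * o⁻¹) * t⁻¹ := by simp only [commutatorElement_def]
      rw [this]
      exact mul_mem h2 (inv_mem ht')
    rw [eq_bot_iff]
    refine (commutator_mono h1 le_rfl).trans ?_
    rw [commutator_le]
    intro u hu t ht
    have ht' : t ∈ ZE p (S : Subgroup G) := (zpowers_le.mpr hz) ht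
    rw [mem_bot]
    exact commutatorElement_eq_one_iff_commute.mpr (ZE_comm (S : Subgroup G) u hu t ht')
  have := hst O hOp z hq
  rw [hL, Subgroup.mem_comap]
  exact this

/-- **Glauberman's ZJ-theorem for `Z(J_e(S))`.** -/
theorem ZE_normal_gen (hp2 : p ≠ 2)
    (hc : Subgroup.centralizer (Cfsg.pCore p G : Set G) ≤ Cfsg.pCore p G)
    (hst : ∀ (P : Subgroup G) [P.Normal], IsPGroup p P → Cfsg.IsPStableOn p P)
    (S : Sylow p G) : (ZE p (S : Subgroup G)).Normal := by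
  have h1 := ZE_inf_normal_gen hp2 hst S _ (Cfsg.pCore p G) (pCore_normal p G) (pCore_isPGroup p G) rfl
  rwa [inf_eq_left.mpr (ZE_le_pCore hc hst S)] at h1

end gen

end Cfsg.Agent.Lib.Helper15.ZJE
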