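import Mathlib
import Cfsg.Agent.Lib.Helper15.ZJE5
import Cfsg.Agent.Lib.Helper1.QdConverseAssembly
import Cfsg.Agent.Lib.Helper11.KInfGlue
import Cfsg.Agent.Lib.Helper11.QuadFree2

/-! `Z(J_e)` as an abstract functor: control of strong fusion in `SL₂(p)`-free groups. -/

set_option autoImplicit false
open Cfsg

universe u

namespace Cfsg.Agent.Lib.Helper15.ZJE

open Cfsg.Agent.Lib.Lead.GlaubermanZJE
open Cfsg.Agent.Lib.Helper11.SFS Cfsg.Agent.Lib.Helper11.KInfGlue Cfsg.Agent.Lib.Helper11.QuadFree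
open Cfsg.Agent.Lib.Lead.FunctorNPC

/-- `Z(J_e(Q))` of a group `Q`, as a functor on types -/
def ZEt (p : ℕ) : ∀ (Q : Type u) [Group Q], Subgroup Q := fun Q _ => ZE p (⊤ : Subgroup Q)

variable {p : ℕ}

theorem induced_ZEt {G : Type u} [Group G] (T : Subgroup G) :
    inducedFunctor (G := G) (ZEt p) T = ZE p T := by
  unfold inducedFunctor ZEt
  rw [← ZE_map_of_injOn T.subtype (U := ⊤)
    (fun x _ hx => T.subtype_injective (by rw [hx, map_one]))]
  congr 1
  rw [← MonoidHom.range_eq_map, Subgroup.range_subtype]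

theorem ZEt_char (p : ℕ) [hp : Fact p.Prime] : IsCharPFunctor.{u} p (ZEt p) := by
  constructor
  · intro Q _ _ hQ hnt h
    have hP : IsPGroup p (⊤ : Subgroup Q) := hQ.of_equiv Subgroup.topEquiv.symm
    exact (ZEf_good p).ne_bot Q ⊤ hP (by
      intro h0
      obtain ⟨x, hx⟩ := exists_ne (1 : Q)
      have : x ∈ (⊤ : Subgroup Q) := Subgroup.mem_top x
      rw [h0, Subgroup.mem_bot] at this
      exact hx this) h
  · intro Q R _ _ _ hQ φ
    show (ZE p (⊤ : Subgroup Q)).map φ.toMonoidHom = ZE p (⊤ : Subgroup R)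
    rw [← ZE_map_of_injOn φ.toMonoidHom (U := ⊤)
      (fun x _ hx => φ.injective (by rw [MulEquiv.coe_toMonoidHom] at hx; rw [hx, map_one]))]
    congr 1
    exact Subgroup.map_top_of_surjective _ φ.surjective

theorem hNonNormal_ZEt [hp : Fact p.Prime] (hp2 : p ≠ 2) : HNonNormal.{u} p (ZEt p) := by
  intro Y _ _ T hnn hc
  by_contra hall
  push Not at hall
  have hnps : IsNormalizerPStable p Y :=
    Cfsg.Agent.Lib.Helper1.KStab.nps_self (fun N hN => hall N hN)
  apply hnn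
  rw [induced_ZEt]
  exact ZE_normal_gen hp2 hc
    (fun P _ hP => Cfsg.Agent.Lib.Lead.GlaubermanZJD.isPStableOn_of_normalizerPStable hnps P hP) T

/-- in an `SL₂(p)`-free group (`p` odd), `N_G(Z(J_e(S)))` controls strong fusion in `S` -/
theorem ctl_of_sl2Free [hp : Fact p.Prime] (hp2 : p ≠ 2) {G : Type u} [Group G] [Finite G]
    (hfree : SL2Free p G) (S : Sylow p G) (A : Set G) (g : G) (hA : A ⊆ ((S : Subgroup G) : Set G))
    (hg : ∀ a ∈ A, g * a * g⁻¹ ∈ (S : Subgroup G)) :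
    ∃ x ∈ Subgroup.normalizer ((ZE p (S : Subgroup G) : Subgroup G) : Set G),
      ∀ a ∈ A, g * a * g⁻¹ = x * a * x⁻¹ := by
  have hst : ∀ (K R : Subgroup G) [_hR : (R.subgroupOf K).Normal],
      Cfsg.IsNormalizerPStable p (↥K ⧸ R.subgroupOf K) :=
    fun K R _ => nps_of_sl2Free hp2 (sl2Free_section hfree K R)
  have hsec := secLocN_of_nps (hNonNormal_ZEt hp2) hst
  have hctl := main (ZEt_char p) _ G le_rfl hsec S
  have := hctl A g hA hg
  rwa [induced_ZEt] at this

end Cfsg.Agent.Lib.Helper15.ZJE
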