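import Mathlib

set_option autoImplicit false

/-!
# Involutions acting on groups of odd order: counting inverted elements (helper15)

For an involution `d` normalizing a subgroup `X` of odd order, the number of elements of `X`
inverted by `d` is `|X : C_X(d)|`.
-/

namespace Cfsg.Agent.Lib.Helper15.ZpOdd

variable {G : Type*} [Group G]

theorem conj_conj {d : G} (hd : d * d = 1) (x : G) : d * (d * x * d⁻¹) * d⁻¹ = x := by
  have : d * (d * x * d⁻¹) * d⁻¹ = (d * d) * x * (d * d)⁻¹ := by group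
  rw [this, hd]; group

theorem inv_eq_self_of_sq {d : G} (hd : d * d = 1) : d⁻¹ = d :=
  inv_eq_of_mul_eq_one_left hd

/-- the twisted commutator `x * (x⁻¹)^d` -/
def psi (d x : G) : G := x * (d * x⁻¹ * d⁻¹)

theorem psi_inverted {d : G} (hd : d * d = 1) (x : G) :
    d * psi d x * d⁻¹ = (psi d x)⁻¹ := by
  unfold psi
  have h1 : d * (x * (d * x⁻¹ * d⁻¹)) * d⁻¹ = (d * x * d⁻¹) * (d * (d * x⁻¹ * d⁻¹) * d⁻¹) := by group
  rw [h1, conj_conj hd]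
  group

theorem psi_eq_iff (d x y : G) :
    psi d x = psi d y ↔ d * (x⁻¹ * y) = (x⁻¹ * y) * d := by
  unfold psi
  constructor
  · intro h
    have h2 : x⁻¹ * y = (d * x⁻¹ * d⁻¹) * (d * y⁻¹ * d⁻¹)⁻¹ := by
      have : x⁻¹ * (x * (d * x⁻¹ * d⁻¹)) * (d * y⁻¹ * d⁻¹)⁻¹ =
          x⁻¹ * (y * (d * y⁻¹ * d⁻¹)) * (d * y⁻¹ * d⁻¹)⁻¹ := by rw [h]
      have e1 : x⁻¹ * (x * (d * x⁻¹ * d⁻¹)) * (d * y⁻¹ * d⁻¹)⁻¹ =
          (d * x⁻¹ * d⁻¹) * (d * y⁻¹ * d⁻¹)⁻¹ := by group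
      have e2 : x⁻¹ * (y * (d * y⁻¹ * d⁻¹)) * (d * y⁻¹ * d⁻¹)⁻¹ = x⁻¹ * y := by group
      rw [e1, e2] at this
      exact this.symm
    have h3 : (d * x⁻¹ * d⁻¹) * (d * y⁻¹ * d⁻¹)⁻¹ = d * (x⁻¹ * y) * d⁻¹ := by group
    rw [h3] at h2
    calc d * (x⁻¹ * y) = d * (x⁻¹ * y) * d⁻¹ * d := by group
      _ = (x⁻¹ * y) * d := by rw [← h2]
  · intro h
    have h2 : d * (x⁻¹ * y) * d⁻¹ = x⁻¹ * y := by rw [h]; group
    have h3 : d * x⁻¹ * d⁻¹ = x⁻¹ * y * (d * y⁻¹ * d⁻¹) := by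
      have : d * x⁻¹ * d⁻¹ = (d * (x⁻¹ * y) * d⁻¹) * (d * y⁻¹ * d⁻¹) := by group
      rw [this, h2]
    rw [h3]
    group

theorem psi_pow_of_inverted {d i : G} (hi : d * i * d⁻¹ = i⁻¹) (m : ℕ) :
    psi d (i ^ m) = i ^ (2 * m) := by
  unfold psi
  have h1 : d * (i ^ m)⁻¹ * d⁻¹ = (d * i * d⁻¹)⁻¹ ^ m := by
    rw [← inv_pow, ← conj_pow]
    group
  rw [h1, hi, inv_inv, two_mul, pow_add]

end Cfsg.Agent.Lib.Helper15.ZpOdd
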