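import Cfsg.Agent.Lib.Helper15.ZpOddA

set_option autoImplicit false

/-!
# Counting inverted elements (helper15), part B
-/

namespace Cfsg.Agent.Lib.Helper15.ZpOdd

variable {G : Type*} [Group G]

/-- the set of elements of `X` inverted by `d` -/
def Inverted (X : Subgroup G) (d : G) : Set G := {x | x ∈ X ∧ d * x * d⁻¹ = x⁻¹}

theorem pow_card_sub_eq_one (X : Subgroup G) [Finite X] {x : G} (hx : x ∈ X) :
    x ^ Nat.card X = 1 := by
  have h : (⟨x, hx⟩ : X) ^ Nat.card X = 1 := pow_card_eq_one'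
  have h2 : ((⟨x, hx⟩ : X) ^ Nat.card X : X).1 = x ^ Nat.card X := by
    rw [Subgroup.coe_pow]
  rw [← h2, h]
  rfl

theorem psi_mem (X : Subgroup G) {d : G} (hX : ∀ x ∈ X, d * x * d⁻¹ ∈ X) {x : G} (hx : x ∈ X) :
    psi d x ∈ X := X.mul_mem hx (hX _ (X.inv_mem hx))

theorem psi_mem_inverted (X : Subgroup G) {d : G} (hd : d * d = 1)
    (hX : ∀ x ∈ X, d * x * d⁻¹ ∈ X) {x : G} (hx : x ∈ X) : psi d x ∈ Inverted X d :=
  ⟨psi_mem X hX hx, psi_inverted hd x⟩

/-- every inverted element of an odd order subgroup is a value of `psi` -/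
theorem exists_psi_eq (X : Subgroup G) [Finite X] {d : G} (hodd : Odd (Nat.card X))
    {i : G} (hi : i ∈ Inverted X d) : ∃ x ∈ X, psi d x = i := by
  obtain ⟨k, hk⟩ := hodd
  refine ⟨i ^ (k + 1), X.pow_mem hi.1 _, ?_⟩
  rw [psi_pow_of_inverted hi.2]
  have h1 : 2 * (k + 1) = Nat.card X + 1 := by omega
  rw [h1, pow_succ, pow_card_sub_eq_one X hi.1, one_mul]

/-- `|I_X(d)| * |C_X(d)| = |X|` -/
theorem card_inverted (X : Subgroup G) [Finite X] {d : G} (hd : d * d = 1)
    (hX : ∀ x ∈ X, d * x * d⁻¹ ∈ X) (hodd : Odd (Nat.card X)) :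
    Nat.card (Inverted X d) * Nat.card ↥(X ⊓ Subgroup.centralizer ({d} : Set G)) = Nat.card X := by
  set C : Subgroup X := (X ⊓ Subgroup.centralizer ({d} : Set G)).subgroupOf X with hC
  have h1 : Nat.card X = Nat.card (X ⧸ C) * Nat.card C :=
    Subgroup.card_eq_card_quotient_mul_card_subgroup C
  have h2 : Nat.card C = Nat.card ↥(X ⊓ Subgroup.centralizer ({d} : Set G)) :=
    Nat.card_congr (Subgroup.subgroupOfEquivOfLe inf_le_left).toEquiv
  have hmemC : ∀ x : X, x ∈ C ↔ d * (x : G) = (x : G) * d := by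
    intro x
    rw [hC, Subgroup.mem_subgroupOf, Subgroup.mem_inf, Subgroup.mem_centralizer_iff]
    constructor
    · intro h
      exact (h.2 d (Set.mem_singleton d))
    · intro h
      refine ⟨x.2, ?_⟩
      intro y hy
      rw [Set.mem_singleton_iff] at hy
      rw [hy]; exact h
  let f : X ⧸ C → Inverted X d :=
    Quotient.lift (fun x : X => (⟨psi d (x : G), psi_mem_inverted X hd hX x.2⟩ : Inverted X d))
      (by
        intro x y hxy
        have hxy' : x⁻¹ * y ∈ C := QuotientGroup.leftRel_apply.mp hxy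
        apply Subtype.ext
        show psi d (x : G) = psi d (y : G)
        rw [psi_eq_iff]
        have := (hmemC (x⁻¹ * y)).mp hxy'
        simpa using this)
  have hf_inj : Function.Injective f := by
    intro a b
    refine Quotient.inductionOn₂ a b ?_
    intro x y h
    have h' : psi d (x : G) = psi d (y : G) := congrArg Subtype.val h
    rw [psi_eq_iff] at h'
    apply Quotient.sound
    apply QuotientGroup.leftRel_apply.mpr
    rw [hmemC]
    simpa using h'
  have hf_surj : Function.Surjective f := by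
    rintro ⟨i, hi⟩
    obtain ⟨x, hx, hxi⟩ := exists_psi_eq X hodd hi
    refine ⟨Quotient.mk _ ⟨x, hx⟩, ?_⟩
    apply Subtype.ext
    exact hxi
  have h3 : Nat.card (X ⧸ C) = Nat.card (Inverted X d) :=
    Nat.card_congr (Equiv.ofBijective f ⟨hf_inj, hf_surj⟩)
  rw [h1, h2, h3]

end Cfsg.Agent.Lib.Helper15.ZpOdd
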