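import Cfsg.Agent.Lib.Helper15.ZpOddB
import Cfsg.Agent.Lib.Helper28.DefZeroClassC

set_option autoImplicit false

/-!
# Invariant Sylow subgroups of an odd order subgroup normalized by an involution (helper15)
-/

namespace Cfsg.Agent.Lib.Helper15.ZpOdd

variable {G : Type*} [Group G] [Finite G]

/-- an involution normalizing an odd-order subgroup `N` normalizes a Sylow `q`-subgroup of `N`
(ambient form) -/
theorem exists_invariant_sylow_amb (q : ℕ) (hq : q.Prime) (N : Subgroup G) (hodd : Odd (Nat.card N))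
    {d : G} (hd : d * d = 1) (hN : ∀ x ∈ N, d * x * d⁻¹ ∈ N) :
    ∃ Q : Subgroup G, Q ≤ N ∧ IsPGroup q Q ∧ Nat.card Q = q ^ (Nat.card N).factorization q ∧
      ∀ x ∈ Q, d * x * d⁻¹ ∈ Q := by
  have : Fact q.Prime := ⟨hq⟩
  obtain ⟨Q, hQ⟩ := Cfsg.Agent.Lib.Helper28.exists_invariant_sylow q N hodd d hd hN
  refine ⟨(Q : Subgroup N).map N.subtype, ?_, ?_, ?_, ?_⟩
  · rintro x ⟨c, _, rfl⟩
    exact c.2
  · exact Q.2.map N.subtype
  · rw [Subgroup.card_map_of_injective N.subtype_injective]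
    exact Q.card_eq_multiplicity
  · rintro x ⟨c, hc, rfl⟩
    exact ⟨⟨d * c * d⁻¹, hN c c.2⟩, hQ c hc, rfl⟩

/-- an element whose order is both a `p`-power and a `q`-power is trivial -/
theorem eq_one_of_two_primes {p q : ℕ} (hp : p.Prime) (hq : q.Prime) (hpq : p ≠ q) {w : G}
    (h1 : ∃ k : ℕ, orderOf w = p ^ k) (h2 : ∃ j : ℕ, w ^ (q ^ j) = 1) : w = 1 := by
  obtain ⟨k, hk⟩ := h1
  obtain ⟨j, hj⟩ := h2
  have hdvd : orderOf w ∣ q ^ j := orderOf_dvd_of_pow_eq_one hj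
  have hcop : Nat.Coprime (p ^ k) (q ^ j) :=
    Nat.Coprime.pow _ _ ((Nat.coprime_primes hp hq).mpr hpq)
  rw [hk] at hdvd
  have := Nat.Coprime.eq_one_of_dvd hcop hdvd
  rw [← hk] at this
  exact orderOf_eq_one_iff.mp this

end Cfsg.Agent.Lib.Helper15.ZpOdd
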