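import Cfsg.Agent.Lib.Helper15.ZpOddC

set_option autoImplicit false

/-!
# Inverted elements lie in one Sylow subgroup (helper15)

`d` an involution normalizing the odd-order subgroup `N`, all twisted commutators `psi d x`
being `p`-elements: the elements of `N` inverted by `d` all lie in one `d`-invariant Sylow
`p`-subgroup of `N`.
-/

namespace Cfsg.Agent.Lib.Helper15.ZpOdd

variable {G : Type*} [Group G] [Finite G]

/-- `d` centralizes every `d`-invariant `q`-subgroup, `q ≠ p` -/
theorem comm_of_invariant_qgroup {p q : ℕ} (hp : p.Prime) (hq : q.Prime) (hpq : p ≠ q) {d : G}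
    (hpsi : ∀ x : G, ∃ k : ℕ, orderOf (psi d x) = p ^ k)
    (Q : Subgroup G) (hQ : IsPGroup q Q) (hQd : ∀ x ∈ Q, d * x * d⁻¹ ∈ Q) :
    Q ≤ Subgroup.centralizer ({d} : Set G) := by
  intro y hy
  have hw : psi d y ∈ Q := psi_mem Q hQd hy
  have h2 : ∃ j : ℕ, (psi d y) ^ (q ^ j) = 1 := by
    obtain ⟨j, hj⟩ := hQ ⟨psi d y, hw⟩
    refine ⟨j, ?_⟩
    have := congrArg Subtype.val hj
    simpa using this
  have h1 : psi d y = 1 := eq_one_of_two_primes hp hq hpq (hpsi y) h2
  rw [Subgroup.mem_centralizer_iff]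
  intro z hz
  rw [Set.mem_singleton_iff] at hz
  rw [hz]
  -- psi d y = 1 means y * (d y⁻¹ d⁻¹) = 1
  unfold psi at h1
  have h3 : d * y⁻¹ * d⁻¹ = y⁻¹ := by
    have := eq_inv_of_mul_eq_one_right h1
    exact this
  have h4 : d * y⁻¹ = y⁻¹ * d := by
    calc d * y⁻¹ = d * y⁻¹ * d⁻¹ * d := by group
      _ = y⁻¹ * d := by rw [h3]
  -- d commutes with y⁻¹ hence with y
  calc d * y = y * (y⁻¹ * d) * y := by group
    _ = y * (d * y⁻¹) * y := by rw [h4]
    _ = y * d := by group

/-- the number of inverted elements is a power of `p` -/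
theorem card_inverted_pow {p : ℕ} (hp : p.Prime) {d : G} (hd : d * d = 1)
    (hpsi : ∀ x : G, ∃ k : ℕ, orderOf (psi d x) = p ^ k)
    (N : Subgroup G) (hodd : Odd (Nat.card N)) (hN : ∀ x ∈ N, d * x * d⁻¹ ∈ N) :
    ∃ e : ℕ, Nat.card (Inverted N d) = p ^ e := by
  have hA := card_inverted N hd hN hodd
  set a := Nat.card (Inverted N d) with ha
  set c := Nat.card ↥(N ⊓ Subgroup.centralizer ({d} : Set G)) with hc
  have hn0 : Nat.card N ≠ 0 := Nat.card_pos.ne'
  have ha0 : a ≠ 0 := by
    intro h; rw [h, zero_mul] at hA; exact hn0 hA.symm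
  have hc0 : c ≠ 0 := by
    intro h; rw [h, mul_zero] at hA; exact hn0 hA.symm
  refine ⟨_, Nat.eq_prime_pow_of_unique_prime_dvd (p := p) ha0 ?_⟩
  intro q hq hqa
  by_contra hne
  have hpq : p ≠ q := fun h => hne h.symm
  obtain ⟨Q, hQN, hQq, hQcard, hQd⟩ := exists_invariant_sylow_amb q hq N hodd hd hN
  have hQC : Q ≤ N ⊓ Subgroup.centralizer ({d} : Set G) :=
    le_inf hQN (comm_of_invariant_qgroup hp hq hpq hpsi Q hQq hQd)
  have hdvd : Nat.card Q ∣ c := Subgroup.card_dvd_of_le hQC
  rw [hQcard] at hdvd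
  have h1 : (Nat.card N).factorization q ≤ c.factorization q :=
    (hq.pow_dvd_iff_le_factorization hc0).mp hdvd
  have h2 : (Nat.card N).factorization q = a.factorization q + c.factorization q := by
    rw [← hA, Nat.factorization_mul ha0 hc0]
    rfl
  have h3 : a.factorization q = 0 := by omega
  rcases (Nat.factorization_eq_zero_iff a q).mp h3 with h | h | h
  · exact h hq
  · exact h hqa
  · exact ha0 h

/-- all inverted elements lie in one `d`-invariant Sylow `p`-subgroup -/
theorem exists_sylow_inverted_le {p : ℕ} (hp : p.Prime) {d : G} (hd : d * d = 1)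
    (hpsi : ∀ x : G, ∃ k : ℕ, orderOf (psi d x) = p ^ k)
    (N : Subgroup G) (hodd : Odd (Nat.card N)) (hN : ∀ x ∈ N, d * x * d⁻¹ ∈ N) :
    ∃ P : Subgroup G, P ≤ N ∧ IsPGroup p P ∧ Inverted N d ⊆ (P : Set G) := by
  obtain ⟨P, hPN, hPp, hPcard, hPd⟩ := exists_invariant_sylow_amb p hp N hodd hd hN
  refine ⟨P, hPN, hPp, ?_⟩
  have hPodd : Odd (Nat.card P) := by
    obtain ⟨m, hm⟩ := Subgroup.card_dvd_of_le hPN
    rw [hm] at hodd
    exact (Nat.odd_mul.mp hodd).1
  have hA := card_inverted N hd hN hodd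
  have hA' := card_inverted P hd hPd hPodd
  obtain ⟨e, hpow⟩ := card_inverted_pow hp hd hpsi N hodd hN
  set a := Nat.card (Inverted N d) with ha
  set c := Nat.card ↥(N ⊓ Subgroup.centralizer ({d} : Set G)) with hc
  set a' := Nat.card (Inverted P d) with ha'
  set c' := Nat.card ↥(P ⊓ Subgroup.centralizer ({d} : Set G)) with hc'
  have hn0 : Nat.card N ≠ 0 := Nat.card_pos.ne'
  have ha0 : a ≠ 0 := by
    intro h; rw [h, zero_mul] at hA; exact hn0 hA.symm
  have hc0 : c ≠ 0 := by
    intro h; rw [h, mul_zero] at hA; exact hn0 hA.symm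
  have hP0 : Nat.card P ≠ 0 := Nat.card_pos.ne'
  have ha'0 : a' ≠ 0 := by
    intro h; rw [h, zero_mul] at hA'; exact hP0 hA'.symm
  have hc'0 : c' ≠ 0 := by
    intro h; rw [h, mul_zero] at hA'; exact hP0 hA'.symm
  have hcc : c' ∣ c := Subgroup.card_dvd_of_le (inf_le_inf_right _ hPN)
  -- valuations
  have v1 : (Nat.card N).factorization p = a.factorization p + c.factorization p := by
    rw [← hA, Nat.factorization_mul ha0 hc0]; rfl
  have v2 : (Nat.card P).factorization p = a'.factorization p + c'.factorization p := by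
    rw [← hA', Nat.factorization_mul ha'0 hc'0]; rfl
  have v3 : (Nat.card P).factorization p = (Nat.card N).factorization p := by
    rw [hPcard, Nat.Prime.factorization_pow hp]
    simp
  have v4 : c'.factorization p ≤ c.factorization p :=
    (Nat.factorization_le_iff_dvd hc'0 hc0).mpr hcc p
  have v5 : a.factorization p ≤ a'.factorization p := by omega
  -- a' is a p-power as it divides |P|
  have ha'dvd : a' ∣ p ^ (Nat.card N).factorization p := by
    rw [← hPcard, ← hA']; exact Dvd.intro _ rfl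
  obtain ⟨e', _, he'⟩ := (Nat.dvd_prime_pow hp).mp ha'dvd
  have v6 : a'.factorization p = e' := by
    rw [he', Nat.Prime.factorization_pow hp]; simp
  have v7 : a.factorization p = e := by
    rw [hpow, Nat.Prime.factorization_pow hp]; simp
  have hle : a ≤ a' := by
    rw [hpow, he']
    exact Nat.pow_le_pow_right hp.pos (by omega)
  -- subset + cardinalities
  have hsub : Inverted P d ⊆ Inverted N d := fun x hx => ⟨hPN hx.1, hx.2⟩
  have hfin : (Inverted N d).Finite := Set.toFinite _
  have heq : Inverted P d = Inverted N d := by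
    apply Set.eq_of_subset_of_ncard_le hsub _ hfin
    rw [← _root_.Nat.card_coe_set_eq, ← _root_.Nat.card_coe_set_eq]
    exact hle
  intro x hx
  rw [← heq] at hx
  exact hx.1

end Cfsg.Agent.Lib.Helper15.ZpOdd
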