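import Cfsg.Agent.Lib.Helper15.ZpOddD
import Cfsg.Prelude.Def_Solvable

set_option autoImplicit false

/-!
# Z*-type statement for an odd prime, modulo Glauberman's Z*-theorem (helper15)

If `d` is an involution all of whose pairwise conjugate products are `p`-elements (`p` odd) and
`N` is a normal subgroup of odd order containing all commutators `[d, g]`, then all those products
lie in `O_p(G)`.
-/

namespace Cfsg.Agent.Lib.Helper15.ZpOdd

variable {G : Type*} [Group G] [Finite G]

theorem sq_eq_one_of_orderOf_two {d : G} (hd : orderOf d = 2) : d * d = 1 := by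
  rw [← pow_two, ← hd, pow_orderOf_eq_one]

theorem mem_conj_iff {d a : G} : a ∈ conjugatesOf d ↔ ∃ c : G, c * d * c⁻¹ = a := by
  show IsConj d a ↔ _
  exact isConj_iff

theorem conj_sq_eq_one {d : G} (hd : d * d = 1) {a : G} (ha : a ∈ conjugatesOf d) : a * a = 1 := by
  obtain ⟨c, hc⟩ := (mem_conj_iff.mp ha)
  rw [← hc]
  have : c * d * c⁻¹ * (c * d * c⁻¹) = c * (d * d) * c⁻¹ := by group
  rw [this, hd]; group

/-- the subgroup generated by the elements `a * d`, `a` a conjugate of `d` -/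
def commSub (d : G) : Subgroup G := Subgroup.closure {x | ∃ a ∈ conjugatesOf d, x = a * d}

theorem mul_mem_commSub {d : G} (hd : d * d = 1) {a b : G} (ha : a ∈ conjugatesOf d)
    (hb : b ∈ conjugatesOf d) : a * b ∈ commSub d := by
  have hbb := conj_sq_eq_one hd hb
  have h1 : a * b = (a * d) * (b * d)⁻¹ := by
    have hbinv : b⁻¹ = b := inv_eq_of_mul_eq_one_left hbb
    have hdinv : d⁻¹ = d := inv_eq_of_mul_eq_one_left hd
    rw [mul_inv_rev, hbinv, hdinv]
    calc a * b = a * (d * d) * b := by rw [hd, mul_one]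
      _ = a * d * (d * b) := by group
  rw [h1]
  exact (commSub d).mul_mem (Subgroup.subset_closure ⟨a, ha, rfl⟩)
    ((commSub d).inv_mem (Subgroup.subset_closure ⟨b, hb, rfl⟩))

theorem commSub_normal {d : G} (hd : d * d = 1) : (commSub d).Normal := by
  constructor
  intro x hx g
  induction hx using Subgroup.closure_induction with
  | mem y hy =>
    obtain ⟨a, ha, rfl⟩ := hy
    have h1 : g * (a * d) * g⁻¹ = (g * a * g⁻¹) * (g * d * g⁻¹) := by group
    rw [h1]
    apply mul_mem_commSub hd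
    · obtain ⟨c, hc⟩ := (mem_conj_iff.mp ha)
      rw [mem_conj_iff]
      exact ⟨g * c, by rw [← hc]; group⟩
    · rw [mem_conj_iff]
      exact ⟨g, rfl⟩
  | one => rw [mul_one, mul_inv_cancel]; exact Subgroup.one_mem _
  | mul y z _ _ hy hz =>
    have : g * (y * z) * g⁻¹ = (g * y * g⁻¹) * (g * z * g⁻¹) := by group
    rw [this]; exact Subgroup.mul_mem _ hy hz
  | inv y _ hy =>
    have : g * y⁻¹ * g⁻¹ = (g * y * g⁻¹)⁻¹ := by group
    rw [this]; exact Subgroup.inv_mem _ hy

theorem main {p : ℕ} (hp : p.Prime) (d : G) (hd : orderOf d = 2)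
    (hprod : ∀ a ∈ conjugatesOf d, ∀ b ∈ conjugatesOf d, ∃ k : ℕ, orderOf (a * b) = p ^ k)
    (N : Subgroup G) (hN : N.Normal) (hodd : Odd (Nat.card N))
    (hcomm : ∀ g : G, d * g * d⁻¹ * g⁻¹ ∈ N) :
    ∀ a ∈ conjugatesOf d, ∀ b ∈ conjugatesOf d, a * b ∈ Cfsg.pCore p G := by
  have hd2 : d * d = 1 := sq_eq_one_of_orderOf_two hd
  have hdinv : d⁻¹ = d := inv_eq_of_mul_eq_one_left hd2
  have hdd : d ∈ conjugatesOf d := mem_conjugatesOf_self
  -- twisted commutators are products of two conjugates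
  have hpsi_eq : ∀ x : G, psi d x = (x * d * x⁻¹) * d := by
    intro x
    unfold psi
    rw [hdinv]
    group
  have hpsi : ∀ x : G, ∃ k : ℕ, orderOf (psi d x) = p ^ k := by
    intro x
    rw [hpsi_eq]
    apply hprod _ _ _ hdd
    rw [mem_conj_iff]
    exact ⟨x, rfl⟩
  have hNd : ∀ x ∈ N, d * x * d⁻¹ ∈ N := fun x hx => hN.conj_mem x hx d
  obtain ⟨P, hPN, hPp, hIP⟩ := exists_sylow_inverted_le hp hd2 hpsi N hodd hNd
  -- generators of commSub lie in P
  have hK : commSub d ≤ P := by
    unfold commSub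
    rw [Subgroup.closure_le]
    rintro x ⟨a, ha, rfl⟩
    obtain ⟨c, hc⟩ := (mem_conj_iff.mp ha)
    apply hIP
    have h1 : a * d = psi d c := by rw [hpsi_eq, hc]
    rw [h1]
    refine ⟨?_, psi_inverted hd2 c⟩
    have h2 : psi d c = (d * c * d⁻¹ * c⁻¹)⁻¹ := by
      unfold psi; group
    rw [h2]
    exact N.inv_mem (hcomm c)
  have hKp : IsPGroup p (commSub d) := hPp.to_le hK
  have hKn : (commSub d).Normal := commSub_normal hd2
  intro a ha b hb
  have hab : a * b ∈ commSub d := mul_mem_commSub hd2 ha hb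
  have hle : commSub d ≤ Cfsg.pCore p G := by
    unfold Cfsg.pCore
    exact le_sSup ⟨hKn, hKp⟩
  exact hle hab

end Cfsg.Agent.Lib.Helper15.ZpOdd
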